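/-
Scalars and cartesian arrows in the category of pairs (scheme, module).
-/
import Groth.Agent.L26.KL.Theta
import Groth.Agent.L17.BC.TensorA
import Groth.Agent.L03.ShStab.Rank2Local
import Groth.Agent.L18.Frame

open CategoryTheory CategoryTheory.Limits AlgebraicGeometry TopologicalSpace Opposite
open CategoryTheory.Pseudofunctor
open Groth.L18.Frame (rs ro rs_self IsFrame exists_frame)

universe u

noncomputable section

namespace Groth.Agent.ThetaCart

set_option backward.isDefEq.respectTransparency false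
set_option backward.isDefEq.respectTransparency.types false
set_option linter.style.haveILetI false

/-- Pairs of a scheme and a module. -/
abbrev Obj := CoGrothendieck (ThetaGrp.modPF.{u})

/-- The module of a pair. -/
abbrev md (X : Obj.{u}) : X.base.Modules := X.fiber

variable {X Y Z : Obj.{u}}

/-- A function acting on a morphism of pairs. -/
def act (a : Γ(X.base, ⊤)) (f : X ⟶ Y) : X ⟶ Y :=
  ⟨f.base, Formal.smulModΓ (md X) a ≫ f.fiber⟩

@[simp] theorem act_base (a : Γ(X.base, ⊤)) (f : X ⟶ Y) : (act a f).base = f.base := rfl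

/-- The arrow is cartesian. -/
abbrev IsCart (f : X ⟶ Y) : Prop := IsIso f.fiber

theorem isCart_comp (f : X ⟶ Y) (g : Y ⟶ Z) [IsCart f] [IsCart g] : IsCart (f ≫ g) := by
  haveI := KLLib.isIso_mapComp_inv_app f.base g.base Z.fiber
  rw [IsCart, CoGrothendieck.categoryStruct_comp_fiber]
  infer_instance

theorem isCart_id (X : Obj.{u}) : IsCart (𝟙 X) := KLLib.isIso_id_fiber X

theorem isCart_iso {X Y : Obj.{u}} (f : X ≅ Y) : IsCart f.hom := KLLib.isIso_fiber f.hom

theorem act_comp (a : Γ(X.base, ⊤)) (f : X ⟶ Y) (g : Y ⟶ Z) : act a f ≫ g = act a (f ≫ g) := by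
  refine CoGrothendieck.Hom.ext _ _ rfl ?_
  rw [eqToHom_refl, Category.comp_id]
  show (Formal.smulModΓ (md X) a ≫ f.fiber) ≫ _ = Formal.smulModΓ (md X) a ≫ (f.fiber ≫ _)
  exact Category.assoc _ _ _

theorem comp_act (f : X ⟶ Y) (b : Γ(Y.base, ⊤)) (g : Y ⟶ Z) : f ≫ act b g = act (f.base.appTop b) (f ≫ g) := by
  refine CoGrothendieck.Hom.ext _ _ rfl ?_
  rw [eqToHom_refl, Category.comp_id]
  show f.fiber ≫ (Scheme.Modules.pullback f.base).map (Formal.smulModΓ (md Y) b ≫ g.fiber) ≫ _ =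
    Formal.smulModΓ (md X) (f.base.appTop b) ≫ (f.fiber ≫ (Scheme.Modules.pullback f.base).map g.fiber ≫ _)
  rw [Functor.map_comp, Groth.L17.BC.TensorA.pullback_smulModΓ, Category.assoc, ← Category.assoc f.fiber]
  refine (congrArg (· ≫ _) (Groth.L16.Rees.smulModΓ_naturality f.fiber _).symm).trans ?_
  exact Category.assoc _ _ _

theorem smulModΓ_mul (M : X.base.Modules) (a b : Γ(X.base, ⊤)) :
    Formal.smulModΓ M (a * b) = Formal.smulModΓ M a ≫ Formal.smulModΓ M b := by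
  refine Scheme.Modules.hom_ext _ _ fun U => ?_
  ext m
  show (Formal.smulModΓ M _).app U m = (Formal.smulModΓ M _).app U ((Formal.smulModΓ M _).app U m)
  rw [Groth.L16.Rees.smulModΓ_app, Groth.L16.Rees.smulModΓ_app, Groth.L16.Rees.smulModΓ_app, mul_comm a b, map_mul]
  exact mul_smul (show Γ(X.base, U) from Coh.resTop X.base (op U) b) _ m

theorem smulModΓ_one (M : X.base.Modules) : Formal.smulModΓ M 1 = 𝟙 M := by
  refine Scheme.Modules.hom_ext _ _ fun U => ?_
  ext m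
  show (Formal.smulModΓ M _).app U m = _
  rw [Groth.L16.Rees.smulModΓ_app, map_one]
  exact one_smul _ m

theorem smulModΓ_inj {M : X.base.Modules} (hM : PicF.IsInvertible M) {a b : Γ(X.base, ⊤)}
    (h : Formal.smulModΓ M a = Formal.smulModΓ M b) : a = b := by
  refine X.base.IsSheaf.section_ext fun y _ => ?_
  obtain ⟨W, e, hyW, he⟩ := exists_frame hM y
  refine ⟨W, le_top, hyW, he.inj le_rfl ?_⟩
  have h2 := congrArg (fun φ : M ⟶ M => φ.app W e) h
  rw [Groth.L16.Rees.smulModΓ_app, Groth.L16.Rees.smulModΓ_app] at h2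
  simp only [rs_self]
  exact h2

theorem act_one (f : X ⟶ Y) : act 1 f = f := by
  refine CoGrothendieck.Hom.ext _ _ rfl ?_
  rw [eqToHom_refl, Category.comp_id]
  show Formal.smulModΓ (md X) 1 ≫ f.fiber = f.fiber
  rw [smulModΓ_one]
  exact Category.id_comp _

theorem act_act (a b : Γ(X.base, ⊤)) (f : X ⟶ Y) : act a (act b f) = act (a * b) f := by
  refine CoGrothendieck.Hom.ext _ _ rfl ?_
  rw [eqToHom_refl, Category.comp_id]
  show Formal.smulModΓ (md X) a ≫ (Formal.smulModΓ (md X) b ≫ f.fiber) = Formal.smulModΓ (md X) (a * b) ≫ f.fiber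
  rw [smulModΓ_mul]
  exact (Category.assoc _ _ _).symm

theorem isCart_act {a : Γ(X.base, ⊤)} (ha : IsUnit a) (f : X ⟶ Y) [IsCart f] : IsCart (act a f) := by
  obtain ⟨u, rfl⟩ := ha
  haveI : IsIso (Formal.smulModΓ (md X) (u : Γ(X.base, ⊤))) :=
    ⟨Formal.smulModΓ (md X) (↑u⁻¹ : Γ(X.base, ⊤)), by rw [← smulModΓ_mul, u.mul_inv, smulModΓ_one],
      by rw [← smulModΓ_mul, u.inv_mul, smulModΓ_one]⟩
  exact inferInstanceAs (IsIso (Formal.smulModΓ (md X) (u : Γ(X.base, ⊤)) ≫ f.fiber))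

theorem act_inj (hX : PicF.IsInvertible (md X)) (f : X ⟶ Y) [IsCart f] {a b : Γ(X.base, ⊤)}
    (h : act a f = act b f) : a = b := by
  have h' := CoGrothendieck.Hom.congr h
  rw [eqToHom_refl, Category.comp_id] at h'
  exact smulModΓ_inj hX ((cancel_mono f.fiber).1 h')

/-- Two cartesian arrows over the same morphism of schemes differ by a unit. -/
theorem exists_act_eq (hX : PicF.IsInvertible (md X)) (f g : X ⟶ Y) [IsCart f] [IsCart g]
    (h : f.base = g.base) : ∃ a : Γ(X.base, ⊤)ˣ, f = act (a : Γ(X.base, ⊤)) g := by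
  obtain ⟨fb, ff⟩ := f
  obtain ⟨gb, gf⟩ := g
  subst h
  haveI hf : IsIso ff := ‹IsCart (⟨fb, ff⟩ : CoGrothendieck.Hom X Y)›
  haveI hg : IsIso gf := ‹IsCart (⟨fb, gf⟩ : CoGrothendieck.Hom X Y)›
  have key : ∀ k : md X ⟶ md X, ∃ a : Γ(X.base, ⊤), k = Formal.smulModΓ (md X) a := fun k => by
    obtain ⟨a, ha⟩ := Groth.L03.ShStab.Rank2.exists_eq_sc_invertible hX k
    refine ⟨a, ha.trans (Scheme.Modules.hom_ext _ _ fun U => ?_)⟩
    ext s
    exact (Groth.L03.ShStab.Rank2.sc_app (md X) a U s).trans (Groth.L16.Rees.smulModΓ_app (md X) a U s).symm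
  obtain ⟨a, ha⟩ := key (ff ≫ inv gf)
  obtain ⟨b, hb⟩ := key (gf ≫ inv ff)
  have hab : a * b = 1 := smulModΓ_inj hX (by
    rw [smulModΓ_mul, smulModΓ_one, ← ha, ← hb]
    refine (Category.assoc _ _ _).trans ?_
    refine (congrArg (ff ≫ ·) (IsIso.inv_hom_id_assoc gf _)).trans ?_
    exact IsIso.hom_inv_id ff)
  refine ⟨⟨a, b, hab, (mul_comm b a).trans hab⟩, CoGrothendieck.Hom.ext _ _ rfl ?_⟩
  rw [eqToHom_refl, Category.comp_id]
  show ff = Formal.smulModΓ (md X) a ≫ gf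
  rw [← ha]
  exact ((Category.assoc _ _ _).trans ((congrArg (ff ≫ ·) (IsIso.inv_hom_id gf)).trans (Category.comp_id ff))).symm

/-- Cartesian arrows factor everything lying over a factorisation of the base. -/
theorem exists_fac (F : X ⟶ Y) [IsCart F] (h : Z ⟶ Y) (b : Z.base ⟶ X.base) (e : b ≫ F.base = h.base) :
    ∃ γ : Z ⟶ X, γ.base = b ∧ γ ≫ F = h ∧ (IsCart h → IsCart γ) := by
  haveI := KLLib.isIso_mapComp_inv_app b F.base Y.fiber
  let R := (ThetaGrp.modPF.map b.op.toLoc).toFunctor.map F.fiber ≫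
    (ThetaGrp.modPF.mapComp F.base.op.toLoc b.op.toLoc).inv.toNatTrans.app Y.fiber
  haveI : IsIso R := inferInstance
  let E : (ThetaGrp.modPF.map h.base.op.toLoc).toFunctor.obj Y.fiber ⟶
      (ThetaGrp.modPF.map (b ≫ F.base).op.toLoc).toFunctor.obj Y.fiber := eqToHom (by rw [e])
  let γ : Z ⟶ X := ⟨b, (h.fiber ≫ E) ≫ inv R⟩
  refine ⟨γ, rfl, CoGrothendieck.Hom.ext _ _ e ?_, fun hh => ?_⟩
  · show ((h.fiber ≫ E) ≫ inv R) ≫ R = _
    exact (Category.assoc _ _ _).trans ((congrArg (_ ≫ ·) (IsIso.inv_hom_id R)).trans (Category.comp_id _))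
  · haveI : IsIso h.fiber := hh
    exact inferInstanceAs (IsIso ((h.fiber ≫ E) ≫ inv R))

theorem fac_unique (F : X ⟶ Y) [IsCart F] {γ γ' : Z ⟶ X} (hb : γ.base = γ'.base) (h : γ ≫ F = γ' ≫ F) :
    γ = γ' := by
  obtain ⟨b, f⟩ := γ
  obtain ⟨b', f'⟩ := γ'
  subst hb
  haveI := KLLib.isIso_mapComp_inv_app b F.base Y.fiber
  have h' := CoGrothendieck.Hom.congr h
  rw [eqToHom_refl, Category.comp_id] at h'
  exact CoGrothendieck.Hom.ext _ _ rfl (by
    rw [eqToHom_refl, Category.comp_id]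
    exact (cancel_mono ((ThetaGrp.modPF.map b.op.toLoc).toFunctor.map F.fiber ≫
      (ThetaGrp.modPF.mapComp F.base.op.toLoc b.op.toLoc).inv.toNatTrans.app Y.fiber)).1 h')

end Groth.Agent.ThetaCart
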