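/-
Units glue along open coverings.
-/
import Groth.Agent.L18.Frame

open CategoryTheory AlgebraicGeometry TopologicalSpace Opposite
open Groth.L18.Frame (ro ro_ro)

universe u

noncomputable section

namespace Groth.Agent.ThetaPts

set_option backward.isDefEq.respectTransparency false
set_option backward.isDefEq.respectTransparency.types false

/-- Units glue along an open covering. -/
theorem exists_unit_glue {X : Scheme.{u}} {J : Type u} (U : J → X.Opens) (hU : ∀ x, ∃ i, x ∈ U i)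
    (a : ∀ i, Γ((U i).toScheme, ⊤)ˣ)
    (h : ∀ i j, Units.map ((X.homOfLE (inf_le_left : U i ⊓ U j ≤ U i)).appTop.hom.toMonoidHom) (a i) =
      Units.map ((X.homOfLE (inf_le_right : U i ⊓ U j ≤ U j)).appTop.hom.toMonoidHom) (a j)) :
    ∃ b : Γ(X, ⊤)ˣ, ∀ i, Units.map ((U i).ι.appTop.hom.toMonoidHom) b = a i := by
  let V : J → X.Opens := fun i => (U i).ι ''ᵁ ⊤
  have hV : ∀ i, V i = U i := fun i => (U i).ι_image_top
  have glue : ∀ c : ∀ i, Γ((U i).toScheme, ⊤),
      (∀ i j, (X.homOfLE (inf_le_left : U i ⊓ U j ≤ U i)).appTop (c i) =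
        (X.homOfLE (inf_le_right : U i ⊓ U j ≤ U j)).appTop (c j)) →
      ∃! s : Γ(X, ⊤), ∀ i, (U i).ι.appTop s = c i := by
    intro c hc
    refine X.sheaf.existsUnique_gluing' V ⊤ (fun i => homOfLE le_top)
      (fun x _ => Opens.mem_iSup.2 ((hU x).imp fun i hi => (hV i).ge hi)) c fun i j => ?_
    have hle : V i ⊓ V j ≤ (U i ⊓ U j).ι ''ᵁ ⊤ := by rw [Scheme.Opens.ι_image_top, hV, hV]
    have h1 : ro hle ((X.homOfLE (inf_le_left : U i ⊓ U j ≤ U i)).appTop (c i)) =
        ro hle ((X.homOfLE (inf_le_right : U i ⊓ U j ≤ U j)).appTop (c j)) := congrArg (ro hle) (hc i j)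
    rw [Scheme.homOfLE_appTop, Scheme.homOfLE_appTop] at h1
    erw [ro_ro, ro_ro] at h1
    exact h1
  obtain ⟨s, hs, -⟩ := glue (fun i => (a i : Γ((U i).toScheme, ⊤))) fun i j => congrArg Units.val (h i j)
  obtain ⟨t, ht, -⟩ := glue (fun i => ((a i)⁻¹ : Γ((U i).toScheme, ⊤)ˣ)) fun i j => by
    have h' := congrArg (·⁻¹) (h i j)
    simp only [← map_inv] at h'
    exact congrArg Units.val h'
  have hst : s * t = 1 := by
    refine (glue (fun i => 1) fun i j => by simp).unique (fun i => ?_) fun i => map_one _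
    rw [map_mul, hs, ht, ← Units.val_mul, mul_inv_cancel, Units.val_one]
  exact ⟨Units.mkOfMulEqOne s t hst, fun i => Units.ext (hs i)⟩

/-- Units are determined on an open covering. -/
theorem unit_ext {X : Scheme.{u}} {J : Type u} (U : J → X.Opens) (hU : ∀ x, ∃ i, x ∈ U i) {a b : Γ(X, ⊤)}
    (h : ∀ i, (U i).ι.appTop a = (U i).ι.appTop b) : a = b :=
  X.sheaf.eq_of_locally_eq' (fun i => (U i).ι ''ᵁ ⊤) ⊤ (fun i => homOfLE le_top)
    (fun x _ => Opens.mem_iSup.2 ((hU x).imp fun i hi => (U i).ι_image_top.ge hi)) a b h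

end Groth.Agent.ThetaPts
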