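/-
Scalars, commutators and base change of points of theta groups.
-/
import Groth.Agent.L26.Theta.Cart
import Groth.Agent.L26.Theta.Glue
import Groth.Agent.L26.AV.InterPic

open CategoryTheory CategoryTheory.Limits AlgebraicGeometry TopologicalSpace Opposite
open MonoidalCategory CartesianMonoidalCategory MonObj GrpObj
open CategoryTheory.Pseudofunctor
open Groth.L18.Frame (ro ro_ro ro_mul)
open Groth.Agent.ThetaCart

universe u

noncomputable section

namespace Groth.Agent.ThetaPts

set_option backward.isDefEq.respectTransparency false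
set_option backward.isDefEq.respectTransparency.types false
set_option linter.style.haveILetI false

variable {S : Scheme.{u}} {A : Over S} [GrpObj A] {L : A.left.Modules} {T T' : Over S}

/-- Global functions of the base pulled back to the product. -/
def up (T : Over S) : Γ(T.left, ⊤) →+* Γ((A ⊗ T).left, ⊤) := (snd A T).left.appTop.hom

/-- The translation fixes functions of the base. -/
theorem appTop_transl (x : T ⟶ A) (a : Γ(T.left, ⊤)) :
    (ThetaGrp.transl A x).left.appTop (up (A := A) T a) = up (A := A) T a := by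
  show ((snd A T).left.appTop ≫ (ThetaGrp.transl A x).left.appTop) a = _
  rw [← Scheme.Hom.comp_appTop, ← Over.comp_left, ThetaGrp.transl_snd]
  rfl

theorem appTop_whisker (g : T' ⟶ T) (a : Γ(T.left, ⊤)) :
    (A ◁ g).left.appTop (up (A := A) T a) = up (A := A) T' (g.left.appTop a) := by
  show ((snd A T).left.appTop ≫ (A ◁ g).left.appTop) a = (g.left.appTop ≫ (snd A T').left.appTop) a
  rw [← Scheme.Hom.comp_appTop, ← Scheme.Hom.comp_appTop, ← Over.comp_left, ← Over.comp_left, whiskerLeft_snd]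

/-- A point is determined by its translation. -/
theorem transl_inj {x y : T ⟶ A} (h : (ThetaGrp.transl A x).left = (ThetaGrp.transl A y).left) : x = y := by
  have h' : ThetaGrp.transl A x = ThetaGrp.transl A y := Over.OverMorphism.ext h
  have h2 := congrArg (fun φ => lift (1 : T ⟶ A) (𝟙 T) ≫ φ ≫ fst A T) h'
  simpa [MonObj.comp_mul] using h2

variable (A L T) in
/-- Multiplication by a function of the base. -/
def scalHom (a : Γ(T.left, ⊤)) : ThetaGrp.thetaObj A L T ⟶ ThetaGrp.thetaObj A L T :=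
  act (up (A := A) T a) (𝟙 _)

theorem scalHom_comp (a b : Γ(T.left, ⊤)) : scalHom A L T a ≫ scalHom A L T b = scalHom A L T (a * b) :=
  (act_comp _ _ _).trans ((congrArg _ (Category.id_comp _)).trans
    ((act_act _ _ _).trans (congrArg (fun c => act c _) (map_mul (up (A := A) T) a b).symm)))

theorem scalHom_one : scalHom A L T 1 = 𝟙 _ :=
  (congrArg (fun c => act c _) (map_one (up (A := A) T))).trans (act_one _)

theorem scalHom_base (a : Γ(T.left, ⊤)) : (scalHom A L T a).base = 𝟙 _ := rfl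

variable (A L T) in
/-- Scalars as automorphisms. -/
def scalIso (a : Γ(T.left, ⊤)ˣ) : Aut (ThetaGrp.thetaObj A L T) :=
  ⟨scalHom A L T a, scalHom A L T (↑a⁻¹ : Γ(T.left, ⊤)),
    (scalHom_comp _ _).trans ((congrArg _ a.mul_inv).trans scalHom_one),
    (scalHom_comp _ _).trans ((congrArg _ a.inv_mul).trans scalHom_one)⟩

variable (A L T) in
/-- Scalars act on the theta group. -/
def scalAut : Γ(T.left, ⊤)ˣ →* Aut (ThetaGrp.thetaObj A L T) where
  toFun := scalIso A L T
  map_one' := Iso.ext ((congrArg (scalHom A L T) Units.val_one).trans scalHom_one)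
  map_mul' a b := Iso.ext (((congrArg (scalHom A L T) ((Units.val_mul a b).trans (mul_comm _ _)))).trans
    (scalHom_comp (L := L) (b : Γ(T.left, ⊤)) (a : Γ(T.left, ⊤))).symm)

variable (A L T) in
/-- Scalars as points of the theta group. -/
def scal : Γ(T.left, ⊤)ˣ →* ThetaGrp.thetaPts A L T :=
  (scalAut A L T).codRestrict _ fun a => ⟨1, by rw [ThetaGrp.transl_one]; rfl⟩

theorem scal_hom (a : Γ(T.left, ⊤)ˣ) : (scal A L T a).1.hom = act (up (A := A) T a) (𝟙 _) := rfl

theorem isOverPt_scal (a : Γ(T.left, ⊤)ˣ) : ThetaGrp.IsOverPt (scal A L T a) 1 := by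
  rw [ThetaGrp.IsOverPt, ThetaGrp.transl_one]; rfl

theorem mul_hom (α β : ThetaGrp.thetaPts A L T) : (α * β).1.hom = β.1.hom ≫ α.1.hom := rfl

theorem exists_isOverPt (β : ThetaGrp.thetaPts A L T) : ∃ x, ThetaGrp.IsOverPt β x := β.2

theorem isOverPt_unique {β : ThetaGrp.thetaPts A L T} {x y : T ⟶ A} (h : ThetaGrp.IsOverPt β x)
    (h' : ThetaGrp.IsOverPt β y) : x = y :=
  transl_inj (h.symm.trans h')

theorem isOverPt_mul {α β : ThetaGrp.thetaPts A L T} {x y : T ⟶ A} (h : ThetaGrp.IsOverPt α x)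
    (h' : ThetaGrp.IsOverPt β y) : ThetaGrp.IsOverPt (α * β) (y * x) := by
  rw [ThetaGrp.IsOverPt, mul_hom, CoGrothendieck.categoryStruct_comp_base, h, h', ThetaGrp.transl_mul,
    Over.comp_left]

theorem isOverPt_one : ThetaGrp.IsOverPt (1 : ThetaGrp.thetaPts A L T) 1 := by
  rw [ThetaGrp.IsOverPt, ThetaGrp.transl_one]; rfl

theorem isOverPt_inv {α : ThetaGrp.thetaPts A L T} {x : T ⟶ A} (h : ThetaGrp.IsOverPt α x) :
    ThetaGrp.IsOverPt α⁻¹ x⁻¹ := by
  obtain ⟨y, hy⟩ := exists_isOverPt α⁻¹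
  have h1 := isOverPt_mul hy h
  rw [inv_mul_cancel] at h1
  rwa [inv_eq_of_mul_eq_one_right (isOverPt_unique isOverPt_one h1).symm]

theorem scal_mul_hom (a : Γ(T.left, ⊤)ˣ) (β : ThetaGrp.thetaPts A L T) :
    (scal A L T a * β).1.hom = act (up (A := A) T a) β.1.hom := by
  obtain ⟨x, hx⟩ := exists_isOverPt β
  rw [mul_hom, scal_hom, comp_act, Category.comp_id, show β.1.hom.base = _ from hx, appTop_transl]

theorem scal_comm (a : Γ(T.left, ⊤)ˣ) (β : ThetaGrp.thetaPts A L T) :
    scal A L T a * β = β * scal A L T a := by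
  refine Subtype.ext (Iso.ext ?_)
  rw [scal_mul_hom, mul_hom, scal_hom, act_comp, Category.id_comp]

/-- The base change arrow is cartesian. -/
theorem isCart_bcLift (g : T' ⟶ T) : IsCart (ThetaGrp.bcLift A L g) := by
  haveI := KLLib.isIso_mapComp_inv_app (A ◁ g).left (fst A T).left L
  exact inferInstanceAs (IsIso ((Scheme.Modules.pullbackCongr _).hom.app L ≫
    (Scheme.Modules.pullbackComp (A ◁ g).left (fst A T).left).inv.app L))

theorem transl_whisker (g : T' ⟶ T) (x : T ⟶ A) :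
    ThetaGrp.transl A (g ≫ x) ≫ (A ◁ g) = (A ◁ g) ≫ ThetaGrp.transl A x := by
  apply CartesianMonoidalCategory.hom_ext <;> simp [ThetaGrp.transl, MonObj.comp_mul]

/-- A base change lies over the composite point. -/
theorem isOverPt_of_isBaseChange {β : ThetaGrp.thetaPts A L T'} {u : ThetaGrp.thetaPts A L T} {g : T' ⟶ T}
    (h : ThetaGrp.IsBaseChange β g u) {x : T ⟶ A} (hx : ThetaGrp.IsOverPt u x) :
    ThetaGrp.IsOverPt β (g ≫ x) := by
  obtain ⟨y, hy⟩ := exists_isOverPt β
  have h1 : β.1.hom.base ≫ (A ◁ g).left = (A ◁ g).left ≫ u.1.hom.base := congrArg CoGrothendieck.Hom.base h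
  rw [show β.1.hom.base = _ from hy, show u.1.hom.base = _ from hx, ← Over.comp_left, ← Over.comp_left] at h1
  have h2 := congrArg (fun φ => lift (1 : T' ⟶ A) (𝟙 T') ≫ φ ≫ fst A T) (Over.OverMorphism.ext h1)
  rwa [show y = g ≫ x by simpa [MonObj.comp_mul, ThetaGrp.transl] using h2] at hy

/-- Base changes are unique. -/
theorem isBaseChange_unique {β β' : ThetaGrp.thetaPts A L T'} {u : ThetaGrp.thetaPts A L T} {g : T' ⟶ T}
    (h : ThetaGrp.IsBaseChange β g u) (h' : ThetaGrp.IsBaseChange β' g u) : β = β' := by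
  obtain ⟨x, hx⟩ := exists_isOverPt u
  haveI := isCart_bcLift (A := A) (L := L) g
  refine Subtype.ext (Iso.ext (fac_unique (ThetaGrp.bcLift A L g) ?_ (h.trans h'.symm)))
  exact (isOverPt_of_isBaseChange h hx).trans (isOverPt_of_isBaseChange h' hx).symm

theorem isBaseChange_mul {β β' : ThetaGrp.thetaPts A L T'} {u u' : ThetaGrp.thetaPts A L T} {g : T' ⟶ T}
    (h : ThetaGrp.IsBaseChange β g u) (h' : ThetaGrp.IsBaseChange β' g u') :
    ThetaGrp.IsBaseChange (β * β') g (u * u') := by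
  rw [ThetaGrp.IsBaseChange, mul_hom, mul_hom, Category.assoc, h, ← Category.assoc, h', Category.assoc]

theorem isBaseChange_scal (g : T' ⟶ T) (a : Γ(T.left, ⊤)ˣ) :
    ThetaGrp.IsBaseChange (scal A L T' (Units.map (g.left.appTop.hom.toMonoidHom) a)) g (scal A L T a) := by
  rw [ThetaGrp.IsBaseChange, scal_hom, scal_hom, act_comp, Category.id_comp, comp_act, Category.comp_id]
  exact congrArg (fun c => act c (ThetaGrp.bcLift A L g)) (appTop_whisker g a).symm

/-- A translation equipped with a cartesian arrow gives a point. -/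
theorem exists_of_cart {x : T ⟶ A} (γ : ThetaGrp.thetaObj A L T ⟶ ThetaGrp.thetaObj A L T) [IsCart γ]
    (h : γ.base = (ThetaGrp.transl A x).left) :
    ∃ β : ThetaGrp.thetaPts A L T, β.1.hom = γ := by
  haveI : IsIso γ.base := by
    rw [h]
    exact ⟨(ThetaGrp.transl A x⁻¹).left,
      by rw [← Over.comp_left, ← ThetaGrp.transl_mul, mul_inv_cancel, ThetaGrp.transl_one]; rfl,
      by rw [← Over.comp_left, ← ThetaGrp.transl_mul, inv_mul_cancel, ThetaGrp.transl_one]; rfl⟩
  haveI := KLLib.isIso_of_base_fiber γ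
  exact ⟨⟨asIso γ, x, h⟩, rfl⟩

/-- Base changes exist. -/
theorem exists_isBaseChange (u : ThetaGrp.thetaPts A L T) (g : T' ⟶ T) :
    ∃ β : ThetaGrp.thetaPts A L T', ThetaGrp.IsBaseChange β g u := by
  obtain ⟨x, hx⟩ := exists_isOverPt u
  haveI := isCart_bcLift (A := A) (L := L) g
  haveI := isCart_iso u.1
  have e : (ThetaGrp.transl A (g ≫ x)).left ≫ (ThetaGrp.bcLift A L g).base =
      (ThetaGrp.bcLift A L g ≫ u.1.hom).base := by
    show _ ≫ (A ◁ g).left = (A ◁ g).left ≫ u.1.hom.base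
    rw [show u.1.hom.base = _ from hx, ← Over.comp_left, transl_whisker, Over.comp_left]
  obtain ⟨γ, hγ, hfac, hcart⟩ := exists_fac (Z := ThetaGrp.thetaObj A L T') (ThetaGrp.bcLift A L g)
    (ThetaGrp.bcLift A L g ≫ u.1.hom) (ThetaGrp.transl A (g ≫ x)).left e
  haveI := hcart (isCart_comp _ _)
  obtain ⟨β, hβ⟩ := exists_of_cart γ hγ
  exact ⟨β, show β.1.hom ≫ _ = _ by rw [hβ]; exact hfac⟩

section Scalars

variable (hπ : ∀ T : Over S, Function.Bijective (snd A T).left.appTop) (hL : PicF.IsInvertible L)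

include hπ hL in
theorem scal_inj {a b : Γ(T.left, ⊤)ˣ} (h : scal A L T a = scal A L T b) : a = b := by
  have h' : act (up (A := A) T a) (𝟙 (ThetaGrp.thetaObj A L T)) = act (up (A := A) T b) (𝟙 _) :=
    congrArg (fun β : ThetaGrp.thetaPts A L T => β.1.hom) h
  haveI := isCart_id (ThetaGrp.thetaObj A L T)
  exact Units.ext ((hπ T).1 (act_inj (Groth.L18.Ample.isInvertible_pullback _ hL) _ h'))

include hπ hL in
theorem exists_scal_mul {β β' : ThetaGrp.thetaPts A L T} {x : T ⟶ A} (h : ThetaGrp.IsOverPt β x)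
    (h' : ThetaGrp.IsOverPt β' x) : ∃ a : Γ(T.left, ⊤)ˣ, β = scal A L T a * β' := by
  haveI := isCart_iso β.1
  haveI := isCart_iso β'.1
  obtain ⟨a, ha⟩ := exists_act_eq (Groth.L18.Ample.isInvertible_pullback _ hL) β.1.hom β'.1.hom (h.trans h'.symm)
  obtain ⟨b, hb⟩ := (hπ T).2 (a : Γ((A ⊗ T).left, ⊤))
  obtain ⟨c, hc⟩ := (hπ T).2 ((↑a⁻¹ : Γ((A ⊗ T).left, ⊤)))
  have hbc : b * c = 1 := (hπ T).1 (by rw [map_mul, hb, hc, Units.mul_inv, map_one])
  refine ⟨Units.mkOfMulEqOne b c hbc, Subtype.ext (Iso.ext ?_)⟩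
  rw [scal_mul_hom, Units.val_mkOfMulEqOne, ha]
  exact congrArg (fun z => act z β'.1.hom) hb.symm

end Scalars

end Groth.Agent.ThetaPts
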