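/-
The commutator pairing of theta groups on points which lift locally.
-/
import Groth.Agent.L26.Theta.Pts

open CategoryTheory CategoryTheory.Limits AlgebraicGeometry TopologicalSpace Opposite
open MonoidalCategory CartesianMonoidalCategory MonObj GrpObj
open Groth.Agent.ThetaPts

universe u

noncomputable section

namespace Groth.Agent.ThetaPairing

set_option backward.isDefEq.respectTransparency false
set_option backward.isDefEq.respectTransparency.types false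
set_option linter.style.haveILetI false

variable {S : Scheme.{u}} {A : Over S} [GrpObj A] {L : A.left.Modules} {T T' : Over S}

/-- Pullback of units along a morphism over the base. -/
abbrev res (g : T' ⟶ T) : Γ(T.left, ⊤)ˣ →* Γ(T'.left, ⊤)ˣ := Units.map g.left.appTop.hom.toMonoidHom

theorem res_comp {T'' : Over S} (h : T'' ⟶ T') (g : T' ⟶ T) (a : Γ(T.left, ⊤)ˣ) :
    res (h ≫ g) a = res h (res g a) := by
  refine Units.ext ?_
  show (h ≫ g).left.appTop (a : Γ(T.left, ⊤)) = h.left.appTop (g.left.appTop (a : Γ(T.left, ⊤)))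
  rw [Over.comp_left, Scheme.Hom.comp_appTop]
  rfl

theorem res_id (a : Γ(T.left, ⊤)ˣ) : res (𝟙 T) a = a := Units.ext rfl

/-- An open of the base as an object over the base. -/
abbrev opn (T : Over S) (U : T.left.Opens) : Over S := Over.mk (U.ι ≫ T.hom)

/-- Its inclusion. -/
abbrev opnι (T : Over S) (U : T.left.Opens) : opn T U ⟶ T := Over.homMk U.ι rfl

/-- Inclusions of opens. -/
abbrev opnLE (T : Over S) {U V : T.left.Opens} (h : U ≤ V) : opn T U ⟶ opn T V :=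
  Over.homMk (T.left.homOfLE h) (by show _ ≫ V.ι ≫ T.hom = U.ι ≫ T.hom; rw [Scheme.homOfLE_ι_assoc])

theorem opnLE_ι (T : Over S) {U V : T.left.Opens} (h : U ≤ V) : opnLE T h ≫ opnι T V = opnι T U :=
  Over.OverMorphism.ext (T.left.homOfLE_ι h)

variable (L) in
/-- The point lifts to the theta group locally on the base. -/
def LocLift (x : T ⟶ A) : Prop :=
  ∀ t : ↥T.left, ∃ U : T.left.Opens, t ∈ U ∧
    ∃ β : ThetaGrp.thetaPts A L (opn T U), ThetaGrp.IsOverPt β (opnι T U ≫ x)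

/-- Lifts restrict. -/
theorem exists_restrict {x : T ⟶ A} {β : ThetaGrp.thetaPts A L T} (h : ThetaGrp.IsOverPt β x) (g : T' ⟶ T) :
    ∃ β' : ThetaGrp.thetaPts A L T', ThetaGrp.IsBaseChange β' g β ∧ ThetaGrp.IsOverPt β' (g ≫ x) :=
  let ⟨β', hβ'⟩ := exists_isBaseChange β g
  ⟨β', hβ', isOverPt_of_isBaseChange hβ' h⟩

theorem LocLift.of_lift {x : T ⟶ A} {β : ThetaGrp.thetaPts A L T} (h : ThetaGrp.IsOverPt β x) : LocLift L x :=
  fun _ => ⟨⊤, trivial, (exists_restrict h _).imp fun _ hβ' => hβ'.2⟩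

theorem LocLift.one : LocLift L (1 : T ⟶ A) := LocLift.of_lift isOverPt_one

theorem LocLift.comp {x : T ⟶ A} (h : LocLift L x) (g : T' ⟶ T) : LocLift L (g ≫ x) := fun t => by
  obtain ⟨U, htU, β, hβ⟩ := h (g.left t)
  refine ⟨g.left ⁻¹ᵁ U, htU, ?_⟩
  let g' : opn T' (g.left ⁻¹ᵁ U) ⟶ opn T U := Over.homMk (g.left ∣_ U) (by
    show _ ≫ U.ι ≫ T.hom = _
    rw [morphismRestrict_ι_assoc, Over.w]
    rfl)
  obtain ⟨β', -, hβ'⟩ := exists_restrict hβ g'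
  refine ⟨β', ?_⟩
  have e : g' ≫ opnι T U = opnι T' (g.left ⁻¹ᵁ U) ≫ g := Over.OverMorphism.ext (morphismRestrict_ι g.left U)
  rwa [← Category.assoc, e, Category.assoc] at hβ'

/-- Two points lifting locally lift over a common covering. -/
theorem exists_common {x y : T ⟶ A} (hx : LocLift L x) (hy : LocLift L y) (t : T.left) :
    ∃ U : T.left.Opens, t ∈ U ∧ ∃ β₁ β₂ : ThetaGrp.thetaPts A L (opn T U),
      ThetaGrp.IsOverPt β₁ (opnι T U ≫ x) ∧ ThetaGrp.IsOverPt β₂ (opnι T U ≫ y) := by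
  obtain ⟨U, htU, α, hα⟩ := hx t
  obtain ⟨V, htV, β, hβ⟩ := hy t
  obtain ⟨α', -, hα'⟩ := exists_restrict hα (opnLE T (inf_le_left : U ⊓ V ≤ U))
  obtain ⟨β', -, hβ'⟩ := exists_restrict hβ (opnLE T (inf_le_right : U ⊓ V ≤ V))
  rw [← Category.assoc, opnLE_ι] at hα' hβ'
  exact ⟨U ⊓ V, ⟨htU, htV⟩, α', β', hα', hβ'⟩

theorem LocLift.mul {x y : T ⟶ A} (hx : LocLift L x) (hy : LocLift L y) : LocLift L (x * y) := fun t => by
  obtain ⟨U, htU, α, β, hα, hβ⟩ := exists_common hx hy t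
  exact ⟨U, htU, β * α, by rw [MonObj.comp_mul]; exact isOverPt_mul hβ hα⟩

theorem LocLift.inv {x : T ⟶ A} (hx : LocLift L x) : LocLift L x⁻¹ := fun t => by
  obtain ⟨U, htU, α, hα⟩ := hx t
  exact ⟨U, htU, α⁻¹, by rw [GrpObj.comp_inv]; exact isOverPt_inv hα⟩

variable (L) in
/-- The value of the commutator pairing at two points. -/
def IsPair (x y : T ⟶ A) (e : Γ(T.left, ⊤)ˣ) : Prop :=
  ∀ (T' : Over S) (g : T' ⟶ T) (β₁ β₂ : ThetaGrp.thetaPts A L T'), ThetaGrp.IsOverPt β₁ (g ≫ x) →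
    ThetaGrp.IsOverPt β₂ (g ≫ y) → β₁ * β₂ = scal A L T' (res g e) * (β₂ * β₁)

theorem IsPair.comp {x y : T ⟶ A} {e : Γ(T.left, ⊤)ˣ} (h : IsPair L x y e) (g : T' ⟶ T) :
    IsPair L (g ≫ x) (g ≫ y) (res g e) := fun T'' g' β₁ β₂ h₁ h₂ => by
  rw [← res_comp]
  exact h T'' (g' ≫ g) β₁ β₂ (by rwa [Category.assoc]) (by rwa [Category.assoc])

theorem IsPair.commute {x y : T ⟶ A} (h : IsPair L x y 1) {β₁ β₂ : ThetaGrp.thetaPts A L T}
    (h₁ : ThetaGrp.IsOverPt β₁ x) (h₂ : ThetaGrp.IsOverPt β₂ y) : β₁ * β₂ = β₂ * β₁ := by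
  have := h T (𝟙 T) β₁ β₂ (by rwa [Category.id_comp]) (by rwa [Category.id_comp])
  rwa [map_one, map_one, _root_.one_mul] at this

theorem isBaseChange_comm {β₁ β₂ : ThetaGrp.thetaPts A L T} {β₁' β₂' : ThetaGrp.thetaPts A L T'} {g : T' ⟶ T}
    (h₁ : ThetaGrp.IsBaseChange β₁' g β₁) (h₂ : ThetaGrp.IsBaseChange β₂' g β₂) {a : Γ(T.left, ⊤)ˣ}
    (h : β₁ * β₂ = scal A L T a * (β₂ * β₁)) : β₁' * β₂' = scal A L T' (res g a) * (β₂' * β₁') := by
  have h' := isBaseChange_mul h₁ h₂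
  rw [h] at h'
  exact isBaseChange_unique h' (isBaseChange_mul (isBaseChange_scal g a) (isBaseChange_mul h₂ h₁))

variable (hπ : ∀ T : Over S, Function.Bijective (snd A T).left.appTop) (hL : PicF.IsInvertible L)

include hπ hL in
/-- The commutator only depends on the points. -/
theorem comm_congr {x y : T ⟶ A} {α₁ α₂ β₁ β₂ : ThetaGrp.thetaPts A L T} (hα₁ : ThetaGrp.IsOverPt α₁ x)
    (hα₂ : ThetaGrp.IsOverPt α₂ y) (hβ₁ : ThetaGrp.IsOverPt β₁ x) (hβ₂ : ThetaGrp.IsOverPt β₂ y)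
    {a : Γ(T.left, ⊤)ˣ} (h : α₁ * α₂ = scal A L T a * (α₂ * α₁)) : β₁ * β₂ = scal A L T a * (β₂ * β₁) := by
  obtain ⟨c, rfl⟩ := exists_scal_mul hπ hL hβ₁ hα₁
  obtain ⟨d, rfl⟩ := exists_scal_mul hπ hL hβ₂ hα₂
  have hc : ∀ (z : Γ(T.left, ⊤)ˣ) (γ δ : ThetaGrp.thetaPts A L T), γ * (scal A L T z * δ) = scal A L T z * (γ * δ) :=
    fun z γ δ => by rw [← _root_.mul_assoc, ← scal_comm, _root_.mul_assoc]
  rw [_root_.mul_assoc, hc d α₁ α₂, h, _root_.mul_assoc (scal A L T d), hc c α₂ α₁,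
    ← _root_.mul_assoc, ← _root_.mul_assoc, ← _root_.mul_assoc (scal A L T a),
    ← _root_.mul_assoc (scal A L T a * scal A L T d)]
  simp only [← map_mul]
  rw [show c * d * a = a * d * c by ac_rfl]

variable [IsCommMonObj A]

include hπ hL in
theorem exists_comm {x y : T ⟶ A} {β₁ β₂ : ThetaGrp.thetaPts A L T} (h₁ : ThetaGrp.IsOverPt β₁ x)
    (h₂ : ThetaGrp.IsOverPt β₂ y) : ∃ a, β₁ * β₂ = scal A L T a * (β₂ * β₁) := by
  have h := isOverPt_mul h₂ h₁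
  rw [_root_.mul_comm] at h
  exact exists_scal_mul hπ hL (isOverPt_mul h₁ h₂) h

include hπ hL in
theorem res_comm_eq {T₁ T₂ W : Over S} {x y : T ⟶ A} (j₁ : T₁ ⟶ T) (j₂ : T₂ ⟶ T) (h₁ : W ⟶ T₁) (h₂ : W ⟶ T₂)
    (hj : h₁ ≫ j₁ = h₂ ≫ j₂) {α₁ α₂ : ThetaGrp.thetaPts A L T₁} {β₁ β₂ : ThetaGrp.thetaPts A L T₂}
    (hα₁ : ThetaGrp.IsOverPt α₁ (j₁ ≫ x)) (hα₂ : ThetaGrp.IsOverPt α₂ (j₁ ≫ y))
    (hβ₁ : ThetaGrp.IsOverPt β₁ (j₂ ≫ x)) (hβ₂ : ThetaGrp.IsOverPt β₂ (j₂ ≫ y))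
    {a : Γ(T₁.left, ⊤)ˣ} {b : Γ(T₂.left, ⊤)ˣ} (ha : α₁ * α₂ = scal A L T₁ a * (α₂ * α₁))
    (hb : β₁ * β₂ = scal A L T₂ b * (β₂ * β₁)) : res h₁ a = res h₂ b := by
  obtain ⟨α₁', c₁, ho₁⟩ := exists_restrict hα₁ h₁
  obtain ⟨α₂', c₂, ho₂⟩ := exists_restrict hα₂ h₁
  obtain ⟨β₁', d₁, hp₁⟩ := exists_restrict hβ₁ h₂
  obtain ⟨β₂', d₂, hp₂⟩ := exists_restrict hβ₂ h₂
  rw [← Category.assoc, ← hj, Category.assoc] at hp₁ hp₂
  have e := comm_congr hπ hL ho₁ ho₂ hp₁ hp₂ (isBaseChange_comm c₁ c₂ ha)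
  exact scal_inj hπ hL (mul_right_cancel (e.symm.trans (isBaseChange_comm d₁ d₂ hb)))

include hπ hL in
/-- The pairing exists. -/
theorem exists_isPair {x y : T ⟶ A} (hx : LocLift L x) (hy : LocLift L y) : ∃ e, IsPair L x y e := by
  choose U hU α β hα hβ using exists_common hx hy
  choose a ha using fun t => exists_comm hπ hL (hα t) (hβ t)
  have hcov : ∀ t : T.left, ∃ i, t ∈ U i := fun t => ⟨t, hU t⟩
  obtain ⟨e, he⟩ := exists_unit_glue U hcov a fun i j =>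
    res_comm_eq hπ hL (opnι T (U i)) (opnι T (U j)) (opnLE T inf_le_left) (opnLE T inf_le_right)
      (by rw [opnLE_ι, opnLE_ι]) (hα i) (hβ i) (hα j) (hβ j) (ha i) (ha j)
  refine ⟨e, fun T' g β₁ β₂ h₁ h₂ => ?_⟩
  obtain ⟨b, hb⟩ := exists_comm hπ hL h₁ h₂
  suffices b = res g e by rwa [this] at hb
  refine Units.ext (unit_ext (fun t => g.left ⁻¹ᵁ U t) (fun t' => ⟨g.left t', hU _⟩) fun t => ?_)
  let g' : opn T' (g.left ⁻¹ᵁ U t) ⟶ opn T (U t) := Over.homMk (g.left ∣_ U t) (by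
    show _ ≫ (U t).ι ≫ T.hom = _
    rw [morphismRestrict_ι_assoc, Over.w]
    rfl)
  have e1 : g' ≫ opnι T (U t) = opnι T' (g.left ⁻¹ᵁ U t) ≫ g := Over.OverMorphism.ext (morphismRestrict_ι g.left (U t))
  have k := res_comm_eq hπ hL g (opnι T (U t)) (opnι T' (g.left ⁻¹ᵁ U t)) g' e1.symm h₁ h₂ (hα t) (hβ t) hb (ha t)
  rw [← show res (opnι T (U t)) e = a t from he t, ← res_comp, e1, res_comp] at k
  exact congrArg Units.val k

include hπ hL in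
/-- The pairing is unique. -/
theorem IsPair.unique {x y : T ⟶ A} (hx : LocLift L x) (hy : LocLift L y) {e e' : Γ(T.left, ⊤)ˣ}
    (h : IsPair L x y e) (h' : IsPair L x y e') : e = e' := by
  choose U hU α β hα hβ using exists_common hx hy
  refine Units.ext (unit_ext U (fun t => ⟨t, hU t⟩) fun t => congrArg Units.val (scal_inj hπ hL
    (mul_right_cancel ((h _ _ _ _ (hα t) (hβ t)).symm.trans (h' _ _ _ _ (hα t) (hβ t))))))

include hπ hL in
/-- A commuting pair of lifts over every point means a trivial pairing. -/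
theorem IsPair.eq_one {x y : T ⟶ A} (hx : LocLift L x) (hy : LocLift L y) {e : Γ(T.left, ⊤)ˣ}
    (h : IsPair L x y e) (hc : ∀ (T' : Over S) (g : T' ⟶ T) (β₁ β₂ : ThetaGrp.thetaPts A L T'),
      ThetaGrp.IsOverPt β₁ (g ≫ x) → ThetaGrp.IsOverPt β₂ (g ≫ y) → β₁ * β₂ = β₂ * β₁) : e = 1 :=
  h.unique hπ hL hx hy fun T' g β₁ β₂ h₁ h₂ => by rw [map_one, map_one, _root_.one_mul]; exact hc T' g β₁ β₂ h₁ h₂

include hπ hL in
theorem isPair_one_left (y : T ⟶ A) : IsPair L (1 : T ⟶ A) y 1 := fun T' g β₁ β₂ h₁ _ => by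
  rw [MonObj.comp_one] at h₁
  obtain ⟨a, rfl⟩ := exists_scal_mul hπ hL h₁ isOverPt_one
  rw [map_one, map_one, _root_.one_mul, _root_.mul_one, scal_comm]

end Groth.Agent.ThetaPairing
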