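/-
Symmetric two-cocycles of units on a finite commutative group scheme over an algebraically closed field are
coboundaries.
-/
import Groth.Agent.L26.Theta.Pairing
import Mathlib.AlgebraicGeometry.Morphisms.Finite
import Mathlib.LinearAlgebra.Eigenspace.Triangularizable
import Mathlib.RingTheory.TensorProduct.Free

open CategoryTheory CategoryTheory.Limits AlgebraicGeometry TopologicalSpace Opposite
open MonoidalCategory CartesianMonoidalCategory MonObj GrpObj

universe u

noncomputable section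

namespace Groth.Agent.ThetaSplit

set_option backward.isDefEq.respectTransparency false
set_option linter.style.haveILetI false

theorem exists_common_eigen {k : Type*} [Field k] [IsAlgClosed k] {V : Type*} [AddCommGroup V] [Module k V]
    [FiniteDimensional k V] [Nontrivial V] {J : Type*} [Finite J] (P : J → Module.End k V)
    (hP : ∀ i j v, P i (P j v) = P j (P i v)) : ∃ v : V, v ≠ 0 ∧ ∀ i, ∃ c : k, P i v = c • v := by
  classical
  haveI := Fintype.ofFinite J
  suffices key : ∀ s : Finset J, ∃ (W : Submodule k V) (c : J → k), W ≠ ⊥ ∧ (∀ i, ∀ w ∈ W, P i w ∈ W) ∧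
      ∀ i ∈ s, ∀ w ∈ W, P i w = c i • w by
    obtain ⟨W, c, hW, -, hc⟩ := key Finset.univ
    obtain ⟨v, hv, hv0⟩ := Submodule.exists_mem_ne_zero_of_ne_bot hW
    exact ⟨v, hv0, fun i => ⟨c i, hc i (Finset.mem_univ i) v hv⟩⟩
  intro s
  induction s using Finset.induction_on with
  | empty => exact ⟨⊤, 0, top_ne_bot, fun _ _ _ => trivial, fun i hi => absurd hi (Finset.notMem_empty i)⟩
  | insert i s his ih =>
    obtain ⟨W, c, hW, hinv, hc⟩ := ih
    haveI : Nontrivial W := Submodule.nontrivial_iff_ne_bot.2 hW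
    obtain ⟨m₀, hm₀⟩ := Module.End.exists_eigenvalue ((P i).restrict (hinv i))
    obtain ⟨w₀, hw₀⟩ := hm₀.exists_hasEigenvector
    refine ⟨W ⊓ LinearMap.ker (P i - m₀ • LinearMap.id), Function.update c i m₀, ?_, ?_, ?_⟩
    · refine Submodule.ne_bot_iff _ |>.2 ⟨(w₀ : V), ⟨w₀.2, ?_⟩, fun h => hw₀.2 (Subtype.ext h)⟩
      have := congrArg Subtype.val hw₀.apply_eq_smul
      simpa [sub_eq_zero] using this
    · rintro l w ⟨hwW, hw⟩
      refine ⟨hinv l w hwW, ?_⟩
      simp only [SetLike.mem_coe, LinearMap.mem_ker, LinearMap.sub_apply, LinearMap.smul_apply,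
        LinearMap.id_coe, id_eq, sub_eq_zero] at hw ⊢
      rw [hP, hw, map_smul]
    · rintro l hl w ⟨hwW, hw⟩
      by_cases h : l = i
      · subst h
        rw [Function.update_self]
        simpa [sub_eq_zero] using hw
      · rw [Function.update_of_ne h]
        exact hc l ((Finset.mem_insert.1 hl).resolve_left h) w hwW

variable {k : Type u} [Field k]

/-- Functions pulled back. -/
abbrev pl {T T' : Over (Spec (CommRingCat.of k))} (g : T' ⟶ T) : Γ(T.left, ⊤) →+* Γ(T'.left, ⊤) :=
  g.left.appTop.hom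

/-- The constants. -/
def al (T : Over (Spec (CommRingCat.of k))) : k →+* Γ(T.left, ⊤) :=
  T.hom.appTop.hom.comp (Scheme.ΓSpecIso (CommRingCat.of k)).inv.hom

theorem pl_pl {T T' T'' : Over (Spec (CommRingCat.of k))} (g : T' ⟶ T) (g' : T'' ⟶ T') (r : Γ(T.left, ⊤)) :
    pl g' (pl g r) = pl (g' ≫ g) r := by
  show (g.left.appTop ≫ g'.left.appTop) r = _
  rw [← Scheme.Hom.comp_appTop]
  rfl

theorem pl_id {T : Over (Spec (CommRingCat.of k))} (r : Γ(T.left, ⊤)) : pl (𝟙 T) r = r := rfl

theorem pl_al {T T' : Over (Spec (CommRingCat.of k))} (g : T' ⟶ T) (t : k) : pl g (al T t) = al T' t := by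
  show (T.hom.appTop ≫ g.left.appTop) _ = _
  rw [← Scheme.Hom.comp_appTop, Over.w]
  rfl

variable (N : Over (Spec (CommRingCat.of k))) {J : Type} [Fintype J]

/-- `e` is a basis of the functions on `N`. -/
def IsBas (e : J → Γ(N.left, ⊤)) : Prop :=
  ∀ (T : Over (Spec (CommRingCat.of k))), IsAffine T.left →
    Function.Bijective fun a : J → Γ(T.left, ⊤) => ∑ i, pl (fst N T) (e i) * pl (snd N T) (a i)

/-- Finite schemes over the field have bases of functions. -/
theorem exists_isBas [IsFinite N.hom] : ∃ (d : ℕ) (e : Fin d → Γ(N.left, ⊤)), IsBas N e ∧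
    ∀ r : Γ(N.left, ⊤), ∃ c : Fin d → k, r = ∑ i, al N (c i) * e i := by
  letI : Algebra k Γ(N.left, ⊤) := (al N).toAlgebra
  haveI : IsAffine N.left := isAffine_of_isAffineHom N.hom
  haveI : Module.Finite k Γ(N.left, ⊤) := (RingHom.Finite.comp N.hom.finite_appTop
    (RingHom.Finite.of_surjective _ (Scheme.ΓSpecIso (CommRingCat.of k)).commRingCatIsoToRingEquiv.symm.surjective)) 
  let b := Module.finBasis k Γ(N.left, ⊤)
  refine ⟨_, b, fun T hT => ?_, fun r => ⟨fun i => b.repr r i, ?_⟩⟩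
  · letI : Algebra k Γ(T.left, ⊤) := (al T).toAlgebra
    have h0 : IsPushout N.hom.appTop T.hom.appTop (fst N T).left.appTop (snd N T).left.appTop :=
      isPushout_appTop_of_isPullback (IsPullback.of_hasPullback N.hom T.hom)
    have h1 : IsPushout (CommRingCat.ofHom (algebraMap k Γ(N.left, ⊤))) (CommRingCat.ofHom (algebraMap k Γ(T.left, ⊤)))
        (fst N T).left.appTop (snd N T).left.appTop :=
      h0.of_iso (Scheme.ΓSpecIso (CommRingCat.of k)) (Iso.refl _) (Iso.refl _) (Iso.refl _)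
        (by rw [Iso.refl_hom, Category.comp_id]; exact (Iso.hom_inv_id_assoc _ _).symm)
        (by rw [Iso.refl_hom, Category.comp_id]; exact (Iso.hom_inv_id_assoc _ _).symm)
        (by simp) (by simp)
    let e := ((CommRingCat.isPushout_tensorProduct k Γ(N.left, ⊤) Γ(T.left, ⊤)).isoIsPushout _ _ h1).commRingCatIsoToRingEquiv
    have hl : ∀ r, e (r ⊗ₜ 1) = pl (fst N T) r := fun r =>
      congr($((CommRingCat.isPushout_tensorProduct k Γ(N.left, ⊤) Γ(T.left, ⊤)).inl_isoIsPushout_hom _ _ h1).hom r)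
    have hr : ∀ r, e (1 ⊗ₜ r) = pl (snd N T) r := fun r =>
      congr($((CommRingCat.isPushout_tensorProduct k Γ(N.left, ⊤) Γ(T.left, ⊤)).inr_isoIsPushout_hom _ _ h1).hom r)
    let E := TensorProduct.equivFinsuppOfBasisLeft (M := Γ(N.left, ⊤)) (N := Γ(T.left, ⊤)) b
    have : (fun a : Fin _ → Γ(T.left, ⊤) => ∑ i, pl (fst N T) (b i) * pl (snd N T) (a i)) =
        fun a => e (E.symm (Finsupp.equivFunOnFinite.symm a)) := by
      funext a
      rw [TensorProduct.equivFinsuppOfBasisLeft_symm_apply, Finsupp.sum_fintype _ _ (by simp), map_sum]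
      refine Finset.sum_congr rfl fun i _ => ?_
      rw [← hl, ← hr, ← map_mul, Algebra.TensorProduct.tmul_mul_tmul, _root_.mul_one, _root_.one_mul,
        Finsupp.equivFunOnFinite_symm_apply_apply]
    rw [this]
    exact e.bijective.comp (E.symm.bijective.comp Finsupp.equivFunOnFinite.symm.bijective)
  · exact (b.sum_repr r).symm.trans (Finset.sum_congr rfl fun i _ => Algebra.smul_def _ _)

variable {N} [GrpObj N]

/-- Evaluation of a two-cochain. -/
def cc (c : Γ((N ⊗ N).left, ⊤)) {T : Over (Spec (CommRingCat.of k))} (x y : T ⟶ N) : Γ(T.left, ⊤) :=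
  pl (lift x y) c

theorem pl_cc (c : Γ((N ⊗ N).left, ⊤)) {T T' : Over (Spec (CommRingCat.of k))} (x y : T ⟶ N) (g : T' ⟶ T) :
    pl g (cc c x y) = cc c (g ≫ x) (g ≫ y) := by
  rw [cc, cc, pl_pl, comp_lift]

variable [IsAlgClosed k] [IsFinite N.hom]

/-- A symmetric normalised cocycle is a coboundary. -/
theorem exists_char (hcomm : ∀ (T : Over (Spec (CommRingCat.of k))) (x y : T ⟶ N), x * y = y * x)
    (c : Γ((N ⊗ N).left, ⊤)ˣ)
    (hsym : ∀ (T : Over (Spec (CommRingCat.of k))) (a b z : T ⟶ N),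
      cc c.1 b z * cc c.1 a (b * z) = cc c.1 a z * cc c.1 b (a * z))
    (hone : ∀ (T : Over (Spec (CommRingCat.of k))) (x : T ⟶ N), cc c.1 x 1 = 1) :
    ∃ χ : Γ(N.left, ⊤)ˣ, ∀ (T : Over (Spec (CommRingCat.of k))) (x y : T ⟶ N),
      cc c.1 x y * pl (x * y) (χ : Γ(N.left, ⊤)) = pl x (χ : Γ(N.left, ⊤)) * pl y (χ : Γ(N.left, ⊤)) := by
  obtain ⟨d, e, he, hspan⟩ := exists_isBas N
  haveI : IsAffine N.left := isAffine_of_isAffineHom N.hom
  haveI hA2 : IsAffine (N ⊗ N).left := inferInstanceAs (IsAffine (pullback N.hom N.hom))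
  choose P hP using fun r : Γ(N.left, ⊤) =>
    (he N inferInstance).2 ((c : Γ((N ⊗ N).left, ⊤)) * pl (fst N N * snd N N) r)
  simp only [] at hP
  have hP' : ∀ (r : Γ(N.left, ⊤)) (T : Over (Spec (CommRingCat.of k))) (x y : T ⟶ N),
      cc c.1 x y * pl (x * y) r = ∑ i, pl x (e i) * pl y (P r i) := by
    intro r T x y
    have h := congrArg (pl (lift x y)) (hP r)
    simp only [map_mul, map_sum, pl_pl, lift_fst, lift_snd, MonObj.comp_mul] at h
    exact h.symm
  have hadd : ∀ r s, P (r + s) = P r + P s := fun r s => (he N inferInstance).1 (by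
    simp only [Pi.add_apply, map_add, mul_add, Finset.sum_add_distrib]
    rw [hP, hP, hP, map_add, mul_add])
  have hsmul : ∀ t r, P (al N t * r) = fun i => al N t * P r i := fun t r => (he N inferInstance).1 (by
    simp only [map_mul, pl_al, mul_left_comm (pl (fst N N) _) (al (N ⊗ N) t), ← Finset.mul_sum]
    rw [hP, hP, map_mul, pl_al, mul_left_comm])
  have hcom : ∀ i j r, P (P r i) j = P (P r j) i := by
    intro i j r
    let T := N ⊗ (N ⊗ N)
    let a : T ⟶ N := fst _ _
    let b : T ⟶ N := snd _ _ ≫ fst _ _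
    let z : T ⟶ N := snd _ _ ≫ snd _ _
    have hK : ∀ (a b z : T ⟶ N), cc c.1 b z * cc c.1 a (b * z) * pl (a * (b * z)) r =
        ∑ i, pl a (e i) * ∑ j, pl b (e j) * pl z (P (P r i) j) := fun a b z => by
      rw [_root_.mul_assoc, hP', Finset.mul_sum]
      exact Finset.sum_congr rfl fun i _ => by rw [mul_left_comm, hP']
    have h1 := hK a b z
    rw [hsym T a b z, ← _root_.mul_assoc a b z, hcomm T a b, _root_.mul_assoc b a z, hK b a z] at h1
    simp only [Finset.mul_sum] at h1
    conv_lhs at h1 => rw [Finset.sum_comm]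
    simp only [mul_left_comm (pl b _), ← Finset.mul_sum] at h1
    have h2 := (he (N ⊗ N) hA2).1
      (a₁ := fun i => ∑ j, pl (fst N N) (e j) * pl (snd N N) (P (P r j) i))
      (a₂ := fun i => ∑ j, pl (fst N N) (e j) * pl (snd N N) (P (P r i) j)) (by
        simp only [map_sum, map_mul, pl_pl]
        exact h1)
    exact (congrFun ((he N inferInstance).1 (congrFun h2 i)) j).symm
  letI : Algebra k Γ(N.left, ⊤) := (al N).toAlgebra
  haveI : FiniteDimensional k Γ(N.left, ⊤) := by
    classical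
    exact Module.Finite.of_fg_top ⟨Finset.univ.image e, by
      rw [Finset.coe_image, Finset.coe_univ, Set.image_univ, eq_top_iff]
      rintro r -
      obtain ⟨q, rfl⟩ := hspan r
      exact Submodule.sum_mem _ fun i _ => by
        rw [← RingHom.algebraMap_toAlgebra (al N), ← Algebra.smul_def]
        exact Submodule.smul_mem _ _ (Submodule.subset_span ⟨i, rfl⟩)⟩
  haveI : Nontrivial Γ(N.left, ⊤) :=
    haveI : Nontrivial Γ((𝟙_ (Over (Spec (CommRingCat.of k)))).left, ⊤) :=
      (Scheme.ΓSpecIso (CommRingCat.of k)).commRingCatIsoToRingEquiv.nontrivial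
    (pl (1 : 𝟙_ _ ⟶ N)).domain_nontrivial
  let Q : Fin d → Module.End k Γ(N.left, ⊤) := fun i =>
    { toFun := fun r => P r i
      map_add' := fun r s => congrFun (hadd r s) i
      map_smul' := fun t r => by
        rw [Algebra.smul_def, RingHom.id_apply, Algebra.smul_def]
        exact congrFun (hsmul t r) i }
  obtain ⟨h, hh0, hh⟩ := exists_common_eigen Q fun i j v => (hcom i j v).symm
  choose q hq using hh
  let χ₀ : Γ(N.left, ⊤) := ∑ i, al N (q i) * e i
  have hM : ∀ (T : Over (Spec (CommRingCat.of k))) (x y : T ⟶ N),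
      cc c.1 x y * pl (x * y) h = pl x χ₀ * pl y h := fun T x y => by
    rw [hP', map_sum, Finset.sum_mul]
    refine Finset.sum_congr rfl fun i _ => ?_
    rw [show P h i = al N (q i) * h from (hq i).trans (Algebra.smul_def _ _), map_mul, map_mul, pl_al, pl_al]
    ring
  obtain ⟨t, ht⟩ := ((Scheme.ΓSpecIso (CommRingCat.of k)).commRingCatIsoToRingEquiv.symm.surjective
    (pl (1 : 𝟙_ _ ⟶ N) h))
  have ht' : ∀ T : Over (Spec (CommRingCat.of k)), pl (1 : T ⟶ N) h = al T t := fun T => by
    rw [← MonObj.comp_one (toUnit T), ← pl_pl, ← show _ = pl (1 : 𝟙_ _ ⟶ N) h from ht]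
    exact pl_al (toUnit T) t
  have hx : ∀ (T : Over (Spec (CommRingCat.of k))) (x : T ⟶ N), pl x h = pl x χ₀ * al T t := fun T x => by
    have := hM T x 1
    rwa [hone, _root_.one_mul, _root_.mul_one, ht'] at this
  have htu : t ≠ 0 := fun e0 => hh0 (by
    have := hx N (𝟙 N)
    rwa [pl_id, e0, map_zero, mul_zero] at this)
  have hu : ∀ T : Over (Spec (CommRingCat.of k)), IsUnit (al T t) := fun T => htu.isUnit.map (al T)
  have key : ∀ (T : Over (Spec (CommRingCat.of k))) (x y : T ⟶ N),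
      cc c.1 x y * pl (x * y) χ₀ = pl x χ₀ * pl y χ₀ := fun T x y => by
    refine (hu T).mul_left_injective ?_
    show _ * al T t = _ * al T t
    rw [_root_.mul_assoc, ← hx, hM, _root_.mul_assoc, ← hx]
  have h1 : ∀ T : Over (Spec (CommRingCat.of k)), pl (1 : T ⟶ N) χ₀ = 1 := fun T => by
    refine (hu T).mul_left_injective ?_
    show _ * al T t = 1 * al T t
    rw [← hx, ht', _root_.one_mul]
  have hunit : IsUnit χ₀ := by
    have := key N (𝟙 N) (𝟙 N)⁻¹
    rw [mul_inv_cancel, h1, _root_.mul_one, pl_id] at this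
    refine isUnit_of_mul_isUnit_left (y := pl (𝟙 N)⁻¹ χ₀) ?_
    rw [← this]
    exact c.isUnit.map (pl (lift (𝟙 N) (𝟙 N)⁻¹))
  exact ⟨hunit.unit, fun T x y => key T x y⟩

end Groth.Agent.ThetaSplit
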