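/-
Bilinearity of the commutator pairing.
-/
import Groth.Agent.L26.Theta.Pairing

open CategoryTheory CategoryTheory.Limits AlgebraicGeometry TopologicalSpace Opposite
open MonoidalCategory CartesianMonoidalCategory MonObj GrpObj
open Groth.Agent.ThetaPts

universe u

noncomputable section

namespace Groth.Agent.ThetaPairing

set_option backward.isDefEq.respectTransparency false
set_option backward.isDefEq.respectTransparency.types false
set_option linter.style.haveILetI false

variable {S : Scheme.{u}} {A : Over S} [GrpObj A] {L : A.left.Modules} {T : Over S}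

theorem IsPair.swap {x y : T ⟶ A} {e : Γ(T.left, ⊤)ˣ} (h : IsPair L x y e) : IsPair L y x e⁻¹ :=
  fun T' g β₁ β₂ h₁ h₂ => by
    rw [h T' g β₂ β₁ h₂ h₁, map_inv, ← _root_.mul_assoc, ← map_mul, inv_mul_cancel, map_one, _root_.one_mul]

variable [IsCommMonObj A] (hπ : ∀ T : Over S, Function.Bijective (snd A T).left.appTop) (hL : PicF.IsInvertible L)

include hπ hL in
theorem IsPair.mul_right {x y y' : T ⟶ A} (hx : LocLift L x) (hy : LocLift L y) (hy' : LocLift L y')
    {e e' : Γ(T.left, ⊤)ˣ} (h : IsPair L x y e) (h' : IsPair L x y' e') : IsPair L x (y * y') (e * e') := by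
  obtain ⟨e₀, he₀⟩ := exists_isPair hπ hL hx (hy.mul hy')
  suffices e₀ = e * e' by rwa [← this]
  choose U hU α β hα hβ using exists_common hx hy
  choose V hV γ hγ using hy'
  refine Units.ext (unit_ext (fun t => U t ⊓ V t) (fun t => ⟨t, hU t, hV t⟩) fun t => ?_)
  obtain ⟨a, -, ha⟩ := exists_restrict (hα t) (opnLE T (inf_le_left : U t ⊓ V t ≤ U t))
  obtain ⟨b, -, hb⟩ := exists_restrict (hβ t) (opnLE T (inf_le_left : U t ⊓ V t ≤ U t))
  obtain ⟨c, -, hc⟩ := exists_restrict (hγ t) (opnLE T (inf_le_right : U t ⊓ V t ≤ V t))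
  rw [← Category.assoc, opnLE_ι] at ha hb hc
  have hbc : ThetaGrp.IsOverPt (b * c) (opnι T (U t ⊓ V t) ≫ (y * y')) := by
    rw [MonObj.comp_mul, mul_comm]
    exact isOverPt_mul hb hc
  have k0 := he₀ _ _ _ _ ha hbc
  have k : a * (b * c) = scal A L _ (res (opnι T (U t ⊓ V t)) (e * e')) * (b * c * a) := by
    rw [← _root_.mul_assoc, h _ _ _ _ ha hb, _root_.mul_assoc, _root_.mul_assoc, h' _ _ _ _ ha hc,
      ← _root_.mul_assoc b, ← scal_comm, _root_.mul_assoc (scal A L _ _) b, ← _root_.mul_assoc, ← map_mul,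
      ← map_mul, ← _root_.mul_assoc b]
  exact congrArg Units.val (scal_inj hπ hL (mul_right_cancel (k0.symm.trans k)))

include hπ hL in
theorem IsPair.mul_left {x x' y : T ⟶ A} (hx : LocLift L x) (hx' : LocLift L x') (hy : LocLift L y)
    {e e' : Γ(T.left, ⊤)ˣ} (h : IsPair L x y e) (h' : IsPair L x' y e') : IsPair L (x * x') y (e * e') := by
  have := ((h.swap).mul_right hπ hL hy hx hx' h'.swap).swap
  rwa [_root_.mul_inv, _root_.inv_inv, _root_.inv_inv] at this

end Groth.Agent.ThetaPairing
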