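/-
The commutator pairing on abelian varieties.
-/
import Groth.Agent.L26.Theta.Pairing
import Groth.Agent.L26.AbDual.Universal
import Groth.Agent.L26.AV.FibConst
import Groth.Agent.S19945
import Groth.Agent.L26.AV.Isogeny

open CategoryTheory CategoryTheory.Limits AlgebraicGeometry TopologicalSpace Opposite
open MonoidalCategory CartesianMonoidalCategory MonObj GrpObj
open Groth.Agent.ThetaPts Groth.Agent.ThetaPairing

universe u

noncomputable section

namespace Groth.Agent.ThetaAV

set_option backward.isDefEq.respectTransparency false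
set_option backward.isDefEq.respectTransparency.types false
set_option linter.style.haveILetI false

variable {k : Type u} [Field k] {A : Over (Spec (CommRingCat.of k))} [GrpObj A] [IsProper A.hom]
  [GeometricallyIntegral A.hom]

/-- Functions on `A ×_k T` are functions on `T`. -/
theorem bijective_snd (T : Over (Spec (CommRingCat.of k))) : Function.Bijective (snd A T).left.appTop := by
  haveI : GeometricallyConnected A.hom := AV.Isogeny.geometricallyConnected A.hom
  haveI : Subsingleton ↥(Spec (CommRingCat.of k)) := inferInstanceAs (Subsingleton (PrimeSpectrum k))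
  haveI : Surjective A.hom := ⟨fun y => ⟨η[A].left y, Subsingleton.elim _ _⟩⟩
  haveI := AbDualLib.isIso_app_XTproj A.hom (fun s => AV.fibConst_of_geometrically A.hom s) η[A].left
    (Over.w η[A]) T ⊤
  exact (ConcreteCategory.isIso_iff_bijective ((PicF.XTproj A.hom T).app ⊤)).1 inferInstance

/-- Units on the square are constants. -/
theorem exists_const (a : Γ((A ⊗ A).left, ⊤)ˣ) : ∃ c, a = res (toUnit (A ⊗ A)) c := by
  obtain ⟨b, hb⟩ := (bijective_snd (A := A) A).2 (a : Γ((A ⊗ A).left, ⊤))
  obtain ⟨b', hb'⟩ := (bijective_snd (A := A) A).2 (↑a⁻¹ : Γ((A ⊗ A).left, ⊤))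
  obtain ⟨c, hc⟩ := (bijective_snd (A := A) (𝟙_ _)).2 ((fst A (𝟙_ _)).left.appTop b)
  obtain ⟨c', hc'⟩ := (bijective_snd (A := A) (𝟙_ _)).2 ((fst A (𝟙_ _)).left.appTop b')
  have hbb : b * b' = 1 := (bijective_snd (A := A) A).1 (by rw [map_mul, hb, hb', Units.mul_inv, map_one])
  have hcc : c * c' = 1 :=
    (bijective_snd (A := A) (𝟙_ _)).1 (by rw [map_mul, hc, hc', ← map_mul, hbb, map_one, map_one])
  refine ⟨Units.mkOfMulEqOne c c' hcc, Units.ext ?_⟩
  show (a : Γ((A ⊗ A).left, ⊤)) = (toUnit (A ⊗ A)).left.appTop c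
  let j : A ⊗ A ⟶ A ⊗ 𝟙_ _ := lift (snd A A) (toUnit _)
  have h1 := congrArg j.left.appTop hc
  change ((snd A (𝟙_ _)).left.appTop ≫ j.left.appTop) c = ((fst A (𝟙_ _)).left.appTop ≫ j.left.appTop) b at h1
  rw [← Scheme.Hom.comp_appTop, ← Scheme.Hom.comp_appTop, ← Over.comp_left, ← Over.comp_left, lift_fst, lift_snd] at h1
  rw [h1, hb]

theorem locLift_iff [IsCommMonObj A] (L : A.left.Modules) (hL : PicF.IsInvertible L)
    {K : Over (Spec (CommRingCat.of k))} (iK : K ⟶ A) (hK : ThetaGrp.IsKL A L iK)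
    {T : Over (Spec (CommRingCat.of k))} (x : T ⟶ A) :
    (∃ y : T ⟶ K, y ≫ iK = x) ↔ LocLift L x :=
  Groth.Agent.S19945.result k A L hL K iK hK T x

end Groth.Agent.ThetaAV
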