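/-
Sections along cartesian arrows and descent of isomorphisms along fppf coverings.
-/
import Groth.Agent.L26.Theta.Cart
import Groth.Agent.L26.Poincare.PullKernel
import Groth.Agent.L19.ProjBdl.PullComp
import Groth.Agent.L22.PicGlue.GensIso

open CategoryTheory CategoryTheory.Limits AlgebraicGeometry TopologicalSpace Opposite
open CategoryTheory.Pseudofunctor
open Groth.L18.Frame (rs ro rs_rs rs_self rs_smul ro_ro ro_self ro_mul pull pull_rs pull_smul IsFrame)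
open Groth.Agent.ThetaCart

universe u

noncomputable section

namespace Groth.Agent.ThetaDescent

set_option backward.isDefEq.respectTransparency false
set_option backward.isDefEq.respectTransparency.types false
set_option linter.style.haveILetI false

variable {X Y Z : Obj.{u}}

/-- The section `s` of the source is the pullback of the section `m` of the target. -/
def Sec (f : X ⟶ Y) (V : Y.base.Opens) (m : Γ(md Y, V)) (s : Γ(md X, f.base ⁻¹ᵁ V)) : Prop :=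
  f.fiber.app (f.base ⁻¹ᵁ V) s = pull f.base (md Y) V m

theorem sec_comp {f : X ⟶ Y} {g : Y ⟶ Z} {V : Z.base.Opens} {m : Γ(md Z, V)} {t : Γ(md Y, g.base ⁻¹ᵁ V)}
    {s : Γ(md X, f.base ⁻¹ᵁ (g.base ⁻¹ᵁ V))} (hg : Sec g V m t) (hf : Sec f (g.base ⁻¹ᵁ V) t s) :
    Sec (f ≫ g) V m s := by
  show ((Scheme.Modules.pullbackComp f.base g.base).hom.app (md Z)).app (f.base ⁻¹ᵁ (g.base ⁻¹ᵁ V))
    (((Scheme.Modules.pullback f.base).map g.fiber).app (f.base ⁻¹ᵁ (g.base ⁻¹ᵁ V))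
      (f.fiber.app (f.base ⁻¹ᵁ (g.base ⁻¹ᵁ V)) s)) = _
  rw [show f.fiber.app (f.base ⁻¹ᵁ (g.base ⁻¹ᵁ V)) s = _ from hf, Groth.L19.ProjBdl.pull_app,
    show g.fiber.app (g.base ⁻¹ᵁ V) t = _ from hg]
  refine (congrArg (((Scheme.Modules.pullbackComp f.base g.base).hom.app (md Z)).app (f.base ⁻¹ᵁ (g.base ⁻¹ᵁ V)))
    (Groth.L19.ProjBdl.pull_comp f.base g.base (md Z) V m).symm).trans ?_
  exact congr($((Scheme.Modules.pullbackComp f.base g.base).inv_hom_id_app (md Z)).app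
    ((f.base ≫ g.base) ⁻¹ᵁ V) (pull (f.base ≫ g.base) (md Z) V m))

theorem exists_sec (f : X ⟶ Y) [IsCart f] (V : Y.base.Opens) (m : Γ(md Y, V)) : ∃ s, Sec f V m s :=
  (ConcreteCategory.bijective_of_isIso (f.fiber.app (f.base ⁻¹ᵁ V))).2 _

theorem sec_smul {f : X ⟶ Y} {V : Y.base.Opens} {m : Γ(md Y, V)} {s : Γ(md X, f.base ⁻¹ᵁ V)}
    (h : Sec f V m s) (a : Γ(Y.base, V)) : Sec f V (a • m) (f.base.app V a • s) := by
  rw [Sec, Scheme.Modules.Hom.app_smul, pull_smul, show f.fiber.app (f.base ⁻¹ᵁ V) s = _ from h]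

theorem sec_rs {f : X ⟶ Y} {V V' : Y.base.Opens} (hV : V' ≤ V) {m : Γ(md Y, V)}
    {s : Γ(md X, f.base ⁻¹ᵁ V)} (h : Sec f V m s) :
    Sec f V' (rs (md Y) hV m) (rs (md X) (f.base.preimage_mono hV) s) := by
  rw [Sec, ← pull_rs, ← show f.fiber.app (f.base ⁻¹ᵁ V) s = _ from h]
  exact congr($(f.fiber.mapPresheaf.naturality (homOfLE (f.base.preimage_mono hV)).op) s)

theorem sec_congr {f g : X ⟶ Y} (e : f = g) [IsCart f] {V : Y.base.Opens} {m : Γ(md Y, V)}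
    {s : Γ(md X, f.base ⁻¹ᵁ V)} {s' : Γ(md X, g.base ⁻¹ᵁ V)} (h : Sec f V m s) (h' : Sec g V m s')
    {W : X.base.Opens} (hW : W ≤ f.base ⁻¹ᵁ V) (hW' : W ≤ g.base ⁻¹ᵁ V) :
    rs (md X) hW s = rs (md X) hW' s' := by
  subst e
  rw [(ConcreteCategory.bijective_of_isIso (f.fiber.app (f.base ⁻¹ᵁ V))).1 (h.trans h'.symm)]

theorem sec_frame {f : X ⟶ Y} [IsCart f] {V : Y.base.Opens} {m : Γ(md Y, V)} (hm : IsFrame (md Y) V m)
    {s : Γ(md X, f.base ⁻¹ᵁ V)} (h : Sec f V m s) : IsFrame (md X) (f.base ⁻¹ᵁ V) s := by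
  have h1 := Groth.L19.ProjBdl.isFrame_of_iso (asIso f.fiber).symm (hm.pullback f.base (md Y))
  rw [← show f.fiber.app (f.base ⁻¹ᵁ V) s = _ from h] at h1
  rwa [show (asIso f.fiber).symm.hom.app _ (f.fiber.app (f.base ⁻¹ᵁ V) s) = s from
    congr($(IsIso.hom_inv_id f.fiber).app (f.base ⁻¹ᵁ V) s)] at h1

theorem rs_app_smul {R : Obj.{u}} (l : R.base ⟶ X.base) {U : X.base.Opens} {V : R.base.Opens} (h : V ≤ l ⁻¹ᵁ U)
    (a : Γ(X.base, U)) (s : Γ(md R, l ⁻¹ᵁ U)) : rs (md R) h (l.app U a • s) = l.appLE U V h a • rs (md R) h s :=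
  rs_smul _ _ _ _

/-- The ratio of two frames is invariant along arrows agreeing after both projections. -/
theorem appLE_eq {R Y₁ Y₂ : Obj.{u}} {u u' : R ⟶ X} [IsCart u] [IsCart u'] {π : X ⟶ Y₁} [IsCart π]
    {γ : X ⟶ Y₂} [IsCart γ] (k₁ : u ≫ π = u' ≫ π) (k₂ : u ≫ γ = u' ≫ γ) {W₁ : Y₁.base.Opens}
    {W₂ : Y₂.base.Opens} {e : Γ(md Y₁, W₁)} (he : IsFrame (md Y₁) W₁ e) {e' : Γ(md Y₂, W₂)}
    {s : Γ(md X, π.base ⁻¹ᵁ W₁)} (hs : Sec π W₁ e s) {s' : Γ(md X, γ.base ⁻¹ᵁ W₂)} (hs' : Sec γ W₂ e' s')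
    {hW : γ.base ⁻¹ᵁ W₂ = π.base ⁻¹ᵁ W₁} {c : Γ(X.base, π.base ⁻¹ᵁ W₁)}
    (hc : c • s = rs (md X) hW.ge s') {V : R.base.Opens} (h : V ≤ u.base ⁻¹ᵁ π.base ⁻¹ᵁ W₁)
    (h' : V ≤ u'.base ⁻¹ᵁ π.base ⁻¹ᵁ W₁) : u.base.appLE _ V h c = u'.base.appLE _ V h' c := by
  haveI := isCart_comp u π
  haveI := isCart_comp u γ
  obtain ⟨t, ht⟩ := exists_sec u (π.base ⁻¹ᵁ W₁) s
  obtain ⟨t', ht'⟩ := exists_sec u' (π.base ⁻¹ᵁ W₁) s
  have k3 := sec_congr k₁ (sec_comp hs ht) (sec_comp hs ht') h h'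
  have hsm := sec_rs hW.le (sec_smul ht c)
  have hsm' := sec_rs hW.le (sec_smul ht' c)
  rw [hc, rs_rs, rs_self] at hsm hsm'
  have k4 := sec_congr k₂ (sec_comp hs' hsm) (sec_comp hs' hsm')
    (h.trans (u.base.preimage_mono hW.ge)) (h'.trans (u'.base.preimage_mono hW.ge))
  rw [rs_rs, rs_rs, rs_app_smul, rs_app_smul] at k4
  have k5 := k4.trans (congrArg (u'.base.appLE _ V h' c • ·) k3.symm)
  exact ((sec_frame (sec_frame he hs) ht).mono h).inj le_rfl (by simp only [rs_self]; exact k5)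

variable {P : Scheme.{u}} {M₁ M₂ : P.Modules}

/-- Descent of an isomorphism along an fppf covering. -/
theorem nonempty_iso (hM₁ : PicF.IsInvertible M₁) (hM₂ : PicF.IsInvertible M₂) (b : X.base ⟶ P) [Flat b]
    [Surjective b] [LocallyOfFinitePresentation b] (p : md X ⟶ (Scheme.Modules.pullback b).obj M₁)
    (q : md X ⟶ (Scheme.Modules.pullback b).obj M₂) [IsIso p] [IsIso q]
    (hinv : ∀ (R : Obj.{u}) (l l' : R ⟶ X), IsCart l → IsCart l' →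
      l ≫ (⟨b, p⟩ : X ⟶ ⟨P, M₁⟩) = l' ≫ (⟨b, p⟩ : X ⟶ ⟨P, M₁⟩) →
      l ≫ (⟨b, q⟩ : X ⟶ ⟨P, M₂⟩) = l' ≫ (⟨b, q⟩ : X ⟶ ⟨P, M₂⟩)) : Nonempty (M₁ ≅ M₂) := by
  let π : X ⟶ ⟨P, M₁⟩ := ⟨b, p⟩
  let γ : X ⟶ ⟨P, M₂⟩ := ⟨b, q⟩
  haveI hπ : IsCart π := inferInstanceAs (IsIso p)
  haveI hγ : IsCart γ := inferInstanceAs (IsIso q)
  choose W₁ e₁ hW₁ he₁ using fun x : P => Groth.L18.Frame.exists_frame hM₁ x
  choose W₂ e₂ hW₂ he₂ using fun x : P => Groth.L18.Frame.exists_frame hM₂ x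
  let N : P → P.Opens := fun x => W₁ x ⊓ W₂ x
  let e : ∀ x, Γ(M₁, N x) := fun x => rs M₁ inf_le_left (e₁ x)
  let e' : ∀ x, Γ(M₂, N x) := fun x => rs M₂ inf_le_right (e₂ x)
  have he : ∀ x, IsFrame M₁ (N x) (e x) := fun x => (he₁ x).mono inf_le_left
  have he' : ∀ x, IsFrame M₂ (N x) (e' x) := fun x => (he₂ x).mono inf_le_right
  choose s hs using fun x => exists_sec π (N x) (e x)
  choose s' hs' using fun x => exists_sec γ (N x) (e' x)
  have hsF : ∀ x, IsFrame (md X) (b ⁻¹ᵁ N x) (s x) := fun x => sec_frame (he x) (hs x)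
  have hsF' : ∀ x, IsFrame (md X) (b ⁻¹ᵁ N x) (s' x) := fun x => sec_frame (he' x) (hs' x)
  choose c hc using fun x => (hsF x).exists_coeff le_rfl (s' x)
  simp only [rs_self] at hc
  have hcu : ∀ x, IsUnit (c x) := fun x =>
    Groth.L18.Frame.isUnit_of_isFrame (hsF x) (by rw [hc]; exact hsF' x)
  have hd : ∀ x, ∀ (j j' : PUnit.{u + 1}) {R : Scheme.{u}} (l l' : R ⟶ X.base) (V : R.Opens)
      (h : V ≤ l ⁻¹ᵁ b ⁻¹ᵁ N x) (h' : V ≤ l' ⁻¹ᵁ b ⁻¹ᵁ N x), l ≫ b = l' ≫ b →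
      l.appLE _ V h (c x) = l'.appLE _ V h' (c x) := by
    intro x _ _ R l l' V h h' hll
    let O : Obj.{u} := ⟨R, (Scheme.Modules.pullback (l ≫ b)).obj M₁⟩
    let ε : O ⟶ ⟨P, M₁⟩ := ⟨l ≫ b, 𝟙 _⟩
    haveI hε : IsCart ε := inferInstanceAs (IsIso (𝟙 _))
    obtain ⟨u, hu, hu1, hu2⟩ := exists_fac π ε l rfl
    obtain ⟨u', hu', hu1', hu2'⟩ := exists_fac π ε l' hll.symm
    haveI := hu2 hε
    haveI := hu2' hε
    have key := hinv O u u' inferInstance inferInstance (hu1.trans hu1'.symm)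
    have H := appLE_eq (hu1.trans hu1'.symm) key (he x) (hs x) (hs' x) (hW := rfl) ((hc x).trans (rs_self _ _ _).symm)
      (show V ≤ u.base ⁻¹ᵁ b ⁻¹ᵁ N x by rw [hu]; exact h) (show V ≤ u'.base ⁻¹ᵁ b ⁻¹ᵁ N x by rw [hu']; exact h')
    exact ((ConcreteCategory.congr_hom (AbDualLib.appLE_hom_congr hu.symm h) (c x)).trans H).trans
      (ConcreteCategory.congr_hom (AbDualLib.appLE_hom_congr hu' _) (c x))
  choose a ha using fun x => AbDualLib.exists_fun_desc (N x) (fun _ : PUnit.{u + 1} => X.base) (fun _ => b)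
    Poincare.PullKernel.mem_fppf (fun _ => c x) (hd x)
  have hau : ∀ x, IsUnit (a x) := fun x => by
    have hd' : ∀ (j j' : PUnit.{u + 1}) {R : Scheme.{u}} (l l' : R ⟶ X.base) (V : R.Opens)
        (h : V ≤ l ⁻¹ᵁ b ⁻¹ᵁ N x) (h' : V ≤ l' ⁻¹ᵁ b ⁻¹ᵁ N x), l ≫ b = l' ≫ b →
        l.appLE _ V h (↑(hcu x).unit⁻¹) = l'.appLE _ V h' (↑(hcu x).unit⁻¹) := fun j j' {R} l l' V h h' hll => by
      refine ((hcu x).map (l.appLE _ V h).hom).mul_left_cancel ?_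
      rw [← map_mul, IsUnit.mul_val_inv, map_one, hd x j j' l l' V h h' hll, ← map_mul, IsUnit.mul_val_inv, map_one]
    obtain ⟨a', ha'⟩ := AbDualLib.exists_fun_desc (N x) (fun _ : PUnit.{u + 1} => X.base) (fun _ => b)
      Poincare.PullKernel.mem_fppf (fun _ => ((↑(hcu x).unit⁻¹ : Γ(X.base, b ⁻¹ᵁ N x)))) hd'
    refine IsUnit.of_mul_eq_one a' (Poincare.PullKernel.app_injective (g := b) _ ?_)
    rw [map_mul, map_one, ha x PUnit.unit, ha' PUnit.unit, IsUnit.mul_val_inv]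
  refine Groth.L22.PicGlue.nonempty_iso_of_gens N (e := fun x => a x • e x) (e' := e')
    (fun x => (he x).smul_unit (hau x)) he' (fun x => ⟨x, hW₁ x, hW₂ x⟩) ?_
  intro x y V hx hy z hz
  replace hz : z • rs M₁ hx (a x • e x) = rs M₁ hy (a y • e y) := hz
  show z • rs M₂ hx (e' x) = rs M₂ hy (e' y)
  obtain ⟨w, hw⟩ := (he' x).exists_coeff hx (rs M₂ hy (e' y))
  rw [← hw]
  suffices z = w by rw [this]
  refine Poincare.PullKernel.app_injective (g := b) V ?_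
  have hcon : ∀ x (hx : V ≤ N x), ∀ r, Sec π V (rs M₁ hx (a x • e x)) r → Sec γ V (rs M₂ hx (e' x)) r := by
    intro x hx r hr
    have h1 : Sec π V (rs M₁ hx (a x • e x)) (rs (md X) (b.preimage_mono hx) (s' x)) := by
      refine sec_rs hx ?_
      rw [← hc x, ← ha x PUnit.unit]
      exact sec_smul (hs x) (a x)
    rw [(ConcreteCategory.bijective_of_isIso (π.fiber.app (π.base ⁻¹ᵁ V))).1 (hr.trans h1.symm)]
    exact sec_rs hx (hs' x)
  obtain ⟨r, hr⟩ := exists_sec π V (rs M₁ hx (a x • e x))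
  have h2 := hcon y hy (b.app V z • r) (by rw [← hz]; exact sec_smul hr z)
  have h3 : Sec γ V (rs M₂ hy (e' y)) (b.app V w • r) := by rw [← hw]; exact sec_smul (hcon x hx r hr) w
  have h4 := (ConcreteCategory.bijective_of_isIso (γ.fiber.app (γ.base ⁻¹ᵁ V))).1 (h2.trans h3.symm)
  have hrF : IsFrame (md X) (b ⁻¹ᵁ V) r := sec_frame (((he x).smul_unit (hau x)).mono hx) hr
  exact hrF.inj le_rfl (by simp only [rs_self]; exact h4)

/-- Descent of an isomorphism, in terms of cartesian arrows. -/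
theorem nonempty_iso_of_arrows (hM₁ : PicF.IsInvertible M₁) (hM₂ : PicF.IsInvertible M₂) (b : X.base ⟶ P)
    (h1 : Flat b) (h2 : Surjective b) (h3 : LocallyOfFinitePresentation b) (p : X ⟶ (⟨P, M₁⟩ : Obj.{u}))
    (q : X ⟶ (⟨P, M₂⟩ : Obj.{u})) [hpc : IsCart p] [hqc : IsCart q] (hp : p.base = b) (hq : q.base = b)
    (hinv : ∀ (R : Obj.{u}) (l l' : R ⟶ X), IsCart l → IsCart l' → l ≫ p = l' ≫ p → l ≫ q = l' ≫ q) :
    Nonempty (M₁ ≅ M₂) := by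
  obtain ⟨pb, pf⟩ := p
  obtain ⟨qb, qf⟩ := q
  change pb = b at hp
  change qb = b at hq
  subst hp hq
  haveI : IsIso pf := hpc
  haveI : IsIso qf := hqc
  exact nonempty_iso hM₁ hM₂ qb pf qf hinv

end Groth.Agent.ThetaDescent
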