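/-
Pulling points of theta groups back along homomorphisms.
-/
import Groth.Agent.L26.Theta.Pairing

open CategoryTheory CategoryTheory.Limits AlgebraicGeometry TopologicalSpace Opposite
open MonoidalCategory CartesianMonoidalCategory MonObj GrpObj
open Groth.Agent.ThetaCart Groth.Agent.ThetaPts Groth.Agent.ThetaPairing

universe u

noncomputable section

namespace Groth.Agent.ThetaPull

set_option backward.isDefEq.respectTransparency false
set_option backward.isDefEq.respectTransparency.types false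
set_option linter.style.haveILetI false

variable {S : Scheme.{u}} {A B : Over S} [GrpObj A] [GrpObj B] (f : A ⟶ B) [IsMonHom f]
  {L : A.left.Modules} {M : B.left.Modules} {T T' : Over S}

omit [IsMonHom f] in
/-- Cartesian arrows over a morphism of group schemes. -/
theorem exists_arrow (e : (Scheme.Modules.pullback f.left).obj M ≅ L) (T : Over S) :
    ∃ F : ThetaGrp.thetaObj A L T ⟶ ThetaGrp.thetaObj B M T, IsCart F ∧ F.base = (f ▷ T).left := by
  let i : (Scheme.Modules.pullback (fst A T).left).obj L ≅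
      (Scheme.Modules.pullback (f ▷ T).left).obj ((Scheme.Modules.pullback (fst B T).left).obj M) :=
    (Scheme.Modules.pullback (fst A T).left).mapIso e.symm ≪≫
      (Scheme.Modules.pullbackComp (fst A T).left f.left).app M ≪≫
      (Scheme.Modules.pullbackCongr (by rw [← Over.comp_left, ← Over.comp_left, whiskerRight_fst])).app M ≪≫
      ((Scheme.Modules.pullbackComp (f ▷ T).left (fst B T).left).app M).symm
  exact ⟨⟨(f ▷ T).left, i.hom⟩, inferInstanceAs (IsIso i.hom), rfl⟩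

theorem transl_whiskerRight (x : T ⟶ A) :
    ThetaGrp.transl A x ≫ (f ▷ T) = (f ▷ T) ≫ ThetaGrp.transl B (x ≫ f) := by
  apply CartesianMonoidalCategory.hom_ext
  · rw [Category.assoc, Category.assoc, whiskerRight_fst, ThetaGrp.transl_fst, ← Category.assoc,
      ThetaGrp.transl_fst, MonObj.mul_comp, Category.assoc, MonObj.comp_mul, whiskerRight_fst, ← Category.assoc (f ▷ T),
      whiskerRight_snd]
  · simp

theorem transl_whiskerRight_of_eq_one {x : T ⟶ A} (hx : x ≫ f = 1) :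
    ThetaGrp.transl A x ≫ (f ▷ T) = f ▷ T := by
  rw [transl_whiskerRight, hx, ThetaGrp.transl_one, Category.comp_id]

/-- Functions of the base are preserved. -/
theorem appTop_whiskerRight (a : Γ(T.left, ⊤)) :
    (f ▷ T).left.appTop (up (A := B) T a) = up (A := A) T a := by
  show ((snd B T).left.appTop ≫ (f ▷ T).left.appTop) a = _
  rw [← Scheme.Hom.comp_appTop, ← Over.comp_left, whiskerRight_snd]
  rfl

variable {F : ThetaGrp.thetaObj A L T ⟶ ThetaGrp.thetaObj B M T}

/-- Points pull back. -/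
theorem exists_pull [IsCart F] (hF : F.base = (f ▷ T).left) {x : T ⟶ A} {β : ThetaGrp.thetaPts B M T}
    (hβ : ThetaGrp.IsOverPt β (x ≫ f)) :
    ∃ α : ThetaGrp.thetaPts A L T, ThetaGrp.IsOverPt α x ∧ α.1.hom ≫ F = F ≫ β.1.hom := by
  haveI := isCart_iso β.1
  obtain ⟨γ, hγ, hfac, hcart⟩ := exists_fac F (F ≫ β.1.hom) (ThetaGrp.transl A x).left (by
    show _ = F.base ≫ β.1.hom.base
    rw [hF, show β.1.hom.base = _ from hβ, ← Over.comp_left, ← Over.comp_left, transl_whiskerRight])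
  haveI := hcart (isCart_comp _ _)
  obtain ⟨α, hα⟩ := exists_of_cart γ hγ
  exact ⟨α, show α.1.hom.base = _ by rw [hα, hγ], by rw [hα, hfac]⟩

/-- Pullback keeps commutators. -/
theorem pull_comm [IsCart F] (hF : F.base = (f ▷ T).left) {x y : T ⟶ A} [IsCommMonObj A]
    {α₁ α₂ : ThetaGrp.thetaPts A L T} {β₁ β₂ : ThetaGrp.thetaPts B M T} (h₁ : ThetaGrp.IsOverPt α₁ x)
    (h₂ : ThetaGrp.IsOverPt α₂ y) (e₁ : α₁.1.hom ≫ F = F ≫ β₁.1.hom) (e₂ : α₂.1.hom ≫ F = F ≫ β₂.1.hom)
    {a : Γ(T.left, ⊤)ˣ} (h : β₁ * β₂ = scal B M T a * (β₂ * β₁)) :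
    α₁ * α₂ = scal A L T a * (α₂ * α₁) := by
  refine Subtype.ext (Iso.ext (fac_unique F ?_ ?_))
  · have h12 := isOverPt_mul h₁ h₂
    have h21 := isOverPt_mul (isOverPt_scal (A := A) (L := L) a) (isOverPt_mul h₂ h₁)
    rw [_root_.mul_one, _root_.mul_comm x y] at h21
    exact h12.trans h21.symm
  · have k := congrArg (fun β : ThetaGrp.thetaPts B M T => F ≫ β.1.hom) h
    rw [scal_mul_hom, comp_act, hF, appTop_whiskerRight, mul_hom, mul_hom] at k
    rw [scal_mul_hom, act_comp, mul_hom, mul_hom, Category.assoc, e₁, ← Category.assoc, e₂, Category.assoc,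
      Category.assoc, e₂, ← Category.assoc α₁.1.hom, e₁, Category.assoc]
    exact k

variable (e : (Scheme.Modules.pullback f.left).obj M ≅ L)

include e in
theorem locLift_of_comp {x : T ⟶ A} (h : LocLift M (x ≫ f)) : LocLift L x := fun t => by
  obtain ⟨U, htU, β, hβ⟩ := h t
  obtain ⟨F, hc, hF⟩ := exists_arrow f e (opn T U)
  rw [← Category.assoc] at hβ
  obtain ⟨α, hα, -⟩ := exists_pull f hF hβ
  exact ⟨U, htU, α, hα⟩

variable [IsCommMonObj A] [IsCommMonObj B]
  (hA : ∀ T : Over S, Function.Bijective (snd A T).left.appTop)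
  (hB : ∀ T : Over S, Function.Bijective (snd B T).left.appTop)
  (hL : PicF.IsInvertible L) (hM : PicF.IsInvertible M)

include e hA hB hL hM in
/-- The pairing is compatible with homomorphisms. -/
theorem isPair_pull {x y : T ⟶ A} (hx : LocLift M (x ≫ f)) (hy : LocLift M (y ≫ f)) {a : Γ(T.left, ⊤)ˣ}
    (h : IsPair M (x ≫ f) (y ≫ f) a) : IsPair L x y a := fun T' g α₁ α₂ h₁ h₂ => by
  obtain ⟨b, hb⟩ := exists_comm hA hL h₁ h₂
  suffices b = res g a by rwa [this] at hb
  have hx' : LocLift M ((g ≫ x) ≫ f) := by rw [Category.assoc]; exact hx.comp g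
  have hy' : LocLift M ((g ≫ y) ≫ f) := by rw [Category.assoc]; exact hy.comp g
  choose U hU β₁ β₂ o₁ o₂ using exists_common hx' hy'
  refine Units.ext (unit_ext U (fun t => ⟨t, hU t⟩) fun t => ?_)
  obtain ⟨F, hc, hF⟩ := exists_arrow f e (opn T' (U t))
  have o₁' := o₁ t
  have o₂' := o₂ t
  rw [← Category.assoc] at o₁' o₂'
  obtain ⟨γ₁, q₁, e₁⟩ := exists_pull f hF o₁'
  obtain ⟨γ₂, q₂, e₂⟩ := exists_pull f hF o₂'
  obtain ⟨α₁', c₁, p₁⟩ := exists_restrict h₁ (opnι T' (U t))
  obtain ⟨α₂', c₂, p₂⟩ := exists_restrict h₂ (opnι T' (U t))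
  have hk := h _ (opnι T' (U t) ≫ g) (β₁ t) (β₂ t)
    (by rw [show (opnι T' (U t) ≫ g) ≫ x ≫ f = opnι T' (U t) ≫ (g ≫ x) ≫ f by simp only [Category.assoc]]; exact o₁ t)
    (by rw [show (opnι T' (U t) ≫ g) ≫ y ≫ f = opnι T' (U t) ≫ (g ≫ y) ≫ f by simp only [Category.assoc]]; exact o₂ t)
  rw [res_comp] at hk
  have hk' := comm_congr hA hL q₁ q₂ p₁ p₂ (pull_comm f hF q₁ q₂ e₁ e₂ hk)
  exact congrArg Units.val (scal_inj hA hL (mul_right_cancel ((isBaseChange_comm c₁ c₂ hb).symm.trans hk')))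

include e hA hB hL hM in
/-- The pairing of pulled back points. -/
theorem exists_isPair_pull {x y : T ⟶ A} (hx : LocLift M (x ≫ f)) (hy : LocLift M (y ≫ f)) :
    ∃ a, IsPair M (x ≫ f) (y ≫ f) a ∧ IsPair L x y a := by
  obtain ⟨a, ha⟩ := exists_isPair hB hM hx hy
  exact ⟨a, ha, isPair_pull f e hA hB hL hM hx hy ha⟩

include e hA hB hL hM in
/-- Points with image lifting locally are orthogonal to points killed by the homomorphism. -/
theorem isPerpPt_of_locLift {N : Over S} {i : N ⟶ A} (hi : ∀ (T' : Over S) (y : T' ⟶ N), (y ≫ i) ≫ f = 1)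
    {x : T ⟶ A} (h : LocLift M (x ≫ f)) : ThetaGrp.IsPerpPt L i x := fun T' g y β₁ β₂ h₁ h₂ => by
  have hx' : LocLift M ((g ≫ x) ≫ f) := by rw [Category.assoc]; exact h.comp g
  have hy' : LocLift M ((y ≫ i) ≫ f) := by rw [hi]; exact LocLift.one
  obtain ⟨a, hMp, hLp⟩ := exists_isPair_pull f e hA hB hL hM hx' hy'
  have ha : a = 1 := hMp.eq_one hB hM hx' hy' fun T'' g' γ₁ γ₂ _ o₂ => by
    rw [hi, MonObj.comp_one] at o₂
    obtain ⟨c, rfl⟩ := exists_scal_mul hB hM o₂ isOverPt_one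
    rw [_root_.mul_one, scal_comm]
  subst ha
  exact hLp.commute h₁ h₂

end Groth.Agent.ThetaPull
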