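/-
Descent of points of theta groups along surjective homomorphisms.
-/
import Groth.Agent.L26.Theta.Pull
import Groth.Agent.L26.Theta.Descent
import Groth.Agent.L25.Actions
import Groth.Prelude.Def_AlgGrp

open CategoryTheory CategoryTheory.Limits AlgebraicGeometry TopologicalSpace Opposite
open MonoidalCategory CartesianMonoidalCategory MonObj GrpObj
open CategoryTheory.Pseudofunctor
open Groth.Agent.ThetaCart Groth.Agent.ThetaPts Groth.Agent.ThetaPairing Groth.Agent.ThetaPull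

universe u

noncomputable section

namespace Groth.Agent.ThetaPull

set_option backward.isDefEq.respectTransparency false
set_option backward.isDefEq.respectTransparency.types false
set_option linter.style.haveILetI false

variable {S : Scheme.{u}} {A B : Over S} [GrpObj A] [GrpObj B] (f : A ⟶ B) [IsMonHom f]
  {L : A.left.Modules} {M : B.left.Modules} {T T' : Over S}

/-- The canonical lift of a point killed by the homomorphism exists. -/
theorem exists_canon {F : ThetaGrp.thetaObj A L T ⟶ ThetaGrp.thetaObj B M T} [IsCart F]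
    (hF : F.base = (f ▷ T).left) {x : T ⟶ A} (hx : x ≫ f = 1) :
    ∃ c : ThetaGrp.thetaPts A L T, ThetaGrp.IsOverPt c x ∧ c.1.hom ≫ F = F := by
  obtain ⟨c, hc, hcF⟩ := exists_pull f hF (β := 1) (x := x) (by rw [hx]; exact isOverPt_one)
  exact ⟨c, hc, hcF.trans (Category.comp_id F)⟩

/-- Descent of isomorphisms along the base change of a homomorphism. -/
theorem nonempty_iso_of_arrows {f₀ : A ⟶ B} (hf : Surjective f₀.left) [Flat f₀.left] [LocallyOfFinitePresentation f₀.left]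
    {M₁ M₂ : (B ⊗ T).left.Modules} (hM₁ : PicF.IsInvertible M₁) (hM₂ : PicF.IsInvertible M₂)
    (p : ThetaGrp.thetaObj A L T ⟶ (⟨(B ⊗ T).left, M₁⟩ : Obj.{u}))
    (q : ThetaGrp.thetaObj A L T ⟶ (⟨(B ⊗ T).left, M₂⟩ : Obj.{u})) [hpc : IsCart p] [hqc : IsCart q]
    (hp : p.base = (f₀ ▷ T).left) (hq : q.base = (f₀ ▷ T).left)
    (hinv : ∀ (R : Obj.{u}) (l l' : R ⟶ ThetaGrp.thetaObj A L T), IsCart l → IsCart l' →
      l ≫ p = l' ≫ p → l ≫ q = l' ≫ q) : Nonempty (M₁ ≅ M₂) :=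
  ThetaDescent.nonempty_iso_of_arrows hM₁ hM₂ (f₀ ▷ T).left (Groth.L25.Actions.of_whiskerRight @Flat f₀ T ‹_›)
    (Groth.L25.Actions.of_whiskerRight @Surjective f₀ T hf)
    (Groth.L25.Actions.of_whiskerRight @LocallyOfFinitePresentation f₀ T ‹_›) p q hp hq hinv

variable (hf : Surjective f.left) [Flat f.left] [LocallyOfFinitePresentation f.left]
  (hM : PicF.IsInvertible M) (e : (Scheme.Modules.pullback f.left).obj M ≅ L)
  {N : Over S} {i : N ⟶ A} (hN : AlgGrp.IsKernel i f)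

include hN in
/-- A point orthogonal to the kernel is invariant under the descent datum. -/
theorem equalized {x : T ⟶ A} {α : ThetaGrp.thetaPts A L T} (hα : ThetaGrp.IsOverPt α x)
    (hperp : ThetaGrp.IsPerpPt L i x) {F : ThetaGrp.thetaObj A L T ⟶ ThetaGrp.thetaObj B M T} [IsCart F]
    (hF : F.base = (f ▷ T).left) {R : Obj.{u}} {l l' : R ⟶ ThetaGrp.thetaObj A L T} (hll : l ≫ F = l' ≫ F) :
    l ≫ α.1.hom ≫ F = l' ≫ α.1.hom ≫ F := by
  have hbb : l.base ≫ (f ▷ T).left = l'.base ≫ (f ▷ T).left := by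
    rw [← hF]; exact congrArg CoGrothendieck.Hom.base hll
  let R' : Over S := Over.mk (l.base ≫ (A ⊗ T).hom)
  let p : R' ⟶ A ⊗ T := Over.homMk l.base rfl
  let p' : R' ⟶ A ⊗ T := Over.homMk l'.base (by
    show l'.base ≫ (A ⊗ T).hom = l.base ≫ (A ⊗ T).hom
    rw [← Over.w (f ▷ T), ← Category.assoc, ← hbb, Category.assoc])
  have hpp : p ≫ (f ▷ T) = p' ≫ (f ▷ T) := Over.OverMorphism.ext hbb
  have ht : p ≫ snd A T = p' ≫ snd A T := by
    simpa only [Category.assoc, whiskerRight_snd] using congrArg (· ≫ snd B T) hpp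
  have ha : p ≫ fst A T ≫ f = p' ≫ fst A T ≫ f := by
    simpa only [Category.assoc, whiskerRight_fst] using congrArg (· ≫ fst B T) hpp
  let t : R' ⟶ T := p ≫ snd A T
  let d : R' ⟶ A := (p ≫ fst A T)⁻¹ * (p' ≫ fst A T)
  have hd : d ≫ f = 1 := by
    simp only [d, MonObj.mul_comp, GrpObj.inv_comp, Category.assoc, ha, inv_mul_cancel]
  obtain ⟨n, hn⟩ : ∃ n : R' ⟶ N, n ≫ i = d :=
    ⟨hN.lift d (toUnit _) hd, hN.lift_fst _ _ _⟩
  let σ : R' ⟶ A ⊗ R' := lift (p ≫ fst A T) (𝟙 R')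
  haveI := isCart_bcLift (A := A) (L := L) t
  have hσ : σ ≫ (A ◁ t) = p := by
    apply CartesianMonoidalCategory.hom_ext <;> simp [σ, t]
  have hσ' : σ ≫ ThetaGrp.transl A d ≫ (A ◁ t) = p' := by
    apply CartesianMonoidalCategory.hom_ext
    · simp [σ, d, ThetaGrp.transl, MonObj.comp_mul]
    · simpa [σ, t, ThetaGrp.transl] using ht
  obtain ⟨m, hmb, hm, -⟩ := exists_fac (ThetaGrp.bcLift A L t) l σ.left (congrArg CommaMorphism.left hσ)
  haveI := isCart_comp (ThetaGrp.bcLift A L t) F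
  obtain ⟨c', hc'b, hc'F, hc'c⟩ := exists_fac (ThetaGrp.bcLift A L t ≫ F) (ThetaGrp.bcLift A L t ≫ F)
    (ThetaGrp.transl A d).left (by
      rw [CoGrothendieck.categoryStruct_comp_base, hF]
      show _ ≫ (A ◁ t).left ≫ (f ▷ T).left = (A ◁ t).left ≫ (f ▷ T).left
      simp only [← Over.comp_left]
      rw [whisker_exchange, ← Category.assoc, transl_whiskerRight_of_eq_one f hd])
  haveI := hc'c inferInstance
  obtain ⟨c, hc⟩ := exists_of_cart c' hc'b
  rw [← hc] at hc'F hc'b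
  obtain ⟨α', hα', ho⟩ := exists_restrict hα t
  have hcomm := congrArg (fun z : ThetaGrp.thetaPts A L R' => z.1.hom)
    (hperp R' t n α' c ho (by rw [hn]; exact hc'b))
  rw [mul_hom, mul_hom] at hcomm
  have hl'eq : l' = m ≫ c.1.hom ≫ ThetaGrp.bcLift A L t := by
    refine fac_unique F ?_ ?_
    · show l'.base = m.base ≫ c.1.hom.base ≫ (A ◁ t).left
      rw [hmb, hc'b, ← Over.comp_left, ← Over.comp_left, hσ']
      rfl
    · rw [← hll, Category.assoc, Category.assoc, hc'F, ← Category.assoc, hm]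
  have key : m ≫ c.1.hom ≫ ThetaGrp.bcLift A L t ≫ α.1.hom ≫ F = m ≫ ThetaGrp.bcLift A L t ≫ α.1.hom ≫ F := by
    rw [← Category.assoc (ThetaGrp.bcLift A L t), ← show α'.1.hom ≫ _ = _ from hα', Category.assoc,
      ← Category.assoc c.1.hom, hcomm, Category.assoc, hc'F]
  rw [hl'eq]
  simp only [Category.assoc]
  rw [key, ← Category.assoc m, hm]

include hf hM e hN in
/-- A point orthogonal to the kernel descends. -/
theorem exists_descend {x : T ⟶ A} {α : ThetaGrp.thetaPts A L T} (hα : ThetaGrp.IsOverPt α x)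
    (hperp : ThetaGrp.IsPerpPt L i x) :
    ∃ β : ThetaGrp.thetaPts B M T, ThetaGrp.IsOverPt β (x ≫ f) := by
  obtain ⟨F, hFc, hF⟩ := exists_arrow f e T
  haveI := isCart_iso α.1
  let M₁ : (B ⊗ T).left.Modules := (Scheme.Modules.pullback (fst B T).left).obj M
  have hM₁ : PicF.IsInvertible M₁ := Groth.L18.Ample.isInvertible_pullback _ hM
  let κ : (⟨(B ⊗ T).left, (Scheme.Modules.pullback (ThetaGrp.transl B (x ≫ f)).left).obj M₁⟩ : Obj.{u}) ⟶
      ThetaGrp.thetaObj B M T := ⟨(ThetaGrp.transl B (x ≫ f)).left, 𝟙 _⟩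
  haveI : IsCart κ := inferInstanceAs (IsIso (𝟙 _))
  have eb : (f ▷ T).left ≫ κ.base = (α.1.hom ≫ F).base := by
    show _ ≫ (ThetaGrp.transl B (x ≫ f)).left = α.1.hom.base ≫ F.base
    rw [show α.1.hom.base = _ from hα, hF, ← Over.comp_left, ← Over.comp_left, transl_whiskerRight]
  obtain ⟨γ, hγb, hγ, hγc⟩ := exists_fac κ (α.1.hom ≫ F) (f ▷ T).left eb
  haveI := hγc (isCart_comp _ _)
  have hinv : ∀ (R : Obj.{u}) (l l' : R ⟶ ThetaGrp.thetaObj A L T), IsCart l → IsCart l' →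
      l ≫ F = l' ≫ F → l ≫ γ = l' ≫ γ := fun R l l' _ _ hll => by
    refine fac_unique κ ?_ ?_
    · show l.base ≫ γ.base = l'.base ≫ γ.base
      rw [hγb, ← hF]
      exact congrArg CoGrothendieck.Hom.base hll
    · rw [Category.assoc, Category.assoc, hγ]
      exact equalized f hN hα hperp hF hll
  obtain ⟨φ⟩ := nonempty_iso_of_arrows (f₀ := f) hf hM₁ (Groth.L18.Ample.isInvertible_pullback _ hM₁) F γ hF hγb hinv
  let δ : ThetaGrp.thetaObj B M T ⟶ ThetaGrp.thetaObj B M T := ⟨(ThetaGrp.transl B (x ≫ f)).left, φ.hom⟩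
  haveI : IsCart δ := inferInstanceAs (IsIso φ.hom)
  obtain ⟨β, hβ⟩ := exists_of_cart δ (x := x ≫ f) rfl
  exact ⟨β, show β.1.hom.base = _ by rw [hβ]⟩

end Groth.Agent.ThetaPull
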