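/-
The kernel of a homomorphism of abelian varieties and theta groups.
-/
import Groth.Agent.L26.Theta.DescentPt
import Groth.Agent.L26.Theta.AbVar
import Groth.Agent.L08.FlatHom

open CategoryTheory CategoryTheory.Limits AlgebraicGeometry TopologicalSpace Opposite
open MonoidalCategory CartesianMonoidalCategory MonObj GrpObj

universe u

noncomputable section

namespace Groth.Agent.ThetaAV

set_option backward.isDefEq.respectTransparency false
set_option backward.isDefEq.respectTransparency.types false
set_option linter.style.haveILetI false

variable {k : Type u} [Field k] {A B N : Over (Spec (CommRingCat.of k))} [GrpObj B] {f : A ⟶ B} {i : N ⟶ A}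

theorem comp_kernel_eq_one (hN : AlgGrp.IsKernel i f) {T : Over (Spec (CommRingCat.of k))} (y : T ⟶ N) :
    (y ≫ i) ≫ f = 1 := by
  rw [Category.assoc, hN.w, ← Category.assoc, toUnit_unique (y ≫ toUnit N) (toUnit T), Hom.one_def]

variable [GrpObj A] [IsMonHom f] [IsProper A.hom] [IsProper B.hom] [GeometricallyIntegral B.hom]

theorem flat_lfp (hf : Surjective f.left) : Flat f.left ∧ LocallyOfFinitePresentation f.left := by
  haveI : Subsingleton ↥(Spec (CommRingCat.of k)) := inferInstanceAs (Subsingleton (PrimeSpectrum k))
  haveI : IsIntegral B.left := GeometricallyIntegral.isIntegral_of_subsingleton B.hom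
  haveI : LocallyOfFiniteType (f.left ≫ B.hom) := by rw [Over.w]; infer_instance
  haveI : LocallyOfFiniteType f.left := locallyOfFiniteType_of_comp f.left B.hom
  haveI : IsLocallyNoetherian B.left := LocallyOfFiniteType.isLocallyNoetherian B.hom
  exact ⟨Groth.L08.FlatHom.flat_of_surjective A B f, inferInstance⟩

end Groth.Agent.ThetaAV
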