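/-
Unique lifting against a fixed functor: composition and base change.
-/
import Groth.Prelude.Def_LiftSq
import Groth.Agent.L24.St.Calc

set_option autoImplicit false
set_option backward.isDefEq.respectTransparency false
set_option backward.isDefEq.respectTransparency.types false

universe v₇ u₇ v₆ u₆ v₅ u₅ v₄ u₄ v₃ u₃ v₂ u₂ v u

open CategoryTheory LiftSq

namespace Groth.Agent.ThetaL

variable {C : Type u} [Category.{v} C]
  {𝒜 : BasedCategory.{v₂, u₂} C} {ℬ : BasedCategory.{v₃, u₃} C}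
  {𝒳 : BasedCategory.{v₄, u₄} C} {𝒴 : BasedCategory.{v₅, u₅} C} {𝒵 : BasedCategory.{v₆, u₆} C}
  {j : 𝒜 ⥤ᵇ ℬ} {f : 𝒳 ⥤ᵇ 𝒴} {g : 𝒴 ⥤ᵇ 𝒵}

theorem hext {F G : 𝒳 ⥤ᵇ 𝒴} {α β : F ⟶ G} (h : ∀ x, α.toNatTrans.app x = β.toNatTrans.app x) : α = β := by
  apply BasedNatTrans.homCategory.ext
  ext x
  exact h x

theorem happ {F G : 𝒳 ⥤ᵇ 𝒴} {α β : F ⟶ G} (h : α = β) (x : 𝒳.obj) : α.toNatTrans.app x = β.toNatTrans.app x := by
  rw [h]

theorem lift_w_app {sq : Sq j f} (d : sq.Lift) (x : 𝒜.obj) :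
    d.isoBot.hom.toNatTrans.app (j.obj x) ≫ f.map (d.isoTop.hom.toNatTrans.app x) = sq.iso.hom.toNatTrans.app x :=
  happ d.w x

theorem hom_top_app {sq : Sq j f} {d d' : sq.Lift} (θ : d ⟶ d') (x : 𝒜.obj) :
    θ.hom.toNatTrans.app (j.obj x) ≫ d'.isoTop.hom.toNatTrans.app x = d.isoTop.hom.toNatTrans.app x :=
  happ θ.w_top x

theorem hom_bot_app {sq : Sq j f} {d d' : sq.Lift} (θ : d ⟶ d') (b : ℬ.obj) :
    d.isoBot.hom.toNatTrans.app b ≫ f.map (θ.hom.toNatTrans.app b) = d'.isoBot.hom.toNatTrans.app b :=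
  happ θ.w_bot b

section Comp

theorem liftsUniquely_comp (hf : LiftsUniquely j f) (hg : LiftsUniquely j g) :
    LiftsUniquely j (BasedFunctor.comp f g) := by
  intro sq
  let sqg : Sq j g := ⟨BasedFunctor.comp sq.top f, sq.bot, sq.iso⟩
  refine ⟨?_, fun d d' => ?_⟩
  · obtain ⟨l⟩ := (hg sqg).1
    let sqf : Sq j f := ⟨sq.top, l.fn, l.isoTop⟩
    obtain ⟨a⟩ := (hf sqf).1
    refine ⟨⟨a.fn, a.isoTop, l.isoBot ≪≫ Groth.L24.St.whiskerR a.isoBot g, hext fun x => ?_⟩⟩
    have h1 : l.isoBot.hom.toNatTrans.app (j.obj x) ≫ g.map (l.isoTop.hom.toNatTrans.app x) =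
        sq.iso.hom.toNatTrans.app x := lift_w_app l x
    have h2 : a.isoBot.hom.toNatTrans.app (j.obj x) ≫ f.map (a.isoTop.hom.toNatTrans.app x) =
        l.isoTop.hom.toNatTrans.app x := lift_w_app a x
    show (l.isoBot.hom.toNatTrans.app (j.obj x) ≫ g.map (a.isoBot.hom.toNatTrans.app (j.obj x))) ≫
      g.map (f.map (a.isoTop.hom.toNatTrans.app x)) = sq.iso.hom.toNatTrans.app x
    rw [← h1, ← h2, Functor.map_comp, Category.assoc]
  · let push : sq.Lift → sqg.Lift := fun d =>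
      ⟨BasedFunctor.comp d.fn f, Groth.L24.St.whiskerR d.isoTop f, d.isoBot, hext fun x => lift_w_app d x⟩
    obtain ⟨θu⟩ := (hg sqg).2 (push d) (push d')
    obtain ⟨θu'⟩ := (hg sqg).2 (push d') (push d)
    obtain ⟨i1⟩ := (hg sqg).2 (push d) (push d)
    obtain ⟨i2⟩ := (hg sqg).2 (push d') (push d')
    have hid1 : θu.default ≫ θu'.default = 𝟙 (push d) := (i1.uniq _).trans (i1.uniq _).symm
    have hid2 : θu'.default ≫ θu.default = 𝟙 (push d') := (i2.uniq _).trans (i2.uniq _).symm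
    let e : BasedFunctor.comp d.fn f ≅ BasedFunctor.comp d'.fn f :=
      ⟨θu.default.hom, θu'.default.hom, congrArg Sq.Lift.Hom.hom hid1, congrArg Sq.Lift.Hom.hom hid2⟩
    let sqf : Sq j f := ⟨sq.top, BasedFunctor.comp d.fn f, Groth.L24.St.whiskerR d.isoTop f⟩
    let a : sqf.Lift := ⟨d.fn, d.isoTop, Iso.refl _, hext fun x => by
      show 𝟙 _ ≫ f.map _ = _
      exact Category.id_comp _⟩
    let a' : sqf.Lift := ⟨d'.fn, d'.isoTop, e, hext fun x => by
      show e.hom.toNatTrans.app (j.obj x) ≫ f.map (d'.isoTop.hom.toNatTrans.app x) = f.map (d.isoTop.hom.toNatTrans.app x)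
      exact hom_top_app θu.default x⟩
    obtain ⟨φu⟩ := (hf sqf).2 a a'
    have hφ : ∀ b, f.map (φu.default.hom.toNatTrans.app b) = θu.default.hom.toNatTrans.app b := fun b => by
      have := hom_bot_app φu.default b
      rw [show a.isoBot.hom.toNatTrans.app b = 𝟙 _ from rfl, Category.id_comp] at this
      exact this
    refine ⟨⟨⟨⟨φu.default.hom, φu.default.w_top, hext fun b => ?_⟩⟩, fun ψ => ?_⟩⟩
    · show d.isoBot.hom.toNatTrans.app b ≫ g.map (f.map (φu.default.hom.toNatTrans.app b)) = _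
      rw [hφ b]
      exact hom_bot_app θu.default b
    · let ψg : push d ⟶ push d' := ⟨BasedCategory.whiskerRight ψ.hom f, hext fun x => by
        show f.map (ψ.hom.toNatTrans.app (j.obj x)) ≫ f.map (d'.isoTop.hom.toNatTrans.app x) = f.map (d.isoTop.hom.toNatTrans.app x)
        rw [← Functor.map_comp, hom_top_app ψ x], hext fun b => hom_bot_app ψ b⟩
      have hψg : BasedCategory.whiskerRight ψ.hom f = θu.default.hom := congrArg Sq.Lift.Hom.hom (θu.uniq ψg)
      let ψf : a ⟶ a' := ⟨ψ.hom, ψ.w_top, hext fun b => by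
        show 𝟙 _ ≫ f.map (ψ.hom.toNatTrans.app b) = θu.default.hom.toNatTrans.app b
        rw [Category.id_comp]
        exact happ hψg b⟩
      apply Sq.Lift.hom_ext
      have h : ψf.hom = φu.default.hom := congrArg (fun t : a ⟶ a' => t.hom) (φu.uniq ψf)
      exact h

end Comp

section Fp

variable {𝒲 : BasedCategory.{v₇, u₇} C} (y : 𝒲 ⥤ᵇ 𝒴)

open Groth.L24.St in
theorem liftsUniquely_fpFst (hf : LiftsUniquely j f) : LiftsUniquely j (FibCat.fpFst y f) := by
  intro sq
  let topX : 𝒜 ⥤ᵇ 𝒳 := BasedFunctor.comp sq.top (FibCat.fpSnd y f)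
  let sqX : Sq j f := ⟨topX, BasedFunctor.comp sq.bot y,
    whiskerR sq.iso y ≪≫ whiskerL sq.top (FibCat.fpIso y f)⟩
  refine ⟨?_, fun d d' => ?_⟩
  · obtain ⟨a⟩ := (hf sqX).1
    refine ⟨⟨FibCat.fpLift sq.bot a.fn a.isoBot, mkIso2 (fun x => fpIsoMk (appIso sq.iso x) (appIso a.isoTop x) ?_)
      (fun x x' m => ?_) (fun x => overId_fp _ (overId_app sq.iso.hom x)), Iso.refl _, hext fun x => ?_⟩⟩
    · have h1 : a.isoBot.hom.toNatTrans.app (j.obj x) ≫ f.map (a.isoTop.hom.toNatTrans.app x) =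
          y.map (sq.iso.hom.toNatTrans.app x) ≫ (sq.top.obj x).obj.iso.hom := lift_w_app a x
      exact h1.symm
    · exact fp_ext (sq.iso.hom.toNatTrans.naturality m) (a.isoTop.hom.toNatTrans.naturality m)
    · show 𝟙 _ ≫ sq.iso.hom.toNatTrans.app x = sq.iso.hom.toNatTrans.app x
      exact Category.id_comp _
  · let push : sq.Lift → sqX.Lift := fun d =>
      ⟨BasedFunctor.comp d.fn (FibCat.fpSnd y f), whiskerR d.isoTop (FibCat.fpSnd y f),
        whiskerR d.isoBot y ≪≫ whiskerL d.fn (FibCat.fpIso y f), hext fun x => by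
          show (y.map (d.isoBot.hom.toNatTrans.app (j.obj x)) ≫ (d.fn.obj (j.obj x)).obj.iso.hom) ≫
              f.map (d.isoTop.hom.toNatTrans.app x).hom.snd =
            y.map (sq.iso.hom.toNatTrans.app x) ≫ (sq.top.obj x).obj.iso.hom
          have hw : y.map (d.isoTop.hom.toNatTrans.app x).hom.fst ≫ (sq.top.obj x).obj.iso.hom =
              (d.fn.obj (j.obj x)).obj.iso.hom ≫ f.map (d.isoTop.hom.toNatTrans.app x).hom.snd :=
            (d.isoTop.hom.toNatTrans.app x).hom.w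
          have hd : d.isoBot.hom.toNatTrans.app (j.obj x) ≫ (d.isoTop.hom.toNatTrans.app x).hom.fst =
              sq.iso.hom.toNatTrans.app x := lift_w_app d x
          rw [← hd, Functor.map_comp, Category.assoc, Category.assoc, ← hw]⟩
    obtain ⟨θu⟩ := (hf sqX).2 (push d) (push d')
    let E : BasedFunctor.comp d.fn (FibCat.fpFst y f) ≅ BasedFunctor.comp d'.fn (FibCat.fpFst y f) :=
      d.isoBot.symm ≪≫ d'.isoBot
    let cmp : ∀ b, d.fn.obj b ⟶ d'.fn.obj b := fun b =>
      fpHom (E.hom.toNatTrans.app b) (θu.default.hom.toNatTrans.app b) (by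
        have h2 : (y.map (d.isoBot.hom.toNatTrans.app b) ≫ (d.fn.obj b).obj.iso.hom) ≫ f.map (θu.default.hom.toNatTrans.app b) =
            y.map (d'.isoBot.hom.toNatTrans.app b) ≫ (d'.fn.obj b).obj.iso.hom := hom_bot_app θu.default b
        show y.map (d.isoBot.inv.toNatTrans.app b ≫ d'.isoBot.hom.toNatTrans.app b) ≫ (d'.fn.obj b).obj.iso.hom = _
        rw [Functor.map_comp, Category.assoc, ← h2, Category.assoc, ← Category.assoc, ← Functor.map_comp]
        erw [show d.isoBot.inv.toNatTrans.app b ≫ d.isoBot.hom.toNatTrans.app b = 𝟙 _ from happ d.isoBot.inv_hom_id b]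
        erw [Functor.map_id, Category.id_comp])
    let mor : d.fn ⟶ d'.fn :=
      { toNatTrans :=
          { app := cmp
            naturality := fun b b' m => fp_ext (E.hom.toNatTrans.naturality m) (θu.default.hom.toNatTrans.naturality m) }
        isHomLift' := fun b => (overId_fp (cmp b) (overId_app E.hom b)).lift (d.fn.w_obj b) }
    refine ⟨⟨⟨⟨mor, hext fun x => ?_, hext fun b => ?_⟩⟩, fun ψ => ?_⟩⟩
    · refine fp_ext ?_ (hom_top_app θu.default x)
      show (d.isoBot.inv.toNatTrans.app (j.obj x) ≫ d'.isoBot.hom.toNatTrans.app (j.obj x)) ≫ (d'.isoTop.hom.toNatTrans.app x).hom.fst =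
        (d.isoTop.hom.toNatTrans.app x).hom.fst
      have h1 : d'.isoBot.hom.toNatTrans.app (j.obj x) ≫ (d'.isoTop.hom.toNatTrans.app x).hom.fst =
          sq.iso.hom.toNatTrans.app x := lift_w_app d' x
      have h2 : d.isoBot.hom.toNatTrans.app (j.obj x) ≫ (d.isoTop.hom.toNatTrans.app x).hom.fst =
          sq.iso.hom.toNatTrans.app x := lift_w_app d x
      rw [Category.assoc, h1, ← h2, ← Category.assoc]
      erw [show d.isoBot.inv.toNatTrans.app (j.obj x) ≫ d.isoBot.hom.toNatTrans.app (j.obj x) = 𝟙 _ from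
        happ d.isoBot.inv_hom_id (j.obj x), Category.id_comp]
    · show d.isoBot.hom.toNatTrans.app b ≫ d.isoBot.inv.toNatTrans.app b ≫ d'.isoBot.hom.toNatTrans.app b = _
      rw [← Category.assoc]
      erw [show d.isoBot.hom.toNatTrans.app b ≫ d.isoBot.inv.toNatTrans.app b = 𝟙 _ from happ d.isoBot.hom_inv_id b, Category.id_comp]
    · apply Sq.Lift.hom_ext
      refine hext fun b => fp_ext ?_ ?_
      · have h1 : d.isoBot.hom.toNatTrans.app b ≫ (ψ.hom.toNatTrans.app b).hom.fst = d'.isoBot.hom.toNatTrans.app b :=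
          hom_bot_app ψ b
        show (ψ.hom.toNatTrans.app b).hom.fst = d.isoBot.inv.toNatTrans.app b ≫ d'.isoBot.hom.toNatTrans.app b
        rw [← h1, ← Category.assoc]
        erw [show d.isoBot.inv.toNatTrans.app b ≫ d.isoBot.hom.toNatTrans.app b = 𝟙 _ from happ d.isoBot.inv_hom_id b, Category.id_comp]
      · let ψX : push d ⟶ push d' := ⟨BasedCategory.whiskerRight ψ.hom (FibCat.fpSnd y f),
          hext fun x => congrArg (fun t => t.hom.snd) (hom_top_app ψ x), hext fun b => by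
            show (y.map (d.isoBot.hom.toNatTrans.app b) ≫ (d.fn.obj b).obj.iso.hom) ≫ f.map (ψ.hom.toNatTrans.app b).hom.snd =
              y.map (d'.isoBot.hom.toNatTrans.app b) ≫ (d'.fn.obj b).obj.iso.hom
            have hw : y.map (ψ.hom.toNatTrans.app b).hom.fst ≫ (d'.fn.obj b).obj.iso.hom =
                (d.fn.obj b).obj.iso.hom ≫ f.map (ψ.hom.toNatTrans.app b).hom.snd := (ψ.hom.toNatTrans.app b).hom.w
            have h1 : d.isoBot.hom.toNatTrans.app b ≫ (ψ.hom.toNatTrans.app b).hom.fst = d'.isoBot.hom.toNatTrans.app b :=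
              hom_bot_app ψ b
            rw [← h1, Functor.map_comp, Category.assoc, Category.assoc, hw]⟩
        exact happ (congrArg Sq.Lift.Hom.hom (θu.uniq ψX)) b

end Fp

end Groth.Agent.ThetaL
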