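/-
A faithfully flat image of an abelian variety is an abelian variety.
-/
import Groth.Agent.L26.Poincare.PullKernel
import Mathlib.AlgebraicGeometry.Geometrically.Integral

open CategoryTheory CategoryTheory.Limits AlgebraicGeometry TopologicalSpace Opposite

universe u

noncomputable section

namespace Groth.Agent.ThetaQuot

set_option backward.isDefEq.respectTransparency.types false
set_option linter.style.haveILetI false

theorem isReduced_of_flat_surjective {Q P : Scheme.{u}} (g : Q ⟶ P) [Flat g] [Surjective g]
    [LocallyOfFinitePresentation g] [IsReduced Q] : IsReduced P := by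
  haveI h : ∀ V : P.Opens, _root_.IsReduced Γ(P, V) := fun V => ⟨fun a ha => by
    refine Poincare.PullKernel.app_injective (g := g) V ?_
    rw [map_zero]
    exact (ha.map (g.app V).hom).eq_zero⟩
  exact ⟨h⟩

theorem geometricallyIntegral_of_flat_surjective {X Y : Scheme.{u}} {k : Type u} [Field k]
    (f : X ⟶ Spec (CommRingCat.of k)) (g : Y ⟶ Spec (CommRingCat.of k)) (p : X ⟶ Y) (hp : p ≫ g = f)
    [Flat p] [Surjective p] [LocallyOfFinitePresentation p] [GeometricallyIntegral f] :
    GeometricallyIntegral g := by
  have : ObjectProperty.IsClosedUnderIsomorphisms (fun X : Scheme.{u} => IsIntegral X) :=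
    ⟨fun e h => by
      have := h
      have : Nonempty _ := ⟨e.hom (Nonempty.some (inferInstance : Nonempty _))⟩
      exact isIntegral_of_isOpenImmersion e.inv⟩
  rw [GeometricallyIntegral.eq_geometrically, geometrically_iff_of_isClosedUnderIsomorphisms]
  intro K _ y
  let t : pullback f y ⟶ pullback g y :=
    pullback.map f y g y p (𝟙 _) (𝟙 _) (by simp [hp]) (by simp)
  haveI : IsIntegral (pullback f y) :=
    pullback_of_geometrically (GeometricallyIntegral.geometrically_isIntegral (f := f)) K y
  have sq : IsPullback (pullback.fst f y) t p (pullback.fst g y) := by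
    refine IsPullback.of_bot ?_ (pullback.lift_fst _ _ _).symm (IsPullback.of_hasPullback g y)
    rw [hp, show t ≫ pullback.snd g y = pullback.snd f y from
      (pullback.lift_snd _ _ _).trans (Category.comp_id _)]
    exact IsPullback.of_hasPullback f y
  haveI : Flat t := MorphismProperty.of_isPullback sq ‹Flat p›
  haveI : Surjective t := MorphismProperty.of_isPullback sq ‹Surjective p›
  haveI : LocallyOfFinitePresentation t := MorphismProperty.of_isPullback sq ‹LocallyOfFinitePresentation p›
  rw [isIntegral_iff_irreducibleSpace_and_isReduced]
  refine ⟨?_, isReduced_of_flat_surjective t⟩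
  have : Nonempty ↥(pullback g y) := ⟨t (Nonempty.some inferInstance)⟩
  have hpre : PreirreducibleSpace ↥(pullback g y) :=
    ⟨by
      have := (IrreducibleSpace.isIrreducible_univ ↥(pullback f y)).image t t.continuous.continuousOn
      rw [Set.image_univ, t.surjective.range_eq] at this
      exact this.isPreirreducible⟩
  exact { toPreirreducibleSpace := hpre, toNonempty := inferInstance }

theorem isProper_of_surjective {X Y : Scheme.{u}} {k : Type u} [Field k]
    (f : X ⟶ Spec (CommRingCat.of k)) (g : Y ⟶ Spec (CommRingCat.of k)) (p : X ⟶ Y) (hp : p ≫ g = f)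
    [Surjective p] [IsProper f] [IsSeparated g] [LocallyOfFiniteType g] : IsProper g := by
  haveI : UniversallyClosed (p ≫ g) := by rw [hp]; infer_instance
  haveI := UniversallyClosed.of_comp_surjective p g
  exact ⟨⟩

end Groth.Agent.ThetaQuot
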