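/-
Transitivity of base change of points of theta groups.
-/
import Groth.Agent.L26.Theta.Pairing

open CategoryTheory CategoryTheory.Limits AlgebraicGeometry TopologicalSpace Opposite
open MonoidalCategory CartesianMonoidalCategory MonObj GrpObj
open Groth.Agent.ThetaCart Groth.Agent.ThetaPts Groth.Agent.ThetaPairing

universe u

noncomputable section

namespace Groth.Agent.ThetaPts

set_option backward.isDefEq.respectTransparency false
set_option backward.isDefEq.respectTransparency.types false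
set_option linter.style.haveILetI false

variable {S : Scheme.{u}} {A : Over S} [GrpObj A] {L : A.left.Modules} {T T' T'' : Over S}
  (hπ : ∀ T : Over S, Function.Bijective (snd A T).left.appTop) (hL : PicF.IsInvertible L)

include hπ hL in
/-- A base change of a base change is a base change. -/
theorem isBaseChange_trans {α : ThetaGrp.thetaPts A L T''} {β : ThetaGrp.thetaPts A L T'}
    {u : ThetaGrp.thetaPts A L T} {t : T'' ⟶ T'} {g : T' ⟶ T} (h : ThetaGrp.IsBaseChange α t β)
    (h' : ThetaGrp.IsBaseChange β g u) : ThetaGrp.IsBaseChange α (t ≫ g) u := by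
  haveI := isCart_bcLift (A := A) (L := L) t
  haveI := isCart_bcLift (A := A) (L := L) g
  haveI := isCart_bcLift (A := A) (L := L) (t ≫ g)
  haveI := isCart_comp (ThetaGrp.bcLift A L t) (ThetaGrp.bcLift A L g)
  obtain ⟨a, ha⟩ := exists_act_eq (Groth.L18.Ample.isInvertible_pullback _ hL) (ThetaGrp.bcLift A L (t ≫ g))
    (ThetaGrp.bcLift A L t ≫ ThetaGrp.bcLift A L g) (by
      show (A ◁ (t ≫ g)).left = (A ◁ t).left ≫ (A ◁ g).left
      rw [whiskerLeft_comp, Over.comp_left])
  obtain ⟨c, hc⟩ := (hπ T'').2 (a : Γ((A ⊗ T'').left, ⊤))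
  obtain ⟨x, hx⟩ := exists_isOverPt α
  have hinv : α.1.hom.base.appTop (a : Γ((A ⊗ T'').left, ⊤)) = a := by
    rw [← show up (A := A) T'' c = (a : Γ((A ⊗ T'').left, ⊤)) from hc, show α.1.hom.base = _ from hx]
    exact appTop_transl x c
  show α.1.hom ≫ ThetaGrp.bcLift A L (t ≫ g) = ThetaGrp.bcLift A L (t ≫ g) ≫ u.1.hom
  rw [ha, comp_act, hinv, act_comp, Category.assoc, ← show β.1.hom ≫ _ = _ from h', ← Category.assoc,
    show α.1.hom ≫ _ = _ from h, Category.assoc]

variable [IsCommMonObj A]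

include hπ hL in
/-- Commutation only depends on the points. -/
theorem commute_congr {x y : T ⟶ A} {α₁ α₂ β₁ β₂ : ThetaGrp.thetaPts A L T} (hα₁ : ThetaGrp.IsOverPt α₁ x)
    (hα₂ : ThetaGrp.IsOverPt α₂ y) (hβ₁ : ThetaGrp.IsOverPt β₁ x) (hβ₂ : ThetaGrp.IsOverPt β₂ y)
    (h : α₁ * α₂ = α₂ * α₁) : β₁ * β₂ = β₂ * β₁ := by
  have := comm_congr hπ hL hα₁ hα₂ hβ₁ hβ₂ (a := 1) (by rw [map_one, _root_.one_mul]; exact h)
  rwa [map_one, _root_.one_mul] at this

end Groth.Agent.ThetaPts
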