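/-
A lift of the kernel to the theta group gives a descent datum.
-/
import Groth.Agent.L26.InvDescent.Effective
import Groth.Agent.L26.Theta.Trans
import Groth.Prelude.Def_AlgGrp

open CategoryTheory CategoryTheory.Limits AlgebraicGeometry TopologicalSpace Opposite
open MonoidalCategory CartesianMonoidalCategory MonObj GrpObj
open CategoryTheory.Pseudofunctor
open Groth.Agent.ThetaCart Groth.Agent.ThetaPts Groth.Agent.ThetaPairing
open Groth.Agent.InvDescent (Datum)

universe u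

noncomputable section

namespace Groth.Agent.ThetaEff

set_option backward.isDefEq.respectTransparency false
set_option backward.isDefEq.respectTransparency.types false
set_option linter.style.haveILetI false

variable {S : Scheme.{u}} {A : Over S} [GrpObj A] (L : A.left.Modules)

/-- The pair of the total space. -/
abbrev tot : Obj.{u} := ⟨A.left, L⟩

/-- The projection to it. -/
abbrev proj (T : Over S) : ThetaGrp.thetaObj A L T ⟶ tot L := ⟨(fst A T).left, 𝟙 _⟩

instance (T : Over S) : IsCart (proj L T) :=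
  inferInstanceAs (IsIso (𝟙 ((Scheme.Modules.pullback (fst A T).left).obj L)))

variable {L} {N G : Over S} {u : ThetaGrp.thetaPts A L G}
  (hπ : ∀ T : Over S, Function.Bijective (snd A T).left.appTop) (hL : PicF.IsInvertible L)
  (i : N ⟶ A) (j : N ⟶ G)
  (hover : ∀ (T : Over S) (n : T ⟶ N) (β : ThetaGrp.thetaPts A L T),
    ThetaGrp.IsBaseChange β (n ≫ j) u → ThetaGrp.IsOverPt β (n ≫ i))

/-- The witness that two arrows are related, on a given test object. -/
def Wit (u : ThetaGrp.thetaPts A L G) {R : Obj.{u}} (l l' : R ⟶ tot L) (T : Over S) : Prop :=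
  ∃ (n : T ⟶ N) (β : ThetaGrp.thetaPts A L T) (m : R ⟶ ThetaGrp.thetaObj A L T), IsCart m ∧
    ThetaGrp.IsBaseChange β (n ≫ j) u ∧ m ≫ proj L T = l ∧ m ≫ β.1.hom ≫ proj L T = l'

/-- The arrow into the product with the graph as base. -/
abbrev graph {R : Scheme.{u}} (s : R ⟶ S) (g : R ⟶ A.left) (h : g ≫ A.hom = s) : Over.mk s ⟶ A ⊗ Over.mk s :=
  lift (Over.homMk g h) (𝟙 _)

include hπ hL hover in
theorem base_eq {R : Obj.{u}} {l l' : R ⟶ tot L} (s : R.base ⟶ S) (h : l.base ≫ A.hom = s)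
    {T : Over S} (hw : Wit j u l l' T) :
    ∃ (n : Over.mk s ⟶ N) (h' : l'.base ≫ A.hom = s) (β : ThetaGrp.thetaPts A L (Over.mk s))
      (m : R ⟶ ThetaGrp.thetaObj A L (Over.mk s)), IsCart m ∧ m.base = (graph s l.base h).left ∧
      ThetaGrp.IsBaseChange β (n ≫ j) u ∧ m ≫ proj L _ = l ∧ m ≫ β.1.hom ≫ proj L _ = l' ∧
      (Over.homMk l'.base h' : Over.mk s ⟶ A) = (Over.homMk l.base h : Over.mk s ⟶ A) * (n ≫ i) := by
  obtain ⟨n, β, m, hmc, hβ, hl, hl'⟩ := hw
  let p : Over.mk s ⟶ A ⊗ T := Over.homMk m.base (by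
    show m.base ≫ (A ⊗ T).hom = s
    rw [← h, ← congrArg CoGrothendieck.Hom.base hl]
    show m.base ≫ (A ⊗ T).hom = (m.base ≫ (fst A T).left) ≫ A.hom
    rw [Category.assoc, Over.w])
  let t : Over.mk s ⟶ T := p ≫ snd A T
  have hp : graph s l.base h ≫ (A ◁ t) = p := by
    apply CartesianMonoidalCategory.hom_ext
    · rw [Category.assoc, whiskerLeft_fst, lift_fst]
      exact Over.OverMorphism.ext (congrArg CoGrothendieck.Hom.base hl).symm
    · simp [t]
  haveI := isCart_bcLift (A := A) (L := L) t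
  obtain ⟨m₀, hm₀b, hm₀, hm₀c⟩ := exists_fac (ThetaGrp.bcLift A L t) m (graph s l.base h).left
    (congrArg CommaMorphism.left hp)
  haveI := hm₀c hmc
  obtain ⟨β₀, hβ₀, ho⟩ := exists_restrict (hover T n β hβ) t
  haveI := isCart_comp (ThetaGrp.bcLift A L t) (proj L T)
  have hX : PicF.IsInvertible (md (ThetaGrp.thetaObj A L (Over.mk s))) := Groth.L18.Ample.isInvertible_pullback _ hL
  obtain ⟨a, ha⟩ := exists_act_eq hX (ThetaGrp.bcLift A L t ≫ proj L T) (proj L (Over.mk s)) (by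
    show (A ◁ t).left ≫ (fst A T).left = (fst A (Over.mk s)).left
    rw [← Over.comp_left, whiskerLeft_fst])
  obtain ⟨a₀, ha₀⟩ := (hπ (Over.mk s)).2 (a : Γ((A ⊗ Over.mk s).left, ⊤))
  have hinv : β₀.1.hom.base.appTop (a : Γ((A ⊗ Over.mk s).left, ⊤)) = a := by
    rw [← show up (A := A) (Over.mk s) a₀ = (a : Γ((A ⊗ Over.mk s).left, ⊤)) from ha₀,
      show β₀.1.hom.base = _ from ho]
    exact appTop_transl _ a₀
  let m₁ : R ⟶ ThetaGrp.thetaObj A L (Over.mk s) := act (m₀.base.appTop (a : Γ((A ⊗ Over.mk s).left, ⊤))) m₀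
  have k1 : m₁ ≫ proj L _ = l := by
    rw [← hl, ← hm₀, Category.assoc, ha, comp_act, act_comp]
  have k2 : m₁ ≫ β₀.1.hom ≫ proj L _ = l' := by
    rw [← hl', ← hm₀, Category.assoc, ← Category.assoc (ThetaGrp.bcLift A L t), ← show β₀.1.hom ≫ _ = _ from hβ₀,
      Category.assoc, ha, comp_act β₀.1.hom, hinv, comp_act, act_comp]
  have k3 : (fst A (Over.mk s) * (snd A (Over.mk s) ≫ t ≫ n ≫ i)).left = (β₀.1.hom ≫ proj L _).base := by
    show _ = β₀.1.hom.base ≫ (fst A _).left
    rw [show β₀.1.hom.base = _ from ho, ← Over.comp_left, ThetaGrp.transl_fst]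
  have hl'b : l'.base = (graph s l.base h ≫ (fst A (Over.mk s) * (snd A (Over.mk s) ≫ t ≫ n ≫ i))).left := by
    rw [← k2, Over.comp_left, k3]
    show m₁.base ≫ _ = _
    rw [show m₁.base = _ from hm₀b]
  refine ⟨t ≫ n, by rw [hl'b, Over.w]; rfl, β₀, m₁, isCart_act (a.isUnit.map m₀.base.appTop.hom) m₀, hm₀b,
    ?_, k1, k2, ?_⟩
  · rw [Category.assoc]
    exact isBaseChange_trans hπ hL hβ₀ hβ
  · refine Over.OverMorphism.ext (hl'b.trans ?_)
    simp [MonObj.comp_mul, Category.assoc]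

variable [IsCommMonObj A] {B : Over S} [GrpObj B] [GrpObj N] [IsMonHom i] (f : A ⟶ B) [IsMonHom f]
  (hN : AlgGrp.IsKernel i f)

include hπ hL hover hN in
/-- The descent datum of a multiplicative family of lifts of the kernel. -/
theorem exists_datum_of_mul (hmul : ∀ (T : Over S) (n m : T ⟶ N) (β₁ β₂ : ThetaGrp.thetaPts A L T),
    ThetaGrp.IsBaseChange β₁ (n ≫ j) u → ThetaGrp.IsBaseChange β₂ (m ≫ j) u →
      ThetaGrp.IsBaseChange (β₁ * β₂) ((n * m) ≫ j) u) : Nonempty (Datum (tot L) f.left) := by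
  have hbc : ∀ (T : Over S) (n : T ⟶ N), ∃! β : ThetaGrp.thetaPts A L T, ThetaGrp.IsBaseChange β (n ≫ j) u :=
    fun T n => by
      obtain ⟨β, hβ⟩ := exists_isBaseChange u (n ≫ j)
      exact ⟨β, hβ, fun β' h' => isBaseChange_unique h' hβ⟩
  have hi : i ≫ f = 1 := by rw [hN.w, Hom.one_def]
  refine ⟨{ Rel := fun l l' => ∃ T, Wit j u l l' T, base := ?_, refl := ?_, trans := ?_, comp := ?_,
            unique := ?_, exist := ?_ }⟩
  · rintro R l l' ⟨T, hw⟩
    obtain ⟨n, h', β, m, -, -, -, -, -, e⟩ := base_eq hπ hL i j hover (l.base ≫ A.hom) rfl hw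
    have := congrArg (fun q : Over.mk (l.base ≫ A.hom) ⟶ A => (q ≫ f).left) e
    simp only [MonObj.mul_comp, Category.assoc, hi, MonObj.comp_one, _root_.mul_one, Over.comp_left] at this
    exact this.symm
  · intro R l hl
    let T : Over S := Over.mk (l.base ≫ A.hom)
    obtain ⟨m, hmb, hm, hmc⟩ := exists_fac (proj L T) l (graph (l.base ≫ A.hom) l.base rfl).left (by
      show _ ≫ (fst A T).left = _
      rw [← Over.comp_left, lift_fst]; rfl)
    obtain ⟨β, hβ, -⟩ := hbc T (1 : T ⟶ N)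
    have h1 : β = 1 := by
      have h2 := hmul T _ _ _ _ hβ hβ
      rw [_root_.mul_one] at h2
      exact left_eq_mul.mp ((hbc T _).unique hβ h2)
    refine ⟨T, 1, β, m, hmc hl, hβ, hm, ?_⟩
    rw [h1]
    exact (congrArg (m ≫ ·) (Category.id_comp _)).trans hm
  · rintro R l l' l'' ⟨T, hw⟩ ⟨T', hw'⟩
    obtain ⟨n, h', β, m, hmc, hmb, hβ, hl, hl', e⟩ := base_eq hπ hL i j hover (l.base ≫ A.hom) rfl hw
    obtain ⟨n', h'', β', m', hm'c, hm'b, hβ', hl2, hl2', -⟩ := base_eq hπ hL i j hover (l.base ≫ A.hom) h' hw'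
    have hm' : m' = m ≫ β.1.hom := by
      refine fac_unique (proj L _) ?_ (by rw [hl2, Category.assoc, hl'])
      show m'.base = m.base ≫ β.1.hom.base
      rw [hm'b, hmb, show β.1.hom.base = _ from hover _ n β hβ, ← Over.comp_left]
      congr 1
      apply CartesianMonoidalCategory.hom_ext
      · simp [ThetaGrp.transl, MonObj.comp_mul, e]
      · simp [ThetaGrp.transl]
    refine ⟨_, n' * n, β' * β, m, hmc, ?_, hl, ?_⟩
    · exact hmul _ _ _ _ _ hβ' hβ
    · rw [mul_hom, Category.assoc, ← Category.assoc m, ← hm', hl2']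
  · rintro R R' q l l' hq ⟨T, n, β, m, hmc, hβ, hl, hl'⟩
    exact ⟨T, n, β, q ≫ m, isCart_comp q m, hβ, by rw [Category.assoc, hl], by rw [Category.assoc, hl']⟩
  · rintro R l l' l'' ⟨T, hw⟩ ⟨T', hw'⟩ hb
    obtain ⟨n, h', β, m, hmc, hmb, hβ, hl, hl', e⟩ := base_eq hπ hL i j hover (l.base ≫ A.hom) rfl hw
    obtain ⟨n', h'', β', m', hm'c, hm'b, hβ', hl2, hl2', e'⟩ := base_eq hπ hL i j hover (l.base ≫ A.hom) rfl hw'
    have hn : n = n' := by
      refine hN.hom_ext ?_ (toUnit_unique _ _)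
      refine mul_left_cancel (e.symm.trans (Eq.trans ?_ e'))
      exact Over.OverMorphism.ext hb
    subst hn
    rw [(hbc _ _).unique hβ hβ', fac_unique (proj L _) (hmb.trans hm'b.symm) (hl.trans hl2.symm)] at hl'
    exact hl'.symm.trans hl2'
  · intro R l hl g hg
    let T : Over S := Over.mk (l.base ≫ A.hom)
    let a : T ⟶ A := Over.homMk l.base rfl
    let a' : T ⟶ A := Over.homMk g (by
      show g ≫ A.hom = l.base ≫ A.hom
      rw [← Over.w f, ← Category.assoc, ← hg, Category.assoc])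
    have haf : a ≫ f = a' ≫ f := Over.OverMorphism.ext hg
    have hd : (a⁻¹ * a') ≫ f = 1 := by rw [MonObj.mul_comp, GrpObj.inv_comp, haf, inv_mul_cancel]
    let n : T ⟶ N := hN.lift (a⁻¹ * a') (toUnit _) hd
    obtain ⟨β, hβ, -⟩ := hbc T n
    obtain ⟨m, hmb, hm, hmc⟩ := exists_fac (proj L T) l (graph (l.base ≫ A.hom) l.base rfl).left (by
      show _ ≫ (fst A T).left = _
      rw [← Over.comp_left, lift_fst]; rfl)
    haveI := hmc hl
    haveI := isCart_iso β.1
    haveI := isCart_comp β.1.hom (proj L T)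
    refine ⟨m ≫ β.1.hom ≫ proj L T, isCart_comp _ _, ?_, T, n, β, m, hmc hl, hβ, hm, rfl⟩
    show m.base ≫ β.1.hom.base ≫ (fst A T).left = g
    rw [hmb, show β.1.hom.base = _ from hover T n β hβ, show n ≫ i = a⁻¹ * a' from hN.lift_fst _ _ _,
      ← Over.comp_left, ← Over.comp_left]
    refine congrArg (fun q : T ⟶ A => q.left) ?_ |>.trans (show a'.left = g from rfl)
    simp [graph, ThetaGrp.transl_fst, MonObj.comp_mul, GrpObj.comp_inv, a, a', T]

include hπ hL hover hN in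
/-- The descent datum of a lift of the kernel. -/
theorem exists_datum [GrpObj G] (hG : ThetaGrp.IsThetaGrpSch A L G u) [IsMonHom j] : Nonempty (Datum (tot L) f.left) :=
  exists_datum_of_mul hπ hL i j hover f hN fun T n m β₁ β₂ h₁ h₂ => by
    rw [MonObj.mul_comp]
    exact hG.mul T _ _ _ _ h₁ h₂

end Groth.Agent.ThetaEff
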