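/-
Level structures attached to descended modules.
-/
import Groth.Agent.L26.Theta.DescentPt
import Groth.Agent.L26.Theta.Trans

open CategoryTheory CategoryTheory.Limits AlgebraicGeometry TopologicalSpace Opposite
open MonoidalCategory CartesianMonoidalCategory MonObj GrpObj
open CategoryTheory.Pseudofunctor
open Groth.Agent.ThetaCart Groth.Agent.ThetaPts Groth.Agent.ThetaPairing Groth.Agent.ThetaPull

universe u

noncomputable section

namespace Groth.Agent.ThetaLevel

set_option backward.isDefEq.respectTransparency false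
set_option backward.isDefEq.respectTransparency.types false
set_option linter.style.haveILetI false

variable {S : Scheme.{u}} {A B : Over S} [GrpObj A] [GrpObj B] (f : A ⟶ B) [IsMonHom f]
  {L : A.left.Modules} (M : B.left.Modules) {T T' : Over S}

/-- The lift fixes every arrow to the descended module. -/
def IsCanon (c : ThetaGrp.thetaPts A L T) : Prop :=
  ∀ F : ThetaGrp.thetaObj A L T ⟶ ThetaGrp.thetaObj B M T, IsCart F → F.base = (f ▷ T).left → c.1.hom ≫ F = F

variable {M} (hπ : ∀ T : Over S, Function.Bijective (snd A T).left.appTop) (hL : PicF.IsInvertible L)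
  (e : (Scheme.Modules.pullback f.left).obj M ≅ L)

include hπ hL e in
/-- Canonical lifts exist. -/
theorem exists_isCanon {x : T ⟶ A} (hx : x ≫ f = 1) :
    ∃ c : ThetaGrp.thetaPts A L T, ThetaGrp.IsOverPt c x ∧ IsCanon f M c := by
  obtain ⟨F, hFc, hF⟩ := exists_arrow f e T
  obtain ⟨c, hc, hcF⟩ := exists_canon f hF hx
  refine ⟨c, hc, fun G hG hGb => ?_⟩
  obtain ⟨a, ha⟩ := exists_act_eq (Groth.L18.Ample.isInvertible_pullback _ hL) G F (hGb.trans hF.symm)
  obtain ⟨a₀, ha₀⟩ := (hπ T).2 (a : Γ((A ⊗ T).left, ⊤))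
  have hinv : c.1.hom.base.appTop (a : Γ((A ⊗ T).left, ⊤)) = a := by
    rw [← show up (A := A) T a₀ = (a : Γ((A ⊗ T).left, ⊤)) from ha₀, show c.1.hom.base = _ from hc]
    exact appTop_transl x a₀
  rw [ha, comp_act, hinv, hcF]

include e in
/-- Canonical lifts are unique. -/
theorem isCanon_unique {x : T ⟶ A} {c c' : ThetaGrp.thetaPts A L T} (h : IsCanon f M c) (h' : IsCanon f M c')
    (hc : ThetaGrp.IsOverPt c x) (hc' : ThetaGrp.IsOverPt c' x) : c = c' := by
  obtain ⟨F, hFc, hF⟩ := exists_arrow f e T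
  exact Subtype.ext (Iso.ext (fac_unique F (hc.trans hc'.symm) ((h F hFc hF).trans (h' F hFc hF).symm)))

theorem isCanon_mul {c c' : ThetaGrp.thetaPts A L T} (h : IsCanon f M c) (h' : IsCanon f M c') :
    IsCanon f M (c * c') := fun F hFc hF => by
  rw [mul_hom, Category.assoc, h F hFc hF, h' F hFc hF]

include e in
/-- Base changes of canonical lifts are canonical. -/
theorem isBaseChange_canon {x : T ⟶ A} (hx : x ≫ f = 1) {c : ThetaGrp.thetaPts A L T}
    (h : IsCanon f M c) (hc : ThetaGrp.IsOverPt c x) (t : T' ⟶ T) {c' : ThetaGrp.thetaPts A L T'}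
    (h' : IsCanon f M c') (hc' : ThetaGrp.IsOverPt c' (t ≫ x)) : ThetaGrp.IsBaseChange c' t c := by
  obtain ⟨F, hFc, hF⟩ := exists_arrow f e T
  haveI := isCart_bcLift (A := A) (L := L) t
  haveI := isCart_bcLift (A := B) (L := M) t
  haveI := isCart_comp (ThetaGrp.bcLift A L t) F
  obtain ⟨γ, hγb, hγ, hγc⟩ := exists_fac (ThetaGrp.bcLift B M t) (ThetaGrp.bcLift A L t ≫ F) (f ▷ T').left (by
    rw [CoGrothendieck.categoryStruct_comp_base, hF]
    show _ ≫ (B ◁ t).left = (A ◁ t).left ≫ (f ▷ T).left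
    simp only [← Over.comp_left, whisker_exchange])
  have hcF : c.1.hom ≫ F = F := h F hFc hF
  have hc'γ : c'.1.hom ≫ γ = γ := h' γ (hγc inferInstance) hγb
  show c'.1.hom ≫ ThetaGrp.bcLift A L t = ThetaGrp.bcLift A L t ≫ c.1.hom
  refine fac_unique F ?_ ?_
  · show c'.1.hom.base ≫ (A ◁ t).left = (A ◁ t).left ≫ c.1.hom.base
    rw [show c'.1.hom.base = _ from hc', show c.1.hom.base = _ from hc, ← Over.comp_left, ← Over.comp_left,
      transl_whisker]
  · rw [Category.assoc, Category.assoc, hcF, ← hγ, ← Category.assoc, hc'γ]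

variable [IsCommMonObj A] {N : Over S} [GrpObj N] {i : N ⟶ A} [IsMonHom i]
  (hi : i ≫ f = 1) {G : Over S} [GrpObj G] {u : ThetaGrp.thetaPts A L G} (hG : ThetaGrp.IsThetaGrpSch A L G u)

include hπ hL e hi hG in
/-- The level structure of a descent. -/
theorem exists_level : ∃ j : N ⟶ G, IsMonHom j ∧
    ∀ (T : Over S) (n : T ⟶ N) (β : ThetaGrp.thetaPts A L T),
      ThetaGrp.IsBaseChange β (n ≫ j) u → ThetaGrp.IsOverPt β (n ≫ i) ∧ IsCanon f M β := by
  have hn : ∀ {T : Over S} (n : T ⟶ N), (n ≫ i) ≫ f = 1 := fun n => by rw [Category.assoc, hi, MonObj.comp_one]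
  obtain ⟨c₀, hc₀, hk₀⟩ := exists_isCanon f hπ hL e hi
  obtain ⟨j, hj, -⟩ := hG.univ N c₀
  have key : ∀ (T : Over S) (n : T ⟶ N) (β : ThetaGrp.thetaPts A L T),
      ThetaGrp.IsBaseChange β (n ≫ j) u → ThetaGrp.IsOverPt β (n ≫ i) ∧ IsCanon f M β := fun T n β hβ => by
    obtain ⟨c, hc, hk⟩ := exists_isCanon f hπ hL e (hn n)
    have : c = β := (hG.exists_bc T _).unique
      (isBaseChange_trans hπ hL (isBaseChange_canon f e hi hk₀ hc₀ n hk hc) hj) hβ
    exact this ▸ ⟨hc, hk⟩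
  have hmul : ∀ {T : Over S} (n m : T ⟶ N), (n * m) ≫ j = (n ≫ j) * (m ≫ j) := fun {T} n m => by
    obtain ⟨b₁, hb₁, -⟩ := hG.exists_bc T (n ≫ j)
    obtain ⟨b₂, hb₂, -⟩ := hG.exists_bc T (m ≫ j)
    obtain ⟨o₁, k₁⟩ := key T n b₁ hb₁
    obtain ⟨o₂, k₂⟩ := key T m b₂ hb₂
    obtain ⟨b, hb, -⟩ := hG.exists_bc T ((n * m) ≫ j)
    obtain ⟨o, k⟩ := key T (n * m) b hb
    rw [MonObj.mul_comp] at o
    have ho := isOverPt_mul o₁ o₂
    rw [_root_.mul_comm] at ho
    have hp := hG.mul T _ _ _ _ hb₁ hb₂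
    rw [← isCanon_unique f e k (isCanon_mul f k₁ k₂) o ho] at hp
    exact (hG.univ T b).unique hb hp
  refine ⟨j, ?_, key⟩
  have h1 : (1 : 𝟙_ (Over S) ⟶ N) ≫ j = 1 := by
    have h := hmul (1 : 𝟙_ (Over S) ⟶ N) 1
    rw [_root_.mul_one] at h
    exact left_eq_mul.mp h
  refine ⟨?_, ?_⟩
  · rw [MonObj.one_eq_one, h1, MonObj.one_eq_one]
  · rw [← CartesianMonoidalCategory.lift_fst_comp_snd_comp, MonObj.mul_eq_mul, hmul, Hom.mul_def]

end Groth.Agent.ThetaLevel
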