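import Groth.Agent.L21.Duality.SpecialApps
import Groth.Agent.L26.PicRep.GoodCl

/-!
# Classes on a curve: sections, points and effective classes
-/

set_option autoImplicit false
set_option linter.style.haveILetI false
set_option linter.unusedSectionVars false
set_option backward.isDefEq.respectTransparency false

universe u

open CategoryTheory CategoryTheory.Limits AlgebraicGeometry

noncomputable section

namespace Groth.Agent.L26.Theta

open Groth.L21.RR (h st ptI twist_point)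
open Groth.L21.Duality (exists_dual omega_invariants isInvertible_omega rr_deg deg_congr deg_tensor)
open Groth.Agent.L26.PicRep (invU exists_invU)
attribute [local instance] Groth.L08.Cube.clMonoid

variable {k : Type u} [Field k] {X : Scheme.{u}} [IsIntegral X] [X.Over (Spec (CommRingCat.of k))]
  [IsProper (X ↘ Spec (CommRingCat.of k))]

variable (k) in
/-- The dimension of the space of sections of a class. -/
def h0c (c : PicF.Cl X) : ℕ := Quot.liftOn c (fun M => h k 0 M) fun _ _ ⟨e⟩ => Groth.L21.RR.h_congr k e 0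

variable (k) in
/-- The degree of a class. -/
def degc (c : PicF.Cl X) : ℤ := Quot.liftOn c (fun M => Curv2.deg k X M 1) fun _ _ ⟨e⟩ => deg_congr (k := k) e

theorem h0c_cl (M : X.Modules) : h0c k (PicF.cl M) = h k 0 M := rfl

theorem degc_cl (M : X.Modules) : degc k (PicF.cl M) = Curv2.deg k X M 1 := rfl

theorem exists_mod {x : (PicF.Cl X)ˣ} (hx : x ∈ invU X) :
    ∃ M : X.Modules, PicF.cl M = (x : PicF.Cl X) ∧ PicF.IsInvertible M := hx.1

theorem degc_one : degc k (1 : PicF.Cl X) = 0 := Groth.L21.Duality.deg_structureModule (k := k) (X := X)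

variable [Smooth (X ↘ Spec (CommRingCat.of k))] (hd : topologicalKrullDim X = 1)

include hd in
theorem degc_mul {x y : (PicF.Cl X)ˣ} (hx : x ∈ invU X) (hy : y ∈ invU X) :
    degc k ((x * y : (PicF.Cl X)ˣ) : PicF.Cl X) = degc k (x : PicF.Cl X) + degc k (y : PicF.Cl X) := by
  obtain ⟨M, hM, hMi⟩ := exists_mod hx
  obtain ⟨N, hN, hNi⟩ := exists_mod hy
  rw [Units.val_mul, ← hM, ← hN]
  exact deg_tensor (k := k) hd hMi hNi

include hd in
theorem degc_inv {x : (PicF.Cl X)ˣ} (hx : x ∈ invU X) :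
    degc k ((x⁻¹ : (PicF.Cl X)ˣ) : PicF.Cl X) = -degc k (x : PicF.Cl X) := by
  have e := degc_mul (k := k) hd hx ((invU X).inv_mem hx)
  rw [mul_inv_cancel, Units.val_one, degc_one] at e
  omega

variable [IsAlgClosed k]

theorem h0c_one : h0c k (1 : PicF.Cl X) = 1 := Groth.L21.RR.h0_eq_one_of_isAlgClosed (X := X) k

/-- A closed point of the curve. -/
abbrev Pt (X : Scheme.{u}) : Type u := {P : X // IsClosed ({P} : Set X)}

include k hd

theorem exists_uP (P : Pt X) : ∃ x ∈ invU X, (x : PicF.Cl X) = PicF.cl (ptI P.1 P.2) :=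
  exists_invU ⟨_, rfl, (Groth.L21.Duality.deg_ptI (k := k) hd P.2).1⟩

/-- The class of the ideal of a closed point. -/
def uP (P : Pt X) : (PicF.Cl X)ˣ := (exists_uP (k := k) hd P).choose

theorem uP_mem (P : Pt X) : uP (k := k) hd P ∈ invU X := (exists_uP (k := k) hd P).choose_spec.1

theorem uP_val (P : Pt X) : (uP (k := k) hd P : PicF.Cl X) = PicF.cl (ptI P.1 P.2) :=
  (exists_uP (k := k) hd P).choose_spec.2

theorem twist_uP {x : (PicF.Cl X)ˣ} (hx : x ∈ invU X) (P : Pt X) :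
    degc k ((x * uP (k := k) hd P : (PicF.Cl X)ˣ) : PicF.Cl X) = degc k (x : PicF.Cl X) - 1 ∧
    h0c k ((x * uP (k := k) hd P : (PicF.Cl X)ˣ) : PicF.Cl X) ≤ h0c k (x : PicF.Cl X) ∧
    h0c k (x : PicF.Cl X) ≤ h0c k ((x * uP (k := k) hd P : (PicF.Cl X)ˣ) : PicF.Cl X) + 1 := by
  obtain ⟨M, hM, hMi⟩ := exists_mod hx
  obtain ⟨-, -, h1, h2, h3, -⟩ := twist_point k hd hMi P.2
  rw [Units.val_mul, ← hM, uP_val]
  exact ⟨h1, h2, h3⟩

theorem degc_uP (P : Pt X) : degc k (uP (k := k) hd P : PicF.Cl X) = -1 := by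
  have e := (twist_uP (k := k) hd (invU X).one_mem P).1
  rw [one_mul, Units.val_one, degc_one] at e
  omega

theorem prod_uP_mem {n : ℕ} (s : Fin n → Pt X) : ∏ i, uP (k := k) hd (s i) ∈ invU X :=
  Subgroup.prod_mem _ fun i _ => uP_mem hd (s i)

theorem effU_mem {n : ℕ} (s : Fin n → Pt X) : (∏ i, uP (k := k) hd (s i))⁻¹ ∈ invU X :=
  (invU X).inv_mem (prod_uP_mem hd s)

theorem degc_eff {n : ℕ} (s : Fin n → Pt X) :
    degc k (((∏ i, uP (k := k) hd (s i))⁻¹ : (PicF.Cl X)ˣ) : PicF.Cl X) = n := by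
  rw [degc_inv hd (prod_uP_mem hd s)]
  induction n with
  | zero => rw [Fin.prod_univ_zero, Units.val_one, degc_one]; rfl
  | succ n ih =>
    rw [Fin.prod_univ_succ, degc_mul hd (uP_mem hd _) (prod_uP_mem hd fun i => s i.succ), degc_uP, neg_add,
      ih fun i => s i.succ]
    push_cast
    ring

theorem h0c_le_add_eff {x : (PicF.Cl X)ˣ} (hx : x ∈ invU X) {n : ℕ} (s : Fin n → Pt X) :
    h0c k (x : PicF.Cl X) ≤ h0c k ((x * (∏ i, uP (k := k) hd (s i))⁻¹ : (PicF.Cl X)ˣ) : PicF.Cl X) := by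
  induction n with
  | zero => rw [Fin.prod_univ_zero, inv_one, mul_one]
  | succ n ih =>
    rw [Fin.prod_univ_succ, mul_inv, mul_left_comm]
    refine (ih fun i => s i.succ).trans ?_
    have hy : (uP (k := k) hd (s 0))⁻¹ * (x * (∏ i, uP (k := k) hd (s (Fin.succ i)))⁻¹) ∈ invU X :=
      (invU X).mul_mem ((invU X).inv_mem (uP_mem hd _)) ((invU X).mul_mem hx (effU_mem hd _))
    have e := (twist_uP (k := k) hd hy (s 0)).2.1
    rwa [mul_comm _ (uP (k := k) hd (s 0)), mul_inv_cancel_left] at e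

theorem one_le_h0c_eff {n : ℕ} (s : Fin n → Pt X) :
    1 ≤ h0c k (((∏ i, uP (k := k) hd (s i))⁻¹ : (PicF.Cl X)ˣ) : PicF.Cl X) := by
  have e := h0c_le_add_eff (k := k) hd (invU X).one_mem s
  rw [Units.val_one, h0c_one, one_mul] at e
  exact e

/-- An effective class is a sum of points. -/
theorem exists_eff : ∀ {n : ℕ} {x : (PicF.Cl X)ˣ}, x ∈ invU X → degc k (x : PicF.Cl X) = n →
    1 ≤ h0c k (x : PicF.Cl X) → ∃ s : Fin n → Pt X, x = (∏ i, uP (k := k) hd (s i))⁻¹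
  | 0, x, hx, hdx, h1 => by
    obtain ⟨M, hM, hMi⟩ := exists_mod hx
    rw [← hM] at hdx h1
    obtain ⟨e⟩ := Groth.L21.Duality.nonempty_iso_of_deg_eq_zero (k := k) hd.le hMi (by exact_mod_cast hdx)
      (Groth.L21.Duality.nontrivial_of_h0_pos (k := k) h1)
    refine ⟨Fin.elim0, Units.ext ?_⟩
    rw [Fin.prod_univ_zero, inv_one, Units.val_one, ← hM]
    exact AbDualLib.cl_congr e.symm
  | n + 1, x, hx, hdx, h1 => by
    obtain ⟨M, hM, hMi⟩ := exists_mod hx
    rw [← hM] at hdx h1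
    haveI := Groth.L21.Duality.nontrivial_of_h0_pos (k := k) (L := M) h1
    obtain ⟨φ, hφ⟩ := Groth.L21.RR.exists_hom_ne_zero (L := M)
    have hdM : Curv2.deg k X M 1 ≠ 0 := by
      rw [show Curv2.deg k X M 1 = _ from hdx]; omega
    obtain ⟨Q, hQ, hns⟩ := Groth.L21.Duality.exists_not_surjective (k := k) hd.le hMi hdM φ
    obtain ⟨ψ, hψ⟩ := (Groth.L21.RR.isMinusPt_twι hMi hQ).exists_lift_section hMi φ hns
    have hψ0 : ψ ≠ 0 := fun e => hφ (by rw [← hψ, e, zero_comp])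
    haveI : Nontrivial (Coh.HH X (CohB1.tensorMod M (ptI Q hQ)) 0) := by
      refine ⟨(Groth.L21.RR.e0 _).symm (ψ.app ⊤ (Groth.L21.RR.oneSec X)), 0, fun e => hψ0 ?_⟩
      exact Groth.L21.RR.hom_ext_one (((Groth.L21.RR.e0 _).symm.injective (e.trans (map_zero _).symm)).trans rfl)
    have hy : x * uP (k := k) hd ⟨Q, hQ⟩ ∈ invU X := (invU X).mul_mem hx (uP_mem hd _)
    obtain ⟨hy1, -, -⟩ := twist_uP (k := k) hd hx ⟨Q, hQ⟩
    rw [show degc k (x : PicF.Cl X) = _ from (congrArg (degc k) hM).symm.trans hdx] at hy1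
    have hy0 : 1 ≤ h0c k ((x * uP (k := k) hd ⟨Q, hQ⟩ : (PicF.Cl X)ˣ) : PicF.Cl X) := by
      rw [Units.val_mul, ← hM, uP_val]
      exact Groth.L21.Duality.one_le_h0_of_nontrivial (k := k)
        (twist_point k hd hMi hQ).1 inferInstance
    obtain ⟨s, hs⟩ := exists_eff hy (by rw [hy1]; push_cast; ring) hy0
    refine ⟨Fin.cons ⟨Q, hQ⟩ s, ?_⟩
    rw [Fin.prod_univ_succ, Fin.cons_zero, mul_inv, eq_comm]
    simp only [Fin.cons_succ]
    rw [← hs, mul_left_comm, inv_mul_cancel, mul_one]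

/-- A section of an effective class generating away from its points. -/
theorem exists_section_eff : ∀ {n : ℕ} (s : Fin n → Pt X) (Q : Pt X), (∀ i, s i ≠ Q) →
    ∃ M : X.Modules, PicF.IsInvertible M ∧
      PicF.cl M = (((∏ i, uP (k := k) hd (s i))⁻¹ : (PicF.Cl X)ˣ) : PicF.Cl X) ∧
      ∃ φ : Coh.structureModule X ⟶ M, Function.Surjective (st φ Q.1)
  | 0, s, Q, _ => ⟨_, Groth.L18.Ample.isInvertible_structureModule X,
      by rw [Fin.prod_univ_zero, inv_one, Units.val_one]; rfl,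
      𝟙 _, fun v => ⟨v, by rw [st, CategoryTheory.Functor.map_id]; rfl⟩⟩
  | n + 1, s, Q, hQ => by
    obtain ⟨M, hMi, hM, φ, hφ⟩ := exists_section_eff (fun i => s i.succ) Q fun i => hQ i.succ
    obtain ⟨L, hL, hLi⟩ := exists_mod (effU_mem (k := k) hd s)
    obtain ⟨e⟩ : Nonempty (CohB1.tensorMod L (ptI (s 0).1 (s 0).2) ≅ M) := (PicGrp.cl_eq_cl_iff _ _).1 (by
      show PicF.cl L * PicF.cl (ptI (s 0).1 (s 0).2) = PicF.cl M
      rw [hL, hM, ← uP_val (k := k) hd (s 0), ← Units.val_mul, Fin.prod_univ_succ, mul_inv, mul_comm, mul_inv_cancel_left])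
    refine ⟨L, hLi, hL, (φ ≫ e.inv) ≫ Groth.L21.RR.twι L _, ?_⟩
    rw [(Groth.L21.RR.isMinusPt_twι hLi (s 0).2).surjective_comp_iff
      (fun he => hQ 0 (Subtype.ext he.symm))]
    intro v
    obtain ⟨w, hw⟩ := (Groth.L21.Mod.epi_iff_stalk_surjective e.inv).1 inferInstance Q.1 v
    obtain ⟨z, hz⟩ := hφ w
    exact ⟨z, (Groth.L21.RR.st_comp φ e.inv Q.1 z).trans ((congrArg (st e.inv Q.1) hz).trans hw)⟩

/-- Removing a point outside an effective divisor drops the sections. -/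
theorem h0c_lt_of_notMem {n : ℕ} (s : Fin n → Pt X) (Q : Pt X) (hQ : ∀ i, s i ≠ Q) :
    h0c k (((∏ i, uP (k := k) hd (s i))⁻¹ * uP (k := k) hd Q : (PicF.Cl X)ˣ) : PicF.Cl X) + 1 =
      h0c k (((∏ i, uP (k := k) hd (s i))⁻¹ : (PicF.Cl X)ˣ) : PicF.Cl X) := by
  obtain ⟨M, hMi, hM, hφ⟩ := exists_section_eff (k := k) hd s Q hQ
  have e := (twist_point k hd hMi Q.2).2.2.2.2.2.2 hφ
  rw [Units.val_mul, ← hM, uP_val]
  exact e

theorem exists_omega_unit : ∃ x ∈ invU X, (x : PicF.Cl X) = PicF.cl (Omega.sheaf (X ↘ Spec (CommRingCat.of k))) :=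
  exists_invU ⟨_, rfl, isInvertible_omega (k := k) hd⟩

/-- The canonical class. -/
def uK : (PicF.Cl X)ˣ := (exists_omega_unit (k := k) hd).choose

theorem uK_mem : uK (k := k) hd ∈ invU X := (exists_omega_unit (k := k) hd).choose_spec.1

theorem uK_val : (uK (k := k) hd : PicF.Cl X) = PicF.cl (Omega.sheaf (X ↘ Spec (CommRingCat.of k))) :=
  (exists_omega_unit (k := k) hd).choose_spec.2

theorem degc_uK : degc k (uK (k := k) hd : PicF.Cl X) = 2 * (Curv2.genus k X : ℤ) - 2 := by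
  rw [uK_val]
  exact (omega_invariants (k := k) (X := X) hd).2.2 (Groth.L21.RR.h0_eq_one_of_isAlgClosed (X := X) k)

/-- Riemann-Roch. -/
theorem rr {x : (PicF.Cl X)ˣ} (hx : x ∈ invU X) :
    (h0c k (x : PicF.Cl X) : ℤ) - h0c k ((uK (k := k) hd * x⁻¹ : (PicF.Cl X)ˣ) : PicF.Cl X) =
      degc k (x : PicF.Cl X) + 1 - Curv2.genus k X := by
  haveI := Groth.L21.RR.isNoetherian_of_proper (X := X) k
  obtain ⟨M, hM, hMi⟩ := exists_mod hx
  obtain ⟨N, hNi, ⟨e⟩, hN0, -⟩ := exists_dual (k := k) hd hMi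
  have hN : PicF.cl N = ((uK (k := k) hd * x⁻¹ : (PicF.Cl X)ˣ) : PicF.Cl X) := by
    rw [Units.val_mul, uK_val, ← AbDualLib.cl_congr e,
      show PicF.cl (CohB1.tensorMod N M) = PicF.cl N * PicF.cl M from rfl, hM, mul_assoc, Units.mul_inv, mul_one]
  rw [← hN, ← hM, h0c_cl, h0c_cl, hN0]
  exact rr_deg (k := k) hd.le (Groth.L21.RR.h0_eq_one_of_isAlgClosed (X := X) k) M

/-- A nonzero class of sections is nonvanishing at some point. -/
theorem exists_drop {x : (PicF.Cl X)ˣ} (hx : x ∈ invU X) (h1 : 1 ≤ h0c k (x : PicF.Cl X)) :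
    ∃ P : Pt X, h0c k ((x * uP (k := k) hd P : (PicF.Cl X)ˣ) : PicF.Cl X) + 1 = h0c k (x : PicF.Cl X) := by
  haveI := Groth.L21.RR.isNoetherian_of_proper (X := X) k
  obtain ⟨M, hM, hMi⟩ := exists_mod hx
  rw [← hM] at h1
  haveI := Groth.L21.Duality.nontrivial_of_h0_pos (k := k) (L := M) h1
  obtain ⟨t, ht⟩ := Groth.L21.RR.exists_hom_ne_zero (L := M)
  haveI : JacobsonSpace X := LocallyOfFiniteType.jacobsonSpace (X ↘ Spec (CommRingCat.of k))
  obtain ⟨P, hPt, hP⟩ : ∃ P : X, P ∈ CohB1.genLocus M t ∧ IsClosed ({P} : Set X) := by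
    have hne : ((CohB1.genLocus M t : X.Opens) : Set X).Nonempty :=
      ⟨genericPoint X, (Groth.L21.RR.mem_genLocus_iff hMi t _).2 (Groth.L21.RR.surjective_st_of_not_closed hd.le hMi ht
        fun hc => ne_of_apply_ne id (Groth.L21.RR.ne_genericPoint_of_isClosed hd hc) rfl)⟩
    obtain ⟨P, h2, h3⟩ := nonempty_inter_closedPoints hne (CohB1.genLocus M t).2.isLocallyClosed
    exact ⟨P, h2, h3⟩
  refine ⟨⟨P, hP⟩, ?_⟩
  rw [Units.val_mul, ← hM, uP_val]
  exact (twist_point k hd hMi hP).2.2.2.2.2.2 ⟨t, (Groth.L21.RR.mem_genLocus_iff hMi t P).1 hPt⟩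

/-- Below degree `g` a class without sections stays so after adding suitable points. -/
theorem exists_extend : ∀ (r : ℕ) {x : (PicF.Cl X)ˣ}, x ∈ invU X → h0c k (x : PicF.Cl X) = 0 →
    degc k (x : PicF.Cl X) + r ≤ (Curv2.genus k X : ℤ) - 1 →
    ∃ s : Fin r → Pt X, h0c k ((x * (∏ i, uP (k := k) hd (s i))⁻¹ : (PicF.Cl X)ˣ) : PicF.Cl X) = 0
  | 0, x, _, h0, _ => ⟨Fin.elim0, by rwa [Fin.prod_univ_zero, inv_one, mul_one]⟩
  | r + 1, x, hx, h0, hr => by
    have hrx := rr (k := k) hd hx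
    rw [h0] at hrx
    rw [Nat.cast_zero] at hrx
    push_cast at hr
    have hKx : uK (k := k) hd * x⁻¹ ∈ invU X := (invU X).mul_mem (uK_mem hd) ((invU X).inv_mem hx)
    obtain ⟨P, hP⟩ := exists_drop (k := k) hd hKx (by omega)
    have hy : x * (uP (k := k) hd P)⁻¹ ∈ invU X := (invU X).mul_mem hx ((invU X).inv_mem (uP_mem hd P))
    have hdy : degc k ((x * (uP (k := k) hd P)⁻¹ : (PicF.Cl X)ˣ) : PicF.Cl X) = degc k (x : PicF.Cl X) + 1 := by
      rw [degc_mul hd hx ((invU X).inv_mem (uP_mem hd P)), degc_inv hd (uP_mem hd P), degc_uP, neg_neg]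
    have hry := rr (k := k) hd hy
    rw [mul_inv, inv_inv, ← mul_assoc, hdy] at hry
    have hy0 : h0c k ((x * (uP (k := k) hd P)⁻¹ : (PicF.Cl X)ˣ) : PicF.Cl X) = 0 := by omega
    obtain ⟨s, hs⟩ := exists_extend r hy hy0 (by rw [hdy]; omega)
    refine ⟨Fin.cons P s, ?_⟩
    rw [Fin.prod_univ_succ, Fin.cons_zero, mul_inv, ← mul_assoc]
    simpa only [Fin.cons_succ] using hs

end Groth.Agent.L26.Theta
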