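/-
Invertible modules identified compatibly on an open covering are isomorphic.
-/
import Groth.Agent.L26.Theta.Descent

open CategoryTheory CategoryTheory.Limits AlgebraicGeometry TopologicalSpace Opposite
open CategoryTheory.Pseudofunctor
open Groth.L18.Frame (rs ro rs_rs rs_self rs_smul ro_ro ro_self ro_mul pull pull_rs pull_smul IsFrame)
open Groth.Agent.ThetaCart Groth.Agent.ThetaDescent

universe u

noncomputable section

namespace Groth.Agent.ThetaDescent

set_option backward.isDefEq.respectTransparency false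
set_option backward.isDefEq.respectTransparency.types false
set_option linter.style.haveILetI false

/-- Sections with the same pullback along an arrow onto an open piece agree. -/
theorem sec_inj {X Y : Obj.{u}} (f : X ⟶ Y) [IsCart f] [IsOpenImmersion f.base] {V : Y.base.Opens}
    (hV : V ≤ f.base.opensRange) {e : Γ(md Y, V)} (he : IsFrame (md Y) V e) {a b : Γ(Y.base, V)}
    {s : Γ(md X, f.base ⁻¹ᵁ V)} (ha : Sec f V (a • e) s) (hb : Sec f V (b • e) s) : a = b := by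
  haveI := Scheme.Hom.isIso_app f.base V hV
  refine (ConcreteCategory.bijective_of_isIso (f.base.app V)).1 ?_
  have h : pull f.base (md Y) V (a • e) = pull f.base (md Y) V (b • e) := Eq.trans ha.symm hb
  rw [pull_smul, pull_smul] at h
  exact (he.pullback f.base (md Y)).inj le_rfl (by simp only [rs_self]; exact h)

/-- Isomorphisms given compatibly on an open covering glue, in classes. -/
theorem nonempty_iso_of_cover {Y : Scheme.{u}} {M₁ M₂ : Y.Modules} (hM₁ : PicF.IsInvertible M₁)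
    (hM₂ : PicF.IsInvertible M₂) {J : Type u} (Z : J → Obj.{u}) (p : ∀ j, Z j ⟶ (⟨Y, M₁⟩ : Obj.{u}))
    (q : ∀ j, Z j ⟶ (⟨Y, M₂⟩ : Obj.{u})) [∀ j, IsCart (p j)] [∀ j, IsCart (q j)]
    [∀ j, IsOpenImmersion (p j).base] (hb : ∀ j, (q j).base = (p j).base)
    (hcov : ∀ y : Y, ∃ j, y ∈ (p j).base.opensRange)
    (hc : ∀ i j (R : Obj.{u}) (l : R ⟶ Z i) (l' : R ⟶ Z j), IsCart l → IsCart l' →
      l ≫ p i = l' ≫ p j → l ≫ q i = l' ≫ q j) : Nonempty (M₁ ≅ M₂) := by
  choose jj hjj using hcov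
  choose W₁ e₁ hW₁ he₁ using fun x : Y => Groth.L18.Frame.exists_frame hM₁ x
  choose W₂ e₂ hW₂ he₂ using fun x : Y => Groth.L18.Frame.exists_frame hM₂ x
  let N : Y → Y.Opens := fun x => W₁ x ⊓ W₂ x ⊓ (p (jj x)).base.opensRange
  let e : ∀ x, Γ(M₁, N x) := fun x => rs M₁ (inf_le_left.trans inf_le_left) (e₁ x)
  let e' : ∀ x, Γ(M₂, N x) := fun x => rs M₂ (inf_le_left.trans inf_le_right) (e₂ x)
  have he : ∀ x, IsFrame M₁ (N x) (e x) := fun x => (he₁ x).mono _
  have he' : ∀ x, IsFrame M₂ (N x) (e' x) := fun x => (he₂ x).mono _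
  choose s hs using fun x => exists_sec (p (jj x)) (N x) (e x)
  choose s' hs' using fun x => exists_sec (q (jj x)) (N x) (e' x)
  have hsF : ∀ x, IsFrame (md (Z (jj x))) ((p (jj x)).base ⁻¹ᵁ N x) (s x) := fun x => sec_frame (he x) (hs x)
  have hle : ∀ x, (p (jj x)).base ⁻¹ᵁ N x ≤ (q (jj x)).base ⁻¹ᵁ N x := fun x => by rw [hb]
  choose c hc' using fun x => (hsF x).exists_coeff le_rfl (rs _ (hle x) (s' x))
  simp only [rs_self] at hc'
  have hiso : ∀ x, IsIso ((p (jj x)).base.app (N x)) := fun x =>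
    Scheme.Hom.isIso_app (p (jj x)).base (N x) inf_le_right
  choose a ha using fun x => (haveI := hiso x; (ConcreteCategory.bijective_of_isIso ((p (jj x)).base.app (N x))).2 (c x))
  have hau : ∀ x, IsUnit (a x) := fun x => by
    haveI := hiso x
    refine isUnit_of_map_unit ((p (jj x)).base.app (N x)).hom _ ?_
    rw [ha]
    refine Groth.L18.Frame.isUnit_of_isFrame (hsF x) ?_
    rw [hc']
    exact (sec_frame (he' x) (hs' x)).mono (hle x)
  refine Groth.L22.PicGlue.nonempty_iso_of_gens N (e := fun x => a x • e x) (e' := e')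
    (fun x => (he x).smul_unit (hau x)) he' (fun x => ⟨x, ⟨hW₁ x, hW₂ x⟩, hjj x⟩) ?_
  intro x y V hx hy z hz
  replace hz : z • rs M₁ hx (a x • e x) = rs M₁ hy (a y • e y) := hz
  show z • rs M₂ hx (e' x) = rs M₂ hy (e' y)
  obtain ⟨w, hw⟩ := (he' x).exists_coeff hx (rs M₂ hy (e' y))
  rw [← hw]
  suffices z = w by rw [this]
  have hcon : ∀ x (hx : V ≤ N x), ∀ r, Sec (p (jj x)) V (rs M₁ hx (a x • e x)) r →
      Sec (q (jj x)) V (rs M₂ hx (e' x)) (rs _ (by rw [hb]) r) := by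
    intro x hx r hr
    have h1 : Sec (p (jj x)) V (rs M₁ hx (a x • e x))
        (rs _ ((p (jj x)).base.preimage_mono hx) (rs _ (hle x) (s' x))) := by
      refine sec_rs hx ?_
      rw [← hc' x, ← ha x]
      exact sec_smul (hs x) (a x)
    rw [(ConcreteCategory.bijective_of_isIso ((p (jj x)).fiber.app ((p (jj x)).base ⁻¹ᵁ V))).1 (hr.trans h1.symm)]
    have := sec_rs hx (hs' x)
    simp only [rs_rs]
    exact this
  obtain ⟨ri, hri⟩ := exists_sec (p (jj x)) V (rs M₁ hx (a x • e x))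
  obtain ⟨rj, hrj⟩ := exists_sec (p (jj y)) V (rs M₁ hy (a y • e y))
  have hp1 : Sec (p (jj x)) V (rs M₁ hy (a y • e y)) ((p (jj x)).base.app V z • ri) := by
    rw [← hz]; exact sec_smul hri z
  -- the common piece
  have hVx : V ≤ (p (jj x)).base.opensRange := hx.trans inf_le_right
  have hVy : V ≤ (p (jj y)).base.opensRange := hy.trans inf_le_right
  let R : Obj.{u} := ⟨V.toScheme, (Scheme.Modules.pullback V.ι).obj M₁⟩
  let ε : R ⟶ (⟨Y, M₁⟩ : Obj.{u}) := ⟨V.ι, 𝟙 _⟩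
  haveI : IsCart ε := inferInstanceAs (IsIso (𝟙 _))
  have hr : ∀ t, V ≤ (p t).base.opensRange → Set.range ε.base ⊆ Set.range (p t).base := fun t ht => by
    show Set.range V.ι ⊆ _
    rw [Scheme.Opens.range_ι]
    exact ht
  obtain ⟨l, hlb, hl, hlc⟩ := exists_fac (p (jj x)) ε (IsOpenImmersion.lift (p (jj x)).base ε.base (hr _ hVx))
    (IsOpenImmersion.lift_fac _ _ _)
  obtain ⟨l', hlb', hl', hlc'⟩ := exists_fac (p (jj y)) ε (IsOpenImmersion.lift (p (jj y)).base ε.base (hr _ hVy))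
    (IsOpenImmersion.lift_fac _ _ _)
  haveI := hlc inferInstance
  haveI := hlc' inferInstance
  haveI := isCart_comp l (p (jj x))
  haveI := isCart_comp l (q (jj x))
  haveI := isCart_comp l' (q (jj y))
  have key := hc _ _ R l l' inferInstance inferInstance (hl.trans hl'.symm)
  have hq : (l ≫ q (jj x)).base = V.ι := by
    show l.base ≫ (q (jj x)).base = _
    rw [hb]
    exact congrArg CoGrothendieck.Hom.base hl
  have hq' : (l' ≫ q (jj y)).base = V.ι := by rw [← key]; exact hq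
  haveI : IsOpenImmersion (l ≫ q (jj x)).base := by rw [hq]; infer_instance
  obtain ⟨t, ht⟩ := exists_sec l ((p (jj x)).base ⁻¹ᵁ V) ((p (jj x)).base.app V z • ri)
  obtain ⟨t', ht'⟩ := exists_sec l' ((p (jj y)).base ⁻¹ᵁ V) rj
  have hW : (⊤ : R.base.Opens) ≤ (l ≫ p (jj x)).base ⁻¹ᵁ V := fun r _ => by
    show (l ≫ p (jj x)).base r ∈ V
    rw [show (l ≫ p (jj x)).base = V.ι from congrArg CoGrothendieck.Hom.base hl]
    exact r.2
  have hW' : (⊤ : R.base.Opens) ≤ (l' ≫ p (jj y)).base ⁻¹ᵁ V := by rw [← hl.trans hl'.symm]; exact hW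
  have htt := sec_congr (hl.trans hl'.symm) (sec_comp hp1 ht) (sec_comp hrj ht') hW hW'
  -- through the second arrows
  have hqx : Sec (q (jj x)) V (z • rs M₂ hx (e' x))
      (rs _ (by rw [hb]) ((p (jj x)).base.app V z • ri)) := by
    have h0 := sec_smul (hcon x hx ri hri) z
    have : ∀ (b : (Z (jj x)).base ⟶ Y) (hle : b ⁻¹ᵁ V ≤ (p (jj x)).base ⁻¹ᵁ V) (eb : b = (p (jj x)).base),
        b.app V z • rs (md (Z (jj x))) hle ri = rs (md (Z (jj x))) hle ((p (jj x)).base.app V z • ri) := by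
      rintro b hle rfl
      rw [rs_self, rs_self]
    rw [this _ _ (hb _)] at h0
    exact h0
  have hqy : Sec (q (jj y)) V (w • rs M₂ hx (e' x)) (rs _ (by rw [hb]) rj) := by
    rw [hw]
    exact hcon y hy rj hrj
  obtain ⟨t₁, ht₁⟩ := exists_sec l ((q (jj x)).base ⁻¹ᵁ V) (rs _ (by rw [hb]) ((p (jj x)).base.app V z • ri))
  obtain ⟨t₁', ht₁'⟩ := exists_sec l' ((q (jj y)).base ⁻¹ᵁ V) (rs (md (Z (jj y))) (by rw [hb]) rj)
  have e1 := sec_rs (show (q (jj x)).base ⁻¹ᵁ V ≤ (p (jj x)).base ⁻¹ᵁ V by rw [hb]) ht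
  have e1' := sec_rs (show (q (jj y)).base ⁻¹ᵁ V ≤ (p (jj y)).base ⁻¹ᵁ V by rw [hb]) ht'
  rw [(ConcreteCategory.bijective_of_isIso (l.fiber.app _)).1 (ht₁.trans e1.symm)] at ht₁
  rw [(ConcreteCategory.bijective_of_isIso (l'.fiber.app _)).1 (ht₁'.trans e1'.symm)] at ht₁'
  have S1 := sec_comp hqx ht₁
  have S2 := sec_comp hqy ht₁'
  obtain ⟨t₂, ht₂⟩ := exists_sec (l ≫ q (jj x)) V (w • rs M₂ hx (e' x))
  refine sec_inj (l ≫ q (jj x)) (by
    intro v hv
    show v ∈ Set.range (l ≫ q (jj x)).base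
    rw [hq, Scheme.Opens.range_ι]
    exact hv) ((he' x).mono hx) S1 ?_
  have hWq : (⊤ : R.base.Opens) ≤ (l ≫ q (jj x)).base ⁻¹ᵁ V := fun r _ => by
    show (l ≫ q (jj x)).base r ∈ V
    rw [hq]
    exact r.2
  have hWq' : (⊤ : R.base.Opens) ≤ (l' ≫ q (jj y)).base ⁻¹ᵁ V := by rw [← key]; exact hWq
  have c2 := sec_congr key ht₂ S2 hWq hWq'
  simp only [rs_rs] at c2
  have c3 := htt.symm
  have hpq : (l ≫ q (jj x)).base ⁻¹ᵁ V ≤ (l ≫ p (jj x)).base ⁻¹ᵁ V := fun r _ => hW trivial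
  have fin : t₂ = rs (md R) hpq t := by
    have hback : (l ≫ q (jj x)).base ⁻¹ᵁ V ≤ (⊤ : R.base.Opens) := le_top
    have c4 := congrArg (rs (md R) hback) (c2.trans c3)
    simp only [rs_rs, rs_self] at c4
    exact c4
  rw [fin] at ht₂
  exact ht₂

end Groth.Agent.ThetaDescent
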