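/-
Representability of the theta group.
-/
import Groth.Agent.L26.Theta.GlueArrow
import Groth.Agent.L26.Theta.Trans
import Groth.Agent.L02.Hilb.OpenCharts
import Groth.Prelude.Def_GmPts
import Mathlib.CategoryTheory.Monoidal.Cartesian.Grp

open CategoryTheory CategoryTheory.Limits AlgebraicGeometry TopologicalSpace Opposite
open MonoidalCategory CartesianMonoidalCategory MonObj GrpObj
open CategoryTheory.Pseudofunctor
open Groth.Agent.ThetaCart Groth.Agent.ThetaPts Groth.Agent.ThetaPairing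
open Groth.L25.HomScheme

universe u

noncomputable section

namespace Groth.Agent.ThetaRep

set_option backward.isDefEq.respectTransparency false
set_option backward.isDefEq.respectTransparency.types false
set_option linter.style.haveILetI false

variable {S : Scheme.{u}} {A : Over S} [GrpObj A] {L : A.left.Modules}
  (hπ : ∀ T : Over S, Function.Bijective (snd A T).left.appTop) (hL : PicF.IsInvertible L)

/-- The base change of a point. -/
def rb {T T' : Over S} (g : T' ⟶ T) (β : ThetaGrp.thetaPts A L T) : ThetaGrp.thetaPts A L T' :=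
  (exists_isBaseChange β g).choose

theorem rb_spec {T T' : Over S} (g : T' ⟶ T) (β : ThetaGrp.thetaPts A L T) :
    ThetaGrp.IsBaseChange (rb g β) g β := (exists_isBaseChange β g).choose_spec

theorem rb_eq {T T' : Over S} {g : T' ⟶ T} {β : ThetaGrp.thetaPts A L T} {β' : ThetaGrp.thetaPts A L T'}
    (h : ThetaGrp.IsBaseChange β' g β) : rb g β = β' := isBaseChange_unique (rb_spec g β) h

theorem rb_mul {T T' : Over S} (g : T' ⟶ T) (α β : ThetaGrp.thetaPts A L T) :
    rb g (α * β) = rb g α * rb g β := rb_eq (isBaseChange_mul (rb_spec g α) (rb_spec g β))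

theorem rb_scal {T T' : Over S} (g : T' ⟶ T) (a : Γ(T.left, ⊤)ˣ) :
    rb g (scal A L T a) = scal A L T' (res g a) := rb_eq (isBaseChange_scal g a)

theorem isOverPt_rb {T T' : Over S} (g : T' ⟶ T) {β : ThetaGrp.thetaPts A L T} {x : T ⟶ A}
    (h : ThetaGrp.IsOverPt β x) : ThetaGrp.IsOverPt (rb g β) (g ≫ x) :=
  isOverPt_of_isBaseChange (rb_spec g β) h

include hπ hL

theorem isBaseChange_id {T : Over S} (β : ThetaGrp.thetaPts A L T) : ThetaGrp.IsBaseChange β (𝟙 T) β := by
  haveI := isCart_bcLift (A := A) (L := L) (𝟙 T)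
  haveI := isCart_id (ThetaGrp.thetaObj A L T)
  obtain ⟨a, ha⟩ := exists_act_eq (Groth.L18.Ample.isInvertible_pullback _ hL) (ThetaGrp.bcLift A L (𝟙 T))
    (𝟙 (ThetaGrp.thetaObj A L T)) (by
      show (A ◁ 𝟙 T).left = 𝟙 _
      rw [MonoidalCategory.whiskerLeft_id]; rfl)
  obtain ⟨x, hx⟩ := exists_isOverPt β
  obtain ⟨c, hc⟩ := (hπ T).2 (a : Γ((A ⊗ T).left, ⊤))
  have hinv : β.1.hom.base.appTop (a : Γ((A ⊗ T).left, ⊤)) = a := by
    rw [← show up (A := A) T c = (a : Γ((A ⊗ T).left, ⊤)) from hc, show β.1.hom.base = _ from hx]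
    exact appTop_transl x c
  show β.1.hom ≫ _ = _ ≫ β.1.hom
  rw [ha, comp_act, hinv, act_comp, Category.comp_id, Category.id_comp]

theorem rb_id {T : Over S} (β : ThetaGrp.thetaPts A L T) : rb (𝟙 T) β = β := rb_eq (isBaseChange_id hπ hL β)

theorem rb_comp {T T' T'' : Over S} (f : T'' ⟶ T') (g : T' ⟶ T) (β : ThetaGrp.thetaPts A L T) :
    rb (f ≫ g) β = rb f (rb g β) := rb_eq (isBaseChange_trans hπ hL (rb_spec f _) (rb_spec g β))

omit hπ hL in
variable (L) in
/-- The functor of points of the theta group. -/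
abbrev fam (hπ : ∀ T : Over S, Function.Bijective (snd A T).left.appTop) (hL : PicF.IsInvertible L) :
    Fam.{u, u} S where
  obj T := ThetaGrp.thetaPts A L T
  res g β := rb g β
  res_id β := rb_id hπ hL β
  res_comp f g β := rb_comp hπ hL f g β

omit hπ hL in
theorem res_pt {T T' : Over S} (g : T' ⟶ T) (a : Γ(T.left, ⊤)ˣ) :
    g ≫ GmPts.ptOfUnit a = (GmPts.ptOfUnit (res g a) : T' ⟶ Red.Gm S) := by
  rw [← GmPts.ptOfUnit_unitOfPt (g ≫ GmPts.ptOfUnit a), GmPts.unitOfPt_comp, GmPts.unitOfPt_ptOfUnit]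

omit hπ hL in
theorem pt_inj {T : Over S} {a b : Γ(T.left, ⊤)ˣ}
    (h : (GmPts.ptOfUnit a : T ⟶ Red.Gm S) = GmPts.ptOfUnit b) : a = b := by
  rw [← GmPts.unitOfPt_ptOfUnit (S := S) (T := T) a, h, GmPts.unitOfPt_ptOfUnit]

theorem zarSep : (fam L hπ hL).ZarSep := by
  intro T J U j hU β β' h
  obtain ⟨x, hx⟩ := exists_isOverPt β
  obtain ⟨x', hx'⟩ := exists_isOverPt β'
  obtain rfl : x = x' := hU.hom_ext fun i => by
    have h1 := isOverPt_rb (j i) hx
    rw [show rb (j i) β = rb (j i) β' from h i] at h1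
    exact isOverPt_unique h1 (isOverPt_rb (j i) hx')
  obtain ⟨a, rfl⟩ := exists_scal_mul hπ hL hx hx'
  suffices a = 1 by rw [this, map_one, _root_.one_mul]
  refine pt_inj (S := S) (hU.hom_ext fun i => ?_)
  rw [res_pt, res_pt, map_one]
  congr 1
  have h1 : scal A L _ (res (j i) a) * rb (j i) β' = scal A L _ 1 * rb (j i) β' := by
    rw [← rb_scal, ← rb_mul, map_one, _root_.one_mul]
    exact h i
  exact scal_inj hπ hL (mul_right_cancel h1)

theorem exists_lift_of_cover {T : Over S} {J : Type u} {U : J → Over S} {j : ∀ i, U i ⟶ T}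
    (hU : IsOpenFamily U j) (x : ∀ i, ThetaGrp.thetaPts A L (U i))
    (hx : ∀ i k (Z : Over S) (a : Z ⟶ U i) (b : Z ⟶ U k), a ≫ j i = b ≫ j k → rb a (x i) = rb b (x k))
    {z : T ⟶ A} (hz : ∀ i, ThetaGrp.IsOverPt (x i) (j i ≫ z)) :
    ∃ β : ThetaGrp.thetaPts A L T, ThetaGrp.IsOverPt β z := by
  let t : (A ⊗ T).left ⟶ (A ⊗ T).left := (ThetaGrp.transl A z).left
  let L₁ : (A ⊗ T).left.Modules := (Scheme.Modules.pullback (fst A T).left).obj L
  let ε : (⟨(A ⊗ T).left, (Scheme.Modules.pullback t).obj L₁⟩ : Obj.{u}) ⟶ ThetaGrp.thetaObj A L T := ⟨t, 𝟙 _⟩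
  haveI : IsCart ε := inferInstanceAs (IsIso (𝟙 _))
  haveI hbc : ∀ {T T' : Over S} (g : T' ⟶ T), IsCart (ThetaGrp.bcLift A L g) := fun g => isCart_bcLift g
  haveI hxc : ∀ i, IsCart (x i).1.hom := fun i => isCart_iso (x i).1
  have hbase : ∀ i, (A ◁ j i).left ≫ ε.base = ((x i).1.hom ≫ ThetaGrp.bcLift A L (j i)).base := fun i => by
    show (A ◁ j i).left ≫ t = (x i).1.hom.base ≫ (A ◁ j i).left
    rw [show (x i).1.hom.base = _ from hz i, ← Over.comp_left, ← Over.comp_left, transl_whisker]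
  choose q hqb hq hqc using fun i => exists_fac ε ((x i).1.hom ≫ ThetaGrp.bcLift A L (j i)) (A ◁ j i).left (hbase i)
  haveI : ∀ i, IsCart (q i) := fun i => hqc i (isCart_comp _ _)
  haveI : ∀ i, IsOpenImmersion (ThetaGrp.bcLift A L (j i)).base := fun i => by
    haveI := hU.isOpenImmersion i
    show IsOpenImmersion (A ◁ j i).left
    rw [Over.whiskerLeft_left]
    infer_instance
  obtain ⟨φ⟩ := ThetaDescent.nonempty_iso_of_cover (Y := (A ⊗ T).left) (M₁ := L₁)
    (M₂ := (Scheme.Modules.pullback t).obj L₁) (Groth.L18.Ample.isInvertible_pullback _ hL)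
    (Groth.L18.Ample.isInvertible_pullback _ (Groth.L18.Ample.isInvertible_pullback _ hL))
    (fun i => ThetaGrp.thetaObj A L (U i)) (fun i => ThetaGrp.bcLift A L (j i)) q hqb (fun y => by
      obtain ⟨i, w, hw⟩ := hU.covers ((snd A T).left y)
      refine ⟨i, ?_⟩
      show y ∈ Set.range (A ◁ j i).left
      rw [Over.whiskerLeft_left]
      erw [Scheme.Pullback.range_map]
      exact ⟨⟨(fst A T).left y, rfl⟩, ⟨w, hw⟩⟩)
    (fun i k R l l' hl hl' hll => by
      let W : Over S := Over.mk (l.base ≫ (A ⊗ U i).hom)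
      have hb0 : l.base ≫ (A ◁ j i).left = l'.base ≫ (A ◁ j k).left := congrArg CoGrothendieck.Hom.base hll
      let a : W ⟶ U i := Over.homMk (l.base ≫ (snd A (U i)).left) (by rw [Category.assoc, Over.w]; rfl)
      let b : W ⟶ U k := Over.homMk (l'.base ≫ (snd A (U k)).left) (by
        rw [Category.assoc, Over.w]
        show _ = l.base ≫ (A ⊗ U i).hom
        rw [← Over.w (A ◁ j i), ← Over.w (A ◁ j k), reassoc_of% hb0])
      have hab : a ≫ j i = b ≫ j k := Over.OverMorphism.ext (by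
        have := congrArg (· ≫ (snd A T).left) hb0
        simp only [Category.assoc, ← Over.comp_left, whiskerLeft_snd] at this
        simpa only [Over.comp_left, a, b, Over.homMk_left, Category.assoc] using this)
      let g : W ⟶ A ⊗ W := lift (Over.homMk (l.base ≫ (fst A (U i)).left) (by
        rw [Category.assoc, Over.w]; rfl)) (𝟙 W)
      have hga : g.left ≫ (A ◁ a).left = l.base := by
        have e : g ≫ (A ◁ a) = Over.homMk l.base rfl := by
          apply CartesianMonoidalCategory.hom_ext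
          · simp only [g, Category.assoc, whiskerLeft_fst, lift_fst]; exact Over.OverMorphism.ext rfl
          · simp only [g, Category.assoc, whiskerLeft_snd, lift_snd_assoc, Category.id_comp]
            exact Over.OverMorphism.ext rfl
        exact congrArg CommaMorphism.left e
      have hgb : g.left ≫ (A ◁ b).left = l'.base := by
        have hw : l'.base ≫ (A ⊗ U k).hom = W.hom := by
          show _ = l.base ≫ (A ⊗ U i).hom
          rw [← Over.w (A ◁ j i), ← Over.w (A ◁ j k), reassoc_of% hb0]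
        have e : g ≫ (A ◁ b) = Over.homMk l'.base hw := by
          apply CartesianMonoidalCategory.hom_ext
          · simp only [g, Category.assoc, whiskerLeft_fst, lift_fst]
            refine Over.OverMorphism.ext ?_
            have := congrArg (· ≫ (fst A T).left) hb0
            simp only [Category.assoc, ← Over.comp_left, whiskerLeft_fst] at this
            exact this
          · simp only [g, Category.assoc, whiskerLeft_snd, lift_snd_assoc, Category.id_comp]
            exact Over.OverMorphism.ext rfl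
        exact congrArg CommaMorphism.left e
      obtain ⟨m, hmb, hm, hmc⟩ := exists_fac (ThetaGrp.bcLift A L a) l g.left hga
      let γ := rb a (x i)
      have hγa : γ.1.hom ≫ ThetaGrp.bcLift A L a = ThetaGrp.bcLift A L a ≫ (x i).1.hom := rb_spec a (x i)
      have hγb : γ.1.hom ≫ ThetaGrp.bcLift A L b = ThetaGrp.bcLift A L b ≫ (x k).1.hom := by
        rw [show γ = rb b (x k) from hx i k W a b hab]
        exact rb_spec b (x k)
      haveI := isCart_comp (ThetaGrp.bcLift A L a) (ThetaGrp.bcLift A L (j i))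
      haveI := isCart_comp (ThetaGrp.bcLift A L b) (ThetaGrp.bcLift A L (j k))
      obtain ⟨c, hc⟩ := exists_act_eq (Groth.L18.Ample.isInvertible_pullback _ hL)
        (ThetaGrp.bcLift A L a ≫ ThetaGrp.bcLift A L (j i)) (ThetaGrp.bcLift A L b ≫ ThetaGrp.bcLift A L (j k)) (by
          show (A ◁ a).left ≫ (A ◁ j i).left = (A ◁ b).left ≫ (A ◁ j k).left
          rw [← Over.comp_left, ← Over.comp_left, ← MonoidalCategory.whiskerLeft_comp,
            ← MonoidalCategory.whiskerLeft_comp, hab])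
      obtain ⟨c₀, hc₀⟩ := (hπ W).2 (c : Γ((A ⊗ W).left, ⊤))
      obtain ⟨w, hw⟩ := exists_isOverPt γ
      have hinv : γ.1.hom.base.appTop (c : Γ((A ⊗ W).left, ⊤)) = c := by
        rw [← show up (A := A) W c₀ = (c : Γ((A ⊗ W).left, ⊤)) from hc₀, show γ.1.hom.base = _ from hw]
        exact appTop_transl w c₀
      have hl'eq : l' = act (m.base.appTop (c : Γ((A ⊗ W).left, ⊤))) m ≫ ThetaGrp.bcLift A L b := by
        refine fac_unique (ThetaGrp.bcLift A L (j k)) ?_ ?_
        · show l'.base = m.base ≫ (A ◁ b).left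
          rw [hmb, hgb]
        · rw [← hll, ← hm, Category.assoc, Category.assoc, hc, comp_act, act_comp]
      refine fac_unique ε ?_ ?_
      · show l.base ≫ (q i).base = l'.base ≫ (q k).base
        rw [hqb, hqb]
        exact hb0
      · rw [Category.assoc, Category.assoc, hq, hq, hl'eq, ← hm]
        simp only [act_comp, Category.assoc, ← reassoc_of% hγa, ← reassoc_of% hγb]
        rw [hc, comp_act, hinv, comp_act])
  let γ : ThetaGrp.thetaObj A L T ⟶ ThetaGrp.thetaObj A L T := ⟨t, φ.hom⟩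
  haveI : IsCart γ := inferInstanceAs (IsIso φ.hom)
  obtain ⟨β, hβ⟩ := exists_of_cart (x := z) γ rfl
  exact ⟨β, show β.1.hom.base = _ by rw [hβ]⟩

theorem zarGlue : (fam L hπ hL).ZarGlue := by
  intro T J U j hU x hx
  choose z hz using fun i => exists_isOverPt (x i)
  obtain ⟨z₀, hz₀⟩ := hU.exists_glue z fun i k Z a b e => by
    have h1 := isOverPt_rb a (hz i)
    rw [show rb a (x i) = rb b (x k) from hx i k Z a b e] at h1
    exact isOverPt_unique h1 (isOverPt_rb b (hz k))
  obtain ⟨β, hβ⟩ := exists_lift_of_cover hπ hL hU x hx (z := z₀) fun i => by rw [hz₀]; exact hz i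
  choose a ha using fun i => exists_scal_mul hπ hL (x := z i) (β := rb (j i) β) (β' := x i)
    (by rw [← hz₀ i]; exact isOverPt_rb (j i) hβ) (hz i)
  obtain ⟨b, hb⟩ := hU.exists_glue (fun i => (GmPts.ptOfUnit (a i) : U i ⟶ Red.Gm S)) fun i k Z p q e => by
    rw [res_pt, res_pt]
    congr 1
    have h1 := congrArg (rb p) (ha i)
    rw [← rb_comp hπ hL, e, rb_comp hπ hL, ha k, rb_mul, rb_mul, rb_scal, rb_scal,
      show rb p (x i) = rb q (x k) from hx i k Z p q e] at h1
    exact (scal_inj hπ hL (mul_right_cancel h1)).symm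
  refine ⟨scal A L T (GmPts.unitOfPt b)⁻¹ * β, fun i => ?_⟩
  show rb (j i) _ = x i
  rw [rb_mul, rb_scal, ha i, ← _root_.mul_assoc, ← map_mul, map_inv]
  have : res (j i) (GmPts.unitOfPt b) = a i := by
    rw [show res (j i) (GmPts.unitOfPt b) = GmPts.unitOfPt (j i ≫ b) from (GmPts.unitOfPt_comp _ _).symm, hb,
      GmPts.unitOfPt_ptOfUnit]
  rw [this, inv_mul_cancel, map_one, _root_.one_mul]

variable [IsCommMonObj A] {K : Over S} (iK : K ⟶ A) [Mono iK]
  (hK : ∀ (T : Over S) (x : T ⟶ A), (∃ y : T ⟶ K, y ≫ iK = x) ↔ LocLift L x)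

include hK in
/-- The functor of points of the theta group is representable. -/
theorem exists_rep : ∃ (G : Over S) (u : ThetaGrp.thetaPts A L G), (fam L hπ hL).IsRep G u := by
  choose U hU β hβ using (hK K iK).1 ⟨𝟙 K, Category.id_comp _⟩
  have hξ : ∀ (κ : K.left) (T : Over S) (h : T ⟶ opn K (U κ) ⊗ Red.Gm S),
      rb h (scal A L _ (GmPts.unitOfPt (snd (opn K (U κ)) (Red.Gm S))) * rb (fst (opn K (U κ)) (Red.Gm S)) (β κ)) =
        scal A L T (GmPts.unitOfPt (h ≫ snd _ _)) * rb (h ≫ fst _ _) (β κ) := fun κ T h => by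
    rw [rb_mul, rb_scal, ← rb_comp hπ hL]
    congr 2
  have hpt : ∀ (κ : K.left) (T : Over S) (a : Γ(T.left, ⊤)ˣ) (l : T ⟶ opn K (U κ)),
      ThetaGrp.IsOverPt (scal A L T a * rb l (β κ)) ((l ≫ opnι K (U κ)) ≫ iK) := fun κ T a l => by
    have := isOverPt_mul (isOverPt_scal (A := A) (L := L) a) (isOverPt_rb l (hβ κ))
    first
      | rwa [_root_.mul_one, ← Category.assoc] at this
      | rwa [_root_.one_mul, ← Category.assoc] at this
  have hlift : ∀ (κ : K.left) {T : Over S} (l : T ⟶ opn K (U κ)) {γ : ThetaGrp.thetaPts A L T},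
      ThetaGrp.IsOverPt γ ((l ≫ opnι K (U κ)) ≫ iK) → ∃ h : T ⟶ opn K (U κ) ⊗ Red.Gm S,
        rb h (scal A L _ (GmPts.unitOfPt (snd (opn K (U κ)) (Red.Gm S))) * rb (fst (opn K (U κ)) (Red.Gm S)) (β κ)) = γ := by
    intro κ T l γ hγ
    have h0 := hpt κ T 1 l
    rw [map_one, _root_.one_mul] at h0
    obtain ⟨a, ha⟩ := exists_scal_mul hπ hL hγ h0
    refine ⟨lift l (GmPts.ptOfUnit a), ?_⟩
    rw [hξ, lift_fst, lift_snd, GmPts.unitOfPt_ptOfUnit, ha]
  refine Groth.L02.Hilb.exists_rep_openCharts (fam L hπ hL) (zarSep hπ hL) (zarGlue hπ hL)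
    (fun κ : K.left => opn K (U κ) ⊗ Red.Gm S)
    (fun κ => scal A L _ (GmPts.unitOfPt (snd (opn K (U κ)) (Red.Gm S))) * rb (fst (opn K (U κ)) (Red.Gm S)) (β κ))
    (fun κ T p q e => ?_) (fun κ T x => ?_) (fun T x t => ?_)
  · change rb p _ = rb q _ at e
    rw [hξ, hξ] at e
    have h1 := hpt κ T (GmPts.unitOfPt (p ≫ snd _ _)) (p ≫ fst _ _)
    rw [e] at h1
    have h2 := (cancel_mono iK).1 (isOverPt_unique h1 (hpt κ T _ _))
    haveI : Mono (opnι K (U κ)) := by
      haveI : Mono (opnι K (U κ)).left := inferInstanceAs (Mono (U κ).ι)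
      exact Over.mono_of_mono_left _
    have h3 : p ≫ fst _ _ = q ≫ fst _ _ := (cancel_mono _).1 h2
    rw [h3] at e
    refine CartesianMonoidalCategory.hom_ext _ _ h3 ?_
    rw [← GmPts.ptOfUnit_unitOfPt (p ≫ snd _ _), ← GmPts.ptOfUnit_unitOfPt (q ≫ snd _ _),
      scal_inj hπ hL (mul_right_cancel e)]
  · obtain ⟨w, hw⟩ := exists_isOverPt x
    obtain ⟨y, hy⟩ := (hK T w).2 (LocLift.of_lift hw)
    refine ⟨y.left ⁻¹ᵁ U κ, fun T' g => ⟨?_, fun hg => ?_⟩⟩
    · rintro ⟨h, hh⟩
      change rb h _ = rb g x at hh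
      rw [hξ] at hh
      have h1 := hpt κ T' (GmPts.unitOfPt (h ≫ snd _ _)) (h ≫ fst _ _)
      rw [hh] at h1
      have h2 : (h ≫ fst _ _) ≫ opnι K (U κ) = g ≫ y := (cancel_mono iK).1 (by
        rw [isOverPt_unique h1 (isOverPt_rb g hw), Category.assoc g y, hy])
      rintro _ ⟨v, rfl⟩
      show (g ≫ y).left v ∈ U κ
      rw [← h2]
      exact ((h ≫ fst _ _).left v).2
    · let l : T' ⟶ opn K (U κ) := Over.homMk (IsOpenImmersion.lift (U κ).ι (g ≫ y).left (by
        rintro _ ⟨v, rfl⟩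
        exact ⟨⟨(g ≫ y).left v, hg ⟨v, rfl⟩⟩, rfl⟩)) (by
        show _ ≫ (U κ).ι ≫ K.hom = _
        rw [IsOpenImmersion.lift_fac_assoc, Over.w])
      have hl : l ≫ opnι K (U κ) = g ≫ y := Over.OverMorphism.ext (IsOpenImmersion.lift_fac _ _ _)
      refine hlift κ l (γ := rb g x) ?_
      rw [hl, Category.assoc, hy]
      exact isOverPt_rb g hw
  · obtain ⟨w, hw⟩ := exists_isOverPt x
    obtain ⟨y, hy⟩ := (hK T w).2 (LocLift.of_lift hw)
    let V := y.left ⁻¹ᵁ U (y.left t)
    refine ⟨y.left t, opn T V, opnι T V, inferInstanceAs (IsOpenImmersion V.ι), ?_, ?_⟩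
    · show t ∈ Set.range V.ι
      rw [Scheme.Opens.range_ι]
      exact hU _
    · let l : opn T V ⟶ opn K (U (y.left t)) := Over.homMk (y.left ∣_ U (y.left t)) (by
        show _ ≫ (U (y.left t)).ι ≫ K.hom = V.ι ≫ T.hom
        rw [morphismRestrict_ι_assoc, Over.w])
      have hl : l ≫ opnι K (U (y.left t)) = opnι T V ≫ y := Over.OverMorphism.ext (morphismRestrict_ι _ _)
      refine hlift _ l (γ := rb (opnι T V) x) ?_
      rw [hl, Category.assoc, hy]
      exact isOverPt_rb _ hw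

omit hπ hL in
variable (L) in
/-- The functor of groups. -/
def grpFunctor (hπ : ∀ T : Over S, Function.Bijective (snd A T).left.appTop) (hL : PicF.IsInvertible L) :
    (Over S)ᵒᵖ ⥤ GrpCat.{u} where
  obj T := GrpCat.of (ThetaGrp.thetaPts A L T.unop)
  map g := GrpCat.ofHom (MonoidHom.mk' (rb g.unop) (rb_mul g.unop))
  map_id T := GrpCat.ext fun β => rb_id hπ hL β
  map_comp f g := GrpCat.ext fun β => rb_comp hπ hL g.unop f.unop β

include hK in
/-- The theta group scheme exists. -/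
theorem exists_isThetaGrpSch : ∃ (G : Over S) (_ : GrpObj G) (u : ThetaGrp.thetaPts A L G),
    ThetaGrp.IsThetaGrpSch A L G u := by
  obtain ⟨G, u, h⟩ := exists_rep hπ hL iK hK
  let α : (grpFunctor L hπ hL ⋙ forget _).RepresentableBy G :=
    { homEquiv := fun {T} => Equiv.ofBijective (fun g : T ⟶ G => rb g u)
        ⟨fun a b e => h.ext e, fun β => (h T β).exists⟩
      homEquiv_comp := fun f g => rb_comp hπ hL f g u }
  letI : GrpObj G := GrpObj.ofRepresentableBy G _ α
  refine ⟨G, inferInstance, u, ⟨fun T β => ?_, fun T g => ?_, fun T g g' β₁ β₂ h₁ h₂ => ?_⟩⟩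
  · obtain ⟨g, hg, hu⟩ := h T β
    exact ⟨g, hg ▸ rb_spec g u, fun g' hg' => hu g' (rb_eq hg')⟩
  · exact ⟨rb g u, rb_spec g u, fun β hβ => (rb_eq hβ).symm⟩
  · have e : rb (g * g') u = rb g u * rb g' u :=
      ((yonedaGrpObjIsoOfRepresentableBy G (grpFunctor L hπ hL) α).hom.app (op T)).hom.map_mul g g'
    rw [← rb_eq h₁, ← rb_eq h₂, ← e]
    exact rb_spec _ u

end Groth.Agent.ThetaRep
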