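/-
The theta group scheme of an abelian variety is of finite type.
-/
import Groth.Agent.L26.Theta.Rep
import Groth.Agent.L26.Theta.AbVar
import Groth.Agent.L26.KL.Exists
import Groth.Agent.L25.Extend.Gm

open CategoryTheory CategoryTheory.Limits AlgebraicGeometry TopologicalSpace Opposite
open MonoidalCategory CartesianMonoidalCategory MonObj GrpObj
open CategoryTheory.Pseudofunctor
open Groth.Agent.ThetaCart Groth.Agent.ThetaPts Groth.Agent.ThetaPairing
open Groth.Agent.ThetaRep (rb rb_spec rb_eq rb_mul rb_scal rb_comp rb_id isOverPt_rb res_pt)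

universe u

noncomputable section

namespace Groth.Agent.ThetaFinite

set_option backward.isDefEq.respectTransparency false
set_option backward.isDefEq.respectTransparency.types false
set_option linter.style.haveILetI false

section

variable {S : Scheme.{u}} {A : Over S} [GrpObj A] {L : A.left.Modules}
  (hπ : ∀ T : Over S, Function.Bijective (snd A T).left.appTop) (hL : PicF.IsInvertible L)

variable {K : Over S} {U : K.left.Opens} (β : ThetaGrp.thetaPts A L (opn K U))

/-- The tautological point on a chart. -/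
def chartPt : ThetaGrp.thetaPts A L (opn K U ⊗ Red.Gm S) :=
  scal A L _ (GmPts.unitOfPt (snd (opn K U) (Red.Gm S))) * rb (fst (opn K U) (Red.Gm S)) β

include hπ hL

theorem rb_chartPt {T : Over S} (h : T ⟶ opn K U ⊗ Red.Gm S) :
    rb h (chartPt β) = scal A L T (GmPts.unitOfPt (h ≫ snd _ _)) * rb (h ≫ fst _ _) β := by
  rw [chartPt, rb_mul, rb_scal, ← rb_comp hπ hL]
  congr 2

variable {iK : K ⟶ A} (hβ : ThetaGrp.IsOverPt β (opnι K U ≫ iK))

include hβ

omit hπ hL in
theorem isOverPt_scal_rb {T : Over S} (a : Γ(T.left, ⊤)ˣ) (l : T ⟶ opn K U) :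
    ThetaGrp.IsOverPt (scal A L T a * rb l β) (l ≫ opnι K U ≫ iK) := by
  have := isOverPt_mul (isOverPt_scal (A := A) (L := L) a) (isOverPt_rb l hβ)
  first
    | rwa [_root_.mul_one] at this
    | rwa [_root_.one_mul] at this

theorem chartPt_inj [Mono iK] {T : Over S} {p q : T ⟶ opn K U ⊗ Red.Gm S}
    (e : rb p (chartPt β) = rb q (chartPt β)) : p = q := by
  rw [rb_chartPt hπ hL, rb_chartPt hπ hL] at e
  have h1 := isOverPt_scal_rb β hβ (GmPts.unitOfPt (p ≫ snd _ _)) (p ≫ fst _ _)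
  rw [e] at h1
  have h2 := isOverPt_unique h1 (isOverPt_scal_rb β hβ _ _)
  haveI : Mono (opnι K U) := by
    haveI : Mono (opnι K U).left := inferInstanceAs (Mono U.ι)
    exact Over.mono_of_mono_left _
  have h3 : p ≫ fst _ _ = q ≫ fst _ _ := (cancel_mono (opnι K U ≫ iK)).1 h2
  rw [h3] at e
  refine CartesianMonoidalCategory.hom_ext _ _ h3 ?_
  rw [← GmPts.ptOfUnit_unitOfPt (p ≫ snd _ _), ← GmPts.ptOfUnit_unitOfPt (q ≫ snd _ _),
    scal_inj hπ hL (mul_right_cancel e)]

theorem exists_fac_chartPt {T : Over S} (l : T ⟶ opn K U) {γ : ThetaGrp.thetaPts A L T}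
    (hγ : ThetaGrp.IsOverPt γ (l ≫ opnι K U ≫ iK)) : ∃ h, rb h (chartPt β) = γ := by
  have h0 := isOverPt_scal_rb β hβ (1 : Γ(T.left, ⊤)ˣ) l
  rw [map_one, _root_.one_mul] at h0
  obtain ⟨a, ha⟩ := exists_scal_mul hπ hL hγ h0
  refine ⟨lift l (GmPts.ptOfUnit a), ?_⟩
  rw [rb_chartPt hπ hL, lift_fst, lift_snd, GmPts.unitOfPt_ptOfUnit, ha]

variable [Mono iK] {G : Over S} {u : ThetaGrp.thetaPts A L G}
  (huniv : ∀ (T : Over S) (β : ThetaGrp.thetaPts A L T), ∃! g : T ⟶ G, ThetaGrp.IsBaseChange β g u)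
  {x : G ⟶ A} (hx : ThetaGrp.IsOverPt u x) {y : G ⟶ K} (hy : y ≫ iK = x)

include huniv hx hy in
/-- The part of the representing object over a chart of `K(L)` is the chart times the multiplicative group. -/
theorem exists_chartIso : ∃ (c : opn K U ⊗ Red.Gm S ⟶ G) (e : opn G (y.left ⁻¹ᵁ U) ≅ opn K U ⊗ Red.Gm S),
    e.hom ≫ c = opnι G (y.left ⁻¹ᵁ U) := by
  obtain ⟨c, hc, -⟩ := huniv _ (chartPt β)
  have hcy : c ≫ y = fst _ _ ≫ opnι K U := by
    rw [← cancel_mono iK, Category.assoc, hy, Category.assoc]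
    exact isOverPt_unique (isOverPt_of_isBaseChange hc hx) (isOverPt_scal_rb β hβ _ _)
  let V : G.left.Opens := y.left ⁻¹ᵁ U
  let l : opn G V ⟶ opn K U := Over.homMk (y.left ∣_ U) (by
    show _ ≫ U.ι ≫ K.hom = V.ι ≫ G.hom
    rw [morphismRestrict_ι_assoc, Over.w])
  have hl : l ≫ opnι K U = opnι G V ≫ y := Over.OverMorphism.ext (morphismRestrict_ι _ _)
  obtain ⟨h, hh⟩ := exists_fac_chartPt hπ hL β hβ l (γ := rb (opnι G V) u) (by
    rw [← Category.assoc, hl, Category.assoc, hy]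
    exact isOverPt_rb _ hx)
  have hhc : h ≫ c = opnι G V := (huniv _ _).unique (y₁ := h ≫ c) (y₂ := opnι G V)
    (by rw [← hh, ← rb_eq hc, ← rb_comp hπ hL]; exact rb_spec _ _) (rb_spec _ _)
  let l' : opn K U ⊗ Red.Gm S ⟶ opn G V := Over.homMk (IsOpenImmersion.lift V.ι c.left (by
    rintro _ ⟨v, rfl⟩
    refine ⟨⟨c.left v, ?_⟩, rfl⟩
    show y.left (c.left v) ∈ U
    rw [show y.left (c.left v) = (c ≫ y).left v from rfl, hcy]
    exact ((fst (opn K U) (Red.Gm S)).left v).2)) (by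
    show _ ≫ V.ι ≫ G.hom = _
    rw [IsOpenImmersion.lift_fac_assoc, Over.w])
  have hl' : l' ≫ opnι G V = c := Over.OverMorphism.ext (IsOpenImmersion.lift_fac _ _ _)
  haveI : Mono (opnι G V) := by
    haveI : Mono (opnι G V).left := inferInstanceAs (Mono V.ι)
    exact Over.mono_of_mono_left _
  refine ⟨c, ⟨h, l', ?_, ?_⟩, hhc⟩
  · rw [← cancel_mono (opnι G V), Category.assoc, hl', hhc, Category.id_comp]
  · refine chartPt_inj hπ hL β hβ ?_
    have : rb (l' ≫ h) (rb c u) = rb (𝟙 _) (rb c u) := by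
      rw [← rb_comp hπ hL, Category.assoc, hhc, hl', rb_id hπ hL]
    rwa [rb_eq hc] at this

end

variable {k : Type u} [Field k] {A : Over (Spec (CommRingCat.of k))} [GrpObj A] [IsCommMonObj A] [IsProper A.hom]
  [GeometricallyIntegral A.hom] {L : A.left.Modules}

/-- The theta group scheme is of finite type. -/
theorem noetherianSpace_and_lft (hL : PicF.IsInvertible L) {G : Over (Spec (CommRingCat.of k))}
    {u : ThetaGrp.thetaPts A L G}
    (huniv : ∀ (T : Over (Spec (CommRingCat.of k))) (β : ThetaGrp.thetaPts A L T),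
      ∃! g : T ⟶ G, ThetaGrp.IsBaseChange β g u) :
    NoetherianSpace G.left ∧ LocallyOfFiniteType G.hom := by
  have hπ := fun T => ThetaAV.bijective_snd (A := A) T
  obtain ⟨K, iK, hK⟩ := KLLib.exists_isKL k A L hL
  haveI : IsClosedImmersion iK.left := hK.closed
  haveI : Mono iK := Over.mono_of_mono_left _
  obtain ⟨x, hx⟩ := exists_isOverPt u
  obtain ⟨y, hy⟩ := (ThetaAV.locLift_iff L hL iK hK x).2 (LocLift.of_lift hx)
  choose U hU β hβ using (ThetaAV.locLift_iff L hL iK hK iK).1 ⟨𝟙 K, Category.id_comp _⟩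
  choose c e he using fun κ => exists_chartIso hπ hL (β κ) (hβ κ) huniv hx hy
  haveI : IsProper K.hom := by rw [← Over.w iK]; infer_instance
  haveI : CompactSpace K.left := QuasiCompact.compactSpace_of_compactSpace K.hom
  haveI : IsLocallyNoetherian K.left := LocallyOfFiniteType.isLocallyNoetherian K.hom
  haveI : IsNoetherian K.left := ⟨⟩
  haveI : Smooth (Red.Gm (Spec (CommRingCat.of k))).hom := Groth.L25.Extend.smooth_gm _
  haveI : IsAffineHom (Red.Gm (Spec (CommRingCat.of k))).hom :=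
    MorphismProperty.pullback_snd _ _ (by
      show IsAffineHom (Spec.map _)
      infer_instance)
  haveI : ∀ κ, LocallyOfFiniteType (opn K (U κ)).hom := fun κ =>
    inferInstanceAs (LocallyOfFiniteType ((U κ).ι ≫ K.hom))
  haveI : ∀ κ, QuasiCompact (opn K (U κ)).hom := fun κ =>
    inferInstanceAs (QuasiCompact ((U κ).ι ≫ K.hom))
  haveI hC : ∀ κ, LocallyOfFiniteType (opn K (U κ) ⊗ Red.Gm (Spec (CommRingCat.of k))).hom := fun κ => by
    show LocallyOfFiniteType (pullback.fst _ _ ≫ (opn K (U κ)).hom)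
    infer_instance
  haveI : ∀ κ, IsNoetherian (opn K (U κ) ⊗ Red.Gm (Spec (CommRingCat.of k))).left := fun κ => by
    haveI : QuasiCompact (opn K (U κ) ⊗ Red.Gm (Spec (CommRingCat.of k))).hom := by
      show QuasiCompact (pullback.fst _ _ ≫ (opn K (U κ)).hom)
      infer_instance
    haveI := QuasiCompact.compactSpace_of_compactSpace (opn K (U κ) ⊗ Red.Gm (Spec (CommRingCat.of k))).hom
    haveI := LocallyOfFiniteType.isLocallyNoetherian (opn K (U κ) ⊗ Red.Gm (Spec (CommRingCat.of k))).hom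
    exact ⟨⟩
  refine ⟨?_, ?_⟩
  · obtain ⟨t, ht⟩ := isCompact_univ.elim_finite_subcover (fun κ => (U κ : Set K.left)) (fun κ => (U κ).2)
      fun κ _ => Set.mem_iUnion.2 ⟨κ, hU κ⟩
    haveI : ∀ κ : t, NoetherianSpace (Set.range (c κ).left) :=
      fun κ => NoetherianSpace.range _ (c κ).left.continuous
    have huni : (⋃ κ : t, Set.range (c κ).left) = Set.univ := Set.eq_univ_of_forall fun g => by
      obtain ⟨κ, hκ, hg⟩ := Set.mem_iUnion₂.1 (ht (Set.mem_univ (y.left g)))
      refine Set.mem_iUnion.2 ⟨⟨κ, hκ⟩, (e κ).hom.left ⟨g, hg⟩, ?_⟩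
      show ((e κ).hom ≫ c κ).left ⟨g, hg⟩ = g
      rw [he]
      rfl
    rw [← noetherian_univ_iff, ← huni]
    exact NoetherianSpace.iUnion _
  · let 𝒰 : G.left.OpenCover := G.left.openCoverOfIsOpenCover (fun κ => y.left ⁻¹ᵁ U κ) <| by
      rw [IsOpenCover, eq_top_iff]
      exact fun g _ => TopologicalSpace.Opens.mem_iSup.2 ⟨y.left g, hU _⟩
    refine IsZariskiLocalAtSource.of_openCover 𝒰 fun κ => ?_
    show LocallyOfFiniteType ((y.left ⁻¹ᵁ U κ).ι ≫ G.hom)
    have : (e κ).hom.left ≫ (opn K (U κ) ⊗ Red.Gm (Spec (CommRingCat.of k))).hom =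
        (y.left ⁻¹ᵁ U κ).ι ≫ G.hom := Over.w (e κ).hom
    rw [← this]
    infer_instance

end Groth.Agent.ThetaFinite
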