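/-
Normalised lifts of translations to the Mumford bundle.
-/
import Groth.Agent.L26.Theta.Pull
import Groth.Agent.L26.Theta.Trans
import Groth.Agent.L26.KL.Theta

open CategoryTheory CategoryTheory.Limits AlgebraicGeometry TopologicalSpace Opposite
open MonoidalCategory CartesianMonoidalCategory MonObj GrpObj
open CategoryTheory.Pseudofunctor
open Groth.Agent.ThetaCart Groth.Agent.ThetaPts Groth.Agent.ThetaPairing Groth.Agent.ThetaPull
open Groth.Agent.AbDualLib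

universe u

noncomputable section

namespace Groth.Agent.ThetaLambda

set_option backward.isDefEq.respectTransparency false
set_option backward.isDefEq.respectTransparency.types false
set_option linter.style.haveILetI false

variable {S : Scheme.{u}} {A : Over S} [GrpObj A]

variable (A) in
/-- The inclusion of the first factor. -/
abbrev incl : A ⟶ A ⊗ A := lift (𝟙 A) (1 : A ⟶ A)

theorem comp_incl {T : Over S} (x : T ⟶ A) : x ≫ incl A = lift x 1 := by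
  rw [comp_lift, Category.comp_id, MonObj.comp_one]

instance isMonHom_incl : IsMonHom (incl A) := by
  constructor
  · apply CartesianMonoidalCategory.hom_ext <;> simp [MonObj.one_eq_one]
  · apply CartesianMonoidalCategory.hom_ext
    · simp
    · simp [MonObj.mul_eq_mul, MonObj.comp_mul, MonObj.mul_comp]

theorem bijective_snd_tensor (hπ : ∀ T : Over S, Function.Bijective (snd A T).left.appTop) (T : Over S) :
    Function.Bijective (snd (A ⊗ A) T).left.appTop := by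
  have e : snd (A ⊗ A) T = (α_ A A T).hom ≫ snd A (A ⊗ T) ≫ snd A T := by simp
  rw [e, Over.comp_left, Over.comp_left, Scheme.Hom.comp_appTop, Scheme.Hom.comp_appTop]
  haveI : IsIso (α_ A A T).hom.left := inferInstanceAs (IsIso ((Over.forget S).map (α_ A A T).hom))
  exact ((ConcreteCategory.bijective_of_isIso (α_ A A T).hom.left.appTop).comp (hπ _)).comp (hπ T)

/-- The trivial pair over the base. -/
abbrev base (S : Scheme.{u}) : Obj.{u} := ⟨S, Coh.structureModule S⟩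

variable (Λ : (A ⊗ A).left.Modules) {T T' : Over S}

/-- The module on the first factor. -/
abbrev ax : A.left.Modules := (Scheme.Modules.pullback (incl A).left).obj Λ

/-- The lift fixes the trivialisation on the first factor. -/
def IsNorm (x : T ⟶ A) (β : ThetaGrp.thetaPts (A ⊗ A) Λ T) : Prop :=
  ∀ (F : ThetaGrp.thetaObj A (ax Λ) T ⟶ ThetaGrp.thetaObj (A ⊗ A) Λ T) (Q : ThetaGrp.thetaObj A (ax Λ) T ⟶ base S),
    IsCart F → IsCart Q → F.base = (incl A ▷ T).left → Q.base = (A ⊗ T).hom →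
      ∃ γ : ThetaGrp.thetaPts A (ax Λ) T, ThetaGrp.IsOverPt γ x ∧ γ.1.hom ≫ F = F ≫ β.1.hom ∧ γ.1.hom ≫ Q = Q

variable {Λ} (hπ : ∀ T : Over S, Function.Bijective (snd A T).left.appTop) (hΛi : PicF.IsInvertible Λ)
  (h0 : PicF.pullCl (incl A).left (PicF.cl Λ) = oneCl _)

include h0 in
theorem exists_base_arrow (T : Over S) :
    ∃ Q : ThetaGrp.thetaObj A (ax Λ) T ⟶ base S, IsCart Q ∧ Q.base = (A ⊗ T).hom := by
  obtain ⟨φ⟩ := (PicGrp.cl_eq_cl_iff ((Scheme.Modules.pullback (fst A T).left).obj (ax Λ))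
    ((Scheme.Modules.pullback (A ⊗ T).hom).obj (Coh.structureModule S))).1 (by
      show PicF.pullCl (fst A T).left (PicF.pullCl (incl A).left (PicF.cl Λ)) = PicF.pullCl (A ⊗ T).hom (oneCl S)
      rw [h0, pullCl_oneCl, pullCl_oneCl])
  exact ⟨⟨(A ⊗ T).hom, φ.hom⟩, inferInstanceAs (IsIso φ.hom), rfl⟩

include hπ in
theorem inv_appTop {L : A.left.Modules} {γ : ThetaGrp.thetaPts A L T} {x : T ⟶ A} (h : ThetaGrp.IsOverPt γ x)
    (a : Γ((A ⊗ T).left, ⊤)) : γ.1.hom.base.appTop a = a := by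
  obtain ⟨a₀, rfl⟩ := (hπ T).2 a
  rw [show γ.1.hom.base = _ from h]
  exact appTop_transl x a₀

include hπ hΛi in
/-- Normalisation can be tested on one pair of arrows. -/
theorem isNorm_of {x : T ⟶ A} {β : ThetaGrp.thetaPts (A ⊗ A) Λ T}
    {F : ThetaGrp.thetaObj A (ax Λ) T ⟶ ThetaGrp.thetaObj (A ⊗ A) Λ T} {Q : ThetaGrp.thetaObj A (ax Λ) T ⟶ base S}
    [IsCart F] [IsCart Q] (hF : F.base = (incl A ▷ T).left) (hQ : Q.base = (A ⊗ T).hom)
    {γ : ThetaGrp.thetaPts A (ax Λ) T} (hγ : ThetaGrp.IsOverPt γ x) (h1 : γ.1.hom ≫ F = F ≫ β.1.hom)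
    (h2 : γ.1.hom ≫ Q = Q) : IsNorm Λ x β := fun F' Q' _ _ hF' hQ' => by
  have hi : PicF.IsInvertible (md (ThetaGrp.thetaObj A (ax Λ) T)) :=
    Groth.L18.Ample.isInvertible_pullback _ (Groth.L18.Ample.isInvertible_pullback _ hΛi)
  obtain ⟨a, ha⟩ := exists_act_eq hi F' F (hF'.trans hF.symm)
  obtain ⟨b, hb⟩ := exists_act_eq hi Q' Q (hQ'.trans hQ.symm)
  refine ⟨γ, hγ, ?_, ?_⟩
  · rw [ha, comp_act, inv_appTop hπ hγ, h1, act_comp]
  · rw [hb, comp_act, inv_appTop hπ hγ, h2]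

include hπ hΛi h0 in
/-- Lifts can be normalised. -/
theorem exists_isNorm {x : T ⟶ A} {β₀ : ThetaGrp.thetaPts (A ⊗ A) Λ T}
    (hβ₀ : ThetaGrp.IsOverPt β₀ (x ≫ incl A)) :
    ∃ β, ThetaGrp.IsOverPt β (x ≫ incl A) ∧ IsNorm Λ x β := by
  obtain ⟨F, hFc, hF⟩ := exists_arrow (incl A) (L := ax Λ) (Iso.refl _) T
  obtain ⟨Q, hQc, hQ⟩ := exists_base_arrow h0 T
  obtain ⟨γ₀, hγ₀, h₁⟩ := exists_pull (incl A) hF hβ₀
  haveI := isCart_iso γ₀.1
  haveI := isCart_comp γ₀.1.hom Q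
  obtain ⟨a, ha⟩ := exists_act_eq (Groth.L18.Ample.isInvertible_pullback _ (Groth.L18.Ample.isInvertible_pullback _ hΛi))
    (γ₀.1.hom ≫ Q) Q (by
      show γ₀.1.hom.base ≫ Q.base = Q.base
      rw [show γ₀.1.hom.base = _ from hγ₀, hQ, Over.w])
  obtain ⟨b, hb⟩ := (hπ T).2 (a : Γ((A ⊗ T).left, ⊤))
  obtain ⟨c, hc⟩ := (hπ T).2 ((↑a⁻¹ : Γ((A ⊗ T).left, ⊤)))
  have hcb : c * b = 1 := (hπ T).1 (by rw [map_mul, hb, hc, Units.inv_mul, map_one])
  let d : Γ(T.left, ⊤)ˣ := Units.mkOfMulEqOne c b hcb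
  have ho : ThetaGrp.IsOverPt (scal A (ax Λ) T d * γ₀) x := by
    have h := isOverPt_mul (isOverPt_scal (A := A) (L := ax Λ) d) hγ₀
    rwa [_root_.mul_one] at h
  refine ⟨scal (A ⊗ A) Λ T d * β₀, ?_, isNorm_of hπ hΛi hF hQ ho ?_ ?_⟩
  · have h := isOverPt_mul (isOverPt_scal (A := A ⊗ A) (L := Λ) d) hβ₀
    rwa [_root_.mul_one] at h
  · rw [scal_mul_hom, scal_mul_hom, act_comp, comp_act, h₁, hF, appTop_whiskerRight]
  · rw [scal_mul_hom, act_comp, ha, act_act, show up (A := A) T (d : Γ(T.left, ⊤)) = (↑a⁻¹ : Γ((A ⊗ T).left, ⊤)) from hc,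
      Units.inv_mul, act_one]

theorem isNorm_mul {x y : T ⟶ A} {β β' : ThetaGrp.thetaPts (A ⊗ A) Λ T} (h : IsNorm Λ x β) (h' : IsNorm Λ y β') :
    IsNorm Λ (y * x) (β * β') := fun F Q hFc hQc hF hQ => by
  obtain ⟨γ, hγ, h1, h2⟩ := h F Q hFc hQc hF hQ
  obtain ⟨γ', hγ', h1', h2'⟩ := h' F Q hFc hQc hF hQ
  refine ⟨γ * γ', isOverPt_mul hγ hγ', ?_, ?_⟩
  · rw [mul_hom, mul_hom, Category.assoc, h1, ← Category.assoc, h1', Category.assoc]
  · rw [mul_hom, Category.assoc, h2, h2']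

include hπ hΛi h0 in
/-- Normalised lifts are unique. -/
theorem isNorm_unique {x : T ⟶ A} {β β' : ThetaGrp.thetaPts (A ⊗ A) Λ T} (h : IsNorm Λ x β) (h' : IsNorm Λ x β')
    (hβ : ThetaGrp.IsOverPt β (x ≫ incl A)) (hβ' : ThetaGrp.IsOverPt β' (x ≫ incl A)) : β = β' := by
  obtain ⟨c, rfl⟩ := exists_scal_mul (bijective_snd_tensor hπ) hΛi hβ hβ'
  obtain ⟨F, hFc, hF⟩ := exists_arrow (incl A) (L := ax Λ) (Iso.refl _) T
  obtain ⟨Q, hQc, hQ⟩ := exists_base_arrow h0 T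
  obtain ⟨γ, hγ, h1, h2⟩ := h F Q hFc hQc hF hQ
  obtain ⟨γ', hγ', h1', h2'⟩ := h' F Q hFc hQc hF hQ
  have ho : ThetaGrp.IsOverPt (scal A (ax Λ) T c * γ') x := by
    have h := isOverPt_mul (isOverPt_scal (A := A) (L := ax Λ) c) hγ'
    rwa [_root_.mul_one] at h
  have e : γ = scal A (ax Λ) T c * γ' := Subtype.ext (Iso.ext (fac_unique F (hγ.trans ho.symm) (by
    rw [h1, scal_mul_hom, scal_mul_hom, act_comp, comp_act, hF, appTop_whiskerRight, h1'])))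
  rw [e, scal_mul_hom, act_comp, h2'] at h2
  have hc : up (A := A) T (c : Γ(T.left, ⊤)) = 1 := act_inj
    (Groth.L18.Ample.isInvertible_pullback _ (Groth.L18.Ample.isInvertible_pullback _ hΛi)) Q (h2.trans (act_one Q).symm)
  rw [show c = 1 from Units.ext ((hπ T).1 (hc.trans (map_one _).symm)), map_one, _root_.one_mul]

include hπ hΛi h0 in
/-- Base changes of normalised lifts are normalised. -/
theorem isNorm_bc {x : T ⟶ A} {β : ThetaGrp.thetaPts (A ⊗ A) Λ T} (h : IsNorm Λ x β) (t : T' ⟶ T)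
    {β' : ThetaGrp.thetaPts (A ⊗ A) Λ T'} (hb : ThetaGrp.IsBaseChange β' t β)
    (hβ' : ThetaGrp.IsOverPt β' ((t ≫ x) ≫ incl A)) : IsNorm Λ (t ≫ x) β' := by
  obtain ⟨F, hFc, hF⟩ := exists_arrow (incl A) (L := ax Λ) (Iso.refl _) T
  obtain ⟨Q, hQc, hQ⟩ := exists_base_arrow h0 T
  obtain ⟨γ, hγ, h1, h2⟩ := h F Q hFc hQc hF hQ
  haveI := isCart_bcLift (A := A) (L := ax Λ) t
  haveI := isCart_bcLift (A := A ⊗ A) (L := Λ) t
  haveI := isCart_comp (ThetaGrp.bcLift A (ax Λ) t) F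
  haveI := isCart_comp (ThetaGrp.bcLift A (ax Λ) t) Q
  obtain ⟨F', hF', hF'e, hF'c⟩ := exists_fac (ThetaGrp.bcLift (A ⊗ A) Λ t) (ThetaGrp.bcLift A (ax Λ) t ≫ F)
    (incl A ▷ T').left (by
      rw [CoGrothendieck.categoryStruct_comp_base, hF]
      show _ ≫ ((A ⊗ A) ◁ t).left = (A ◁ t).left ≫ (incl A ▷ T).left
      simp only [← Over.comp_left, whisker_exchange])
  haveI := hF'c inferInstance
  obtain ⟨γ', hγ', hγ'o⟩ := exists_restrict hγ t
  refine isNorm_of hπ hΛi (Q := ThetaGrp.bcLift A (ax Λ) t ≫ Q) hF' (by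
    show (A ◁ t).left ≫ Q.base = _
    rw [hQ, Over.w]) hγ'o ?_ ?_
  · refine fac_unique (ThetaGrp.bcLift (A ⊗ A) Λ t) ?_ ?_
    · show γ'.1.hom.base ≫ F'.base = F'.base ≫ β'.1.hom.base
      rw [show γ'.1.hom.base = _ from hγ'o, show β'.1.hom.base = _ from hβ', hF', ← Over.comp_left, ← Over.comp_left,
        transl_whiskerRight]
    · calc (γ'.1.hom ≫ F') ≫ ThetaGrp.bcLift (A ⊗ A) Λ t
          = γ'.1.hom ≫ ThetaGrp.bcLift A (ax Λ) t ≫ F := by rw [Category.assoc, hF'e]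
        _ = ThetaGrp.bcLift A (ax Λ) t ≫ γ.1.hom ≫ F := by
            rw [← Category.assoc, show γ'.1.hom ≫ _ = _ from hγ', Category.assoc]
        _ = ThetaGrp.bcLift A (ax Λ) t ≫ F ≫ β.1.hom := by rw [h1]
        _ = F' ≫ ThetaGrp.bcLift (A ⊗ A) Λ t ≫ β.1.hom := by rw [← Category.assoc, ← hF'e, Category.assoc]
        _ = (F' ≫ β'.1.hom) ≫ ThetaGrp.bcLift (A ⊗ A) Λ t := by
            rw [← show β'.1.hom ≫ _ = _ from hb, Category.assoc]
  · rw [← Category.assoc, show γ'.1.hom ≫ _ = _ from hγ', Category.assoc, h2]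

section Classes

variable (L : A.left.Modules) (hL : PicF.IsInvertible L) (h1 : PicF.pullCl η[A].left (PicF.cl L) = oneCl _)
  (hΛ : AgPol.IsLambdaSheaf μ[A].left (fst A A).left (snd A A).left L Λ)

include hΛ in
theorem pull_lambda {X : Over S} (p q : X ⟶ A) :
    PicGrp.mulCl (PicGrp.mulCl (PicF.pullCl (lift p q).left (PicF.cl Λ)) (PicF.pullCl p.left (PicF.cl L)))
      (PicF.pullCl q.left (PicF.cl L)) = PicF.pullCl (p * q).left (PicF.cl L) := by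
  obtain ⟨ψ⟩ := hΛ
  have h : PicGrp.mulCl (PicGrp.mulCl (PicF.cl Λ) (PicF.pullCl (fst A A).left (PicF.cl L)))
      (PicF.pullCl (snd A A).left (PicF.cl L)) = PicF.pullCl μ[A].left (PicF.cl L) := (PicGrp.cl_eq_cl_iff _ _).2 ⟨ψ⟩
  have h' := congrArg (PicF.pullCl (lift p q).left) h
  rw [pullCl_mulCl, pullCl_mulCl] at h'
  erw [pullCl_left_comp (lift p q) (fst A A), pullCl_left_comp (lift p q) (snd A A),
    pullCl_left_comp (lift p q) μ[A]] at h'
  rwa [lift_fst, lift_snd, ← Hom.mul_def] at h'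

include hL hΛ h1 hΛi in
theorem pullCl_incl : PicF.pullCl (incl A).left (PicF.cl Λ) = oneCl _ := by
  have hc : PicF.IsInvertibleCl (PicF.cl L) := ⟨L, rfl, hL⟩
  have hl : PicF.IsInvertibleCl (PicF.cl Λ) := ⟨Λ, rfl, hΛi⟩
  have h := pull_lambda L hΛ (𝟙 A) (1 : A ⟶ A)
  rw [_root_.mul_one, KLLib.pullCl_one h1, mul_oneCl] at h
  refine mulCl_right_cancel (PicLoc.isInvertibleCl_pullCl _ hl)
    ⟨Coh.structureModule _, rfl, Groth.L18.Ample.isInvertible_structureModule _⟩ (PicLoc.isInvertibleCl_pullCl (𝟙 A : A ⟶ A).left hc) ?_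
  exact h.trans (oneCl_mul _).symm

variable [IsCommMonObj A]

include hL hΛ hΛi in
/-- Translations by points of `K(L)` fix the bundle. -/
theorem exists_lift {x : T ⟶ A} (hx : KLLib.Inv (PicF.cl L) x) :
    ∃ β : ThetaGrp.thetaPts (A ⊗ A) Λ T, ThetaGrp.IsOverPt β (x ≫ incl A) := by
  have hc : PicF.IsInvertibleCl (PicF.cl L) := ⟨L, rfl, hL⟩
  have hl : PicF.IsInvertibleCl (PicF.cl Λ) := ⟨Λ, rfl, hΛi⟩
  refine KLLib.exists_isOverPt ?_
  let a := fst (A ⊗ A) T ≫ fst A A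
  let b := fst (A ⊗ A) T ≫ snd A A
  let z := snd (A ⊗ A) T ≫ x
  have e1 : fst (A ⊗ A) T * (snd (A ⊗ A) T ≫ x ≫ incl A) = lift (a * z) b := by
    apply CartesianMonoidalCategory.hom_ext
    · simp [a, z, MonObj.mul_comp]
    · simp [b, MonObj.mul_comp]
  have e2 : fst (A ⊗ A) T = lift a b := by apply CartesianMonoidalCategory.hom_ext <;> simp [a, b]
  rw [e1]
  conv_rhs => rw [e2]
  have h := pull_lambda L hΛ (a * z) b
  have h' := pull_lambda L hΛ a b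
  rw [_root_.mul_right_comm, hx.at (a * b) (snd (A ⊗ A) T), hx.at a (snd (A ⊗ A) T), ← h'] at h
  have hP := fun {X : Over S} (p : X ⟶ A) => PicLoc.isInvertibleCl_pullCl p.left hc
  refine mulCl_right_cancel (PicLoc.isInvertibleCl_pullCl _ hl) (PicLoc.isInvertibleCl_pullCl _ hl)
    (isInvertibleCl_mulCl (isInvertibleCl_mulCl (hP a) (hP z)) (hP b)) ?_
  rw [← mulCl_assoc, h]
  simp only [mulCl_assoc]
  rw [mulCl_comm (PicF.pullCl z.left (PicF.cl L))]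

end Classes

variable [IsCommMonObj A] {K : Over S} [GrpObj K] {iK : K ⟶ A} [IsMonHom iK]
  (hK : ∀ (T : Over S) (y : T ⟶ K), ∃ β : ThetaGrp.thetaPts (A ⊗ A) Λ T, ThetaGrp.IsOverPt β ((y ≫ iK) ≫ incl A))
  {G : Over S} [GrpObj G] {u : ThetaGrp.thetaPts (A ⊗ A) Λ G} (hG : ThetaGrp.IsThetaGrpSch (A ⊗ A) Λ G u)

include hπ hΛi h0 hK hG in
/-- The translations by the points of `K` lift to the group scheme. -/
theorem exists_lift_hom : ∃ j : K ⟶ G, IsMonHom j ∧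
    ∀ (T : Over S) (y : T ⟶ K) (β : ThetaGrp.thetaPts (A ⊗ A) Λ T),
      ThetaGrp.IsBaseChange β (y ≫ j) u → ThetaGrp.IsOverPt β ((y ≫ iK) ≫ incl A) ∧ IsNorm Λ (y ≫ iK) β := by
  obtain ⟨b₀, hb₀⟩ := hK K (𝟙 K)
  rw [Category.id_comp] at hb₀
  obtain ⟨c₀, hc₀, hn₀⟩ := exists_isNorm hπ hΛi h0 hb₀
  obtain ⟨j, hj, -⟩ := hG.univ K c₀
  have key : ∀ (T : Over S) (y : T ⟶ K) (β : ThetaGrp.thetaPts (A ⊗ A) Λ T),
      ThetaGrp.IsBaseChange β (y ≫ j) u → ThetaGrp.IsOverPt β ((y ≫ iK) ≫ incl A) ∧ IsNorm Λ (y ≫ iK) β := by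
    intro T y β hβ
    obtain ⟨β', hβ', ho⟩ := exists_restrict hc₀ y
    rw [← Category.assoc] at ho
    have : β = β' := (hG.exists_bc T _).unique hβ
      (isBaseChange_trans (bijective_snd_tensor hπ) hΛi hβ' hj)
    exact this ▸ ⟨ho, isNorm_bc hπ hΛi h0 hn₀ y hβ' ho⟩
  have hmul : ∀ {T : Over S} (n m : T ⟶ K), (n * m) ≫ j = (n ≫ j) * (m ≫ j) := fun {T} n m => by
    obtain ⟨b₁, hb₁, -⟩ := hG.exists_bc T (n ≫ j)
    obtain ⟨b₂, hb₂, -⟩ := hG.exists_bc T (m ≫ j)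
    obtain ⟨o₁, k₁⟩ := key T n b₁ hb₁
    obtain ⟨o₂, k₂⟩ := key T m b₂ hb₂
    obtain ⟨b, hb, -⟩ := hG.exists_bc T ((n * m) ≫ j)
    obtain ⟨o, k⟩ := key T (n * m) b hb
    rw [MonObj.mul_comp n m iK, _root_.mul_comm] at o k
    have ho := isOverPt_mul o₁ o₂
    rw [← MonObj.mul_comp] at ho
    have hp := hG.mul T _ _ _ _ hb₁ hb₂
    rw [← isNorm_unique hπ hΛi h0 k (isNorm_mul k₁ k₂) o ho] at hp
    exact (hG.univ T b).unique hb hp
  refine ⟨j, ?_, key⟩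
  have h1 : (1 : 𝟙_ (Over S) ⟶ K) ≫ j = 1 := by
    have h := hmul (1 : 𝟙_ (Over S) ⟶ K) 1
    rw [_root_.mul_one] at h
    exact left_eq_mul.mp h
  refine ⟨?_, ?_⟩
  · rw [MonObj.one_eq_one, h1, MonObj.one_eq_one]
  · rw [← CartesianMonoidalCategory.lift_fst_comp_snd_comp, MonObj.mul_eq_mul, hmul, Hom.mul_def]

end Groth.Agent.ThetaLambda
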