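/-
Orthogonals for the commutator pairing are closed subgroups, and a self-orthogonal family generates a totally
isotropic subgroup.
-/
import Groth.Agent.L26.KL.Coeff
import Groth.Agent.L26.KL.RankScheme
import Groth.Agent.L08.SubgroupObj

open CategoryTheory CategoryTheory.Limits AlgebraicGeometry TopologicalSpace Opposite
open MonoidalCategory CartesianMonoidalCategory MonObj GrpObj
open Groth.Agent.ThetaPts Groth.Agent.ThetaPairing
open Groth.Agent.ThetaSplit (pl al pl_pl pl_al pl_id IsBas exists_isBas)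

universe u

noncomputable section

namespace Groth.Agent.ThetaOrth

set_option backward.isDefEq.respectTransparency false
set_option linter.style.haveILetI false

variable {k : Type u} [Field k] {A : Over (Spec (CommRingCat.of k))} [GrpObj A] [IsCommMonObj A] {L : A.left.Modules}
  {N : Over (Spec (CommRingCat.of k))} {i : N ⟶ A}

omit [IsCommMonObj A] in
theorem perp_comp {T T' : Over (Spec (CommRingCat.of k))} {z : T ⟶ A} (h : ThetaGrp.IsPerpPt L i z) (g : T' ⟶ T) :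
    ThetaGrp.IsPerpPt L i (g ≫ z) := fun T'' f y β₁ β₂ h₁ h₂ =>
  h T'' (f ≫ g) y β₁ β₂ (by rwa [Category.assoc]) h₂

variable (hπ : ∀ T : Over (Spec (CommRingCat.of k)), Function.Bijective (snd A T).left.appTop)
  (hL : PicF.IsInvertible L)

include hπ hL in
theorem perp_one (T : Over (Spec (CommRingCat.of k))) : ThetaGrp.IsPerpPt L i (1 : T ⟶ A) :=
  fun T' f y β₁ β₂ h₁ h₂ => by
    rw [MonObj.comp_one] at h₁
    exact (isPair_one_left hπ hL (y ≫ i)).commute h₁ h₂

theorem perp_inv {T : Over (Spec (CommRingCat.of k))} {z : T ⟶ A} (h : ThetaGrp.IsPerpPt L i z) :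
    ThetaGrp.IsPerpPt L i z⁻¹ := fun T' f y β₁ β₂ h₁ h₂ => by
  rw [GrpObj.comp_inv] at h₁
  have h' := isOverPt_inv h₁
  rw [_root_.inv_inv] at h'
  have := (show Commute β₁⁻¹ β₂ from h T' f y _ _ h' h₂).inv_left
  rwa [_root_.inv_inv] at this

include hπ hL in
theorem perp_mul (hN : LocLift L i) {T : Over (Spec (CommRingCat.of k))} {z z' : T ⟶ A} (hz : LocLift L z)
    (hz' : LocLift L z') (h : ThetaGrp.IsPerpPt L i z) (h' : ThetaGrp.IsPerpPt L i z') :
    ThetaGrp.IsPerpPt L i (z * z') := fun T' f y β₁ β₂ h₁ h₂ => by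
  have key : ∀ {w : T ⟶ A}, LocLift L w → ThetaGrp.IsPerpPt L i w → IsPair L (f ≫ w) (y ≫ i) 1 := by
    intro w hw hperp
    obtain ⟨c, hc⟩ := exists_isPair hπ hL (hw.comp f) (hN.comp y)
    rwa [hc.eq_one hπ hL (hw.comp f) (hN.comp y) fun T'' g α₁ α₂ o₁ o₂ =>
      hperp T'' (g ≫ f) (g ≫ y) α₁ α₂ (by rwa [Category.assoc]) (by rwa [Category.assoc])] at hc
  have := (key hz h).mul_left hπ hL (hz.comp f) (hz'.comp f) (hN.comp y) (key hz' h')
  rw [_root_.mul_one, ← MonObj.comp_mul] at this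
  exact this.commute h₁ h₂

variable {K : Over (Spec (CommRingCat.of k))} {iK : K ⟶ A} (hK : LocLift L iK)

include hπ hL hK in
theorem perp_iff (e : KLCoeff.Pairing L i iK) (hN : LocLift L i) {T : Over (Spec (CommRingCat.of k))} (x : T ⟶ K) :
    ThetaGrp.IsPerpPt L i (x ≫ iK) ↔
      ∀ (T' : Over (Spec (CommRingCat.of k))) (g : T' ⟶ T) (n : T' ⟶ N), e.ev (g ≫ x) n = 1 := by
  constructor
  · intro h T' g n
    exact (e.isPair (g ≫ x) n).eq_one hπ hL (hK.comp _) (hN.comp n) fun T'' f β₁ β₂ h₁ h₂ =>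
      h T'' (f ≫ g) (f ≫ n) β₁ β₂ (by simpa only [Category.assoc] using h₁) (by simpa only [Category.assoc] using h₂)
  · intro h T' g y β₁ β₂ h₁ h₂
    have := e.isPair (g ≫ x) y
    rw [h T' g y, Category.assoc] at this
    exact this.commute h₁ h₂

include hπ hL hK in
/-- The orthogonal is a closed subscheme. -/
theorem exists_orth (hN : LocLift L i) [IsFinite N.hom] [IsFinite K.hom] :
    ∃ (Z : Over (Spec (CommRingCat.of k))) (j : Z ⟶ K), IsClosedImmersion j.left ∧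
      ∀ (T : Over (Spec (CommRingCat.of k))) (x : T ⟶ K),
        (∃ z : T ⟶ Z, z ≫ j = x) ↔ ThetaGrp.IsPerpPt L i (x ≫ iK) := by
  haveI : IsAffine K.left := KLRank.isAffine_of_finite K
  haveI : IsAffine N.left := KLRank.isAffine_of_finite N
  obtain ⟨e⟩ := KLCoeff.nonempty_pairing hπ hL hN hK
  obtain ⟨d, b, hb, hspan⟩ := exists_isBas N
  obtain ⟨c, hc⟩ := KLCoeff.exists_coeff hb e (𝟙 K)
  obtain ⟨a, ha⟩ := hspan 1
  have hone : ∀ {T : Over (Spec (CommRingCat.of k))} (n : T ⟶ N), (1 : Γ(T.left, ⊤)) = ∑ j, pl n (b j) * al T (a j) :=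
    fun {T} n => by
      have := congrArg (pl n) ha
      simp only [map_one, map_sum, map_mul, pl_al] at this
      exact this.trans (Finset.sum_congr rfl fun j _ => mul_comm _ _)
  have hperp : ∀ (T : Over (Spec (CommRingCat.of k))) (x : T ⟶ K),
      ThetaGrp.IsPerpPt L i (x ≫ iK) ↔ ∀ j, pl x (c j) = al T (a j) := by
    intro T x
    rw [perp_iff hπ hL hK e hN]
    constructor
    · intro h
      have haff : ∀ (U : T.left.affineOpens), ∀ j, pl (opnι T U.1 ≫ x) (c j) = al (opn T U.1) (a j) := by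
        intro U
        haveI : IsAffine (opn T U.1).left := U.2
        haveI : IsAffine (N ⊗ opn T U.1).left := inferInstanceAs (IsAffine (pullback N.hom (opn T U.1).hom))
        have h1 := hc (N ⊗ opn T U.1) (snd _ _ ≫ opnι T U.1 ≫ x) (fst _ _)
        rw [Category.comp_id, ← Category.assoc (snd _ _), h _ (snd _ _ ≫ opnι T U.1) (fst _ _), Units.val_one,
          hone (fst N (opn T U.1))] at h1
        refine congrFun ((hb (opn T U.1) inferInstance).1 (a₁ := fun j => pl (opnι T U.1 ≫ x) (c j)) ?_)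
        simpa only [pl_pl, pl_al, Category.assoc] using h1.symm
      intro j
      refine unit_ext (fun U : T.left.affineOpens => U.1) (fun t => ?_) fun U => ?_
      · obtain ⟨U, hU, htU, -⟩ := exists_isAffineOpen_mem_and_subset (x := t) (U := (⊤ : T.left.Opens)) trivial
        exact ⟨⟨U, hU⟩, htU⟩
      · show pl (opnι T U.1) (pl x (c j)) = pl (opnι T U.1) (al T (a j))
        rw [pl_pl, pl_al, haff U j]
    · intro h T' g n
      refine Units.ext ?_
      rw [← Category.comp_id (g ≫ x), hc, Units.val_one, hone n]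
      refine Finset.sum_congr rfl fun j _ => ?_
      rw [← pl_pl, h j, pl_al]
  let I : Ideal Γ(K.left, ⊤) := Ideal.span (Set.range fun j => c j - al K (a j))
  let φ : Γ(K.left, ⊤) ⟶ CommRingCat.of (Γ(K.left, ⊤) ⧸ I) := CommRingCat.ofHom (Ideal.Quotient.mk I)
  let Z : Over (Spec (CommRingCat.of k)) := Over.mk (Spec.map φ ≫ K.left.isoSpec.inv ≫ K.hom)
  let jZ : Z ⟶ K := Over.homMk (Spec.map φ ≫ K.left.isoSpec.inv) (Category.assoc _ _ _)
  haveI : IsClosedImmersion (Spec.map φ) := IsClosedImmersion.spec_of_surjective _ Ideal.Quotient.mk_surjective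
  refine ⟨Z, jZ, inferInstanceAs (IsClosedImmersion (Spec.map φ ≫ K.left.isoSpec.inv)), fun T x => ?_⟩
  rw [hperp]
  have hker : ∀ r ∈ I, pl jZ r = 0 := fun r hr => by
    show (Spec.map φ ≫ K.left.isoSpec.inv).appTop r = 0
    have h1 : K.left.isoSpec.inv.appTop = (Scheme.ΓSpecIso Γ(K.left, ⊤)).inv := by
      have h0 : K.left.isoSpec.inv.appTop ≫ (Scheme.ΓSpecIso Γ(K.left, ⊤)).hom = 𝟙 _ := by
        have h0' := (Scheme.Hom.comp_appTop K.left.isoSpec.hom K.left.isoSpec.inv).symm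
        rw [Iso.hom_inv_id, Scheme.Hom.id_appTop, Scheme.isoSpec_hom, Scheme.toSpecΓ_appTop] at h0'
        exact h0'
      exact (Iso.comp_hom_eq_id _).1 h0
    rw [Scheme.Hom.comp_appTop, h1, ← Scheme.ΓSpecIso_inv_naturality]
    show (Scheme.ΓSpecIso (CommRingCat.of (Γ(K.left, ⊤) ⧸ I))).inv (Ideal.Quotient.mk I r) = 0
    rw [Ideal.Quotient.eq_zero_iff_mem.2 hr, map_zero]
  constructor
  · rintro ⟨z, rfl⟩ j
    have h0 := hker _ (Ideal.subset_span ⟨j, rfl⟩ : c j - al K (a j) ∈ I)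
    rw [map_sub, pl_al, sub_eq_zero] at h0
    rw [← pl_pl, h0, pl_al]
  · intro h
    have hI : I ≤ RingHom.ker (pl x) := Ideal.span_le.2 (by
      rintro _ ⟨j, rfl⟩
      simp [RingHom.mem_ker, h j, pl_al])
    let l : T.left ⟶ Z.left := T.left.toSpecΓ ≫ Spec.map (CommRingCat.ofHom (Ideal.Quotient.lift I (pl x) hI))
    have hl : l ≫ Spec.map φ ≫ K.left.isoSpec.inv = x.left := by
      rw [Category.assoc, ← Spec.map_comp_assoc, ← Category.assoc, Iso.comp_inv_eq, Scheme.isoSpec_hom,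
        Scheme.toSpecΓ_naturality]
      rfl
    refine ⟨Over.homMk l ?_, Over.OverMorphism.ext hl⟩
    show l ≫ Spec.map φ ≫ K.left.isoSpec.inv ≫ K.hom = T.hom
    rw [← Category.assoc (Spec.map φ), ← Category.assoc, hl, Over.w]

include hπ hL hK in
/-- A self-orthogonal family lies in a totally isotropic closed subgroup. -/
theorem exists_isotropic [IsClosedImmersion iK.left] [IsFinite K.hom]
    (hfac : ∀ {T : Over (Spec (CommRingCat.of k))} (z : T ⟶ A), LocLift L z → ∃ y, y ≫ iK = z)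
    {E : Over (Spec (CommRingCat.of k))} [IsFinite E.hom] (τ : E ⟶ K) (hτ : ThetaGrp.IsIsotropic L (τ ≫ iK)) :
    ∃ (H : Over (Spec (CommRingCat.of k))) (_ : GrpObj H) (iH : H ⟶ A), IsMonHom iH ∧ IsClosedImmersion iH.left ∧
      (∃ y : H ⟶ K, y ≫ iK = iH) ∧ ThetaGrp.IsIsotropic L iH ∧ ∃ t : E ⟶ H, t ≫ iH = τ ≫ iK := by
  have hE : LocLift L (τ ≫ iK) := hK.comp τ
  obtain ⟨C, jC, hjC, hC⟩ := exists_orth hπ hL hK hE
  haveI : IsFinite C.hom := by rw [← Over.w jC]; infer_instance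
  have hCl : LocLift L (jC ≫ iK) := hK.comp jC
  obtain ⟨D, jD, hjD, hD⟩ := exists_orth hπ hL hK hCl
  haveI : IsFinite D.hom := by rw [← Over.w jD]; infer_instance
  let H := pullback jC jD
  have hsq := (IsPullback.of_hasPullback jC jD).map (Over.forget _)
  haveI : IsClosedImmersion (pullback.fst jC jD).left :=
    MorphismProperty.of_isPullback (P := @IsClosedImmersion) hsq.flip hjD
  let iH : H ⟶ A := (pullback.fst jC jD ≫ jC) ≫ iK
  haveI hiH : IsClosedImmersion iH.left :=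
    inferInstanceAs (IsClosedImmersion (((pullback.fst jC jD).left ≫ jC.left) ≫ iK.left))
  haveI : Mono iK := Over.mono_of_mono_left _
  haveI : Mono iH := Over.mono_of_mono_left _
  have hmem : ∀ {T : Over (Spec (CommRingCat.of k))} (z : T ⟶ A), (∃ y : T ⟶ H, y ≫ iH = z) ↔
      LocLift L z ∧ ThetaGrp.IsPerpPt L (τ ≫ iK) z ∧ ThetaGrp.IsPerpPt L (jC ≫ iK) z := by
    intro T z
    constructor
    · rintro ⟨y, rfl⟩
      refine ⟨by simp only [iH, ← Category.assoc]; exact hK.comp _, ?_, ?_⟩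
      · have := (hC T ((y ≫ pullback.fst jC jD) ≫ jC)).1 ⟨_, rfl⟩
        simpa [iH] using this
      · have := (hD T ((y ≫ pullback.snd jC jD) ≫ jD)).1 ⟨_, rfl⟩
        rw [Category.assoc y, ← pullback.condition] at this
        simpa [iH] using this
    · rintro ⟨hz, h1, h2⟩
      obtain ⟨y, rfl⟩ := hfac z hz
      obtain ⟨p, hp⟩ := (hC T y).2 h1
      obtain ⟨q, hq⟩ := (hD T y).2 h2
      exact ⟨pullback.lift p q (hp.trans hq.symm), by simp [iH, reassoc_of% hp]⟩
  have hself : ∀ {T : Over (Spec (CommRingCat.of k))} (y : T ⟶ H), LocLift L (y ≫ iH) ∧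
      ThetaGrp.IsPerpPt L (τ ≫ iK) (y ≫ iH) ∧ ThetaGrp.IsPerpPt L (jC ≫ iK) (y ≫ iH) := fun y => (hmem _).1 ⟨y, rfl⟩
  obtain ⟨inst, hmon⟩ : ∃ _ : GrpObj H, IsMonHom iH := by
    refine Groth.L08.exists_grpObj_of_mono iH ?_ ?_ ?_
    · refine (hmem (1 : 𝟙_ _ ⟶ A)).2 ⟨LocLift.one, perp_one hπ hL _, perp_one hπ hL _⟩ |>.imp fun y hy => hy.trans ?_
      rw [Hom.one_def, toUnit_unique (toUnit (𝟙_ (Over (Spec (CommRingCat.of k))))) (𝟙 _), Category.id_comp]
    · obtain ⟨a1, a2, a3⟩ := hself (fst H H)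
      obtain ⟨b1, b2, b3⟩ := hself (snd H H)
      exact (hmem _).2 ⟨a1.mul b1, perp_mul hπ hL hE a1 b1 a2 b2, perp_mul hπ hL hCl a1 b1 a3 b3⟩
    · obtain ⟨a1, a2, a3⟩ := hself (𝟙 H)
      rw [Category.id_comp] at a1 a2 a3
      exact (hmem _).2 ⟨a1.inv, perp_inv a2, perp_inv a3⟩
  refine ⟨H, inst, iH, hmon, hiH, ⟨_, rfl⟩, fun T x y β₁ β₂ h₁ h₂ => ?_, ?_⟩
  · exact (hself x).2.2 T (𝟙 T) (y ≫ pullback.fst jC jD) β₁ β₂ (by rwa [Category.id_comp])
      (by simpa [iH] using h₂)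
  · refine (hmem _).2 ⟨hE, fun T f y β₁ β₂ h₁ h₂ => hτ T f y β₁ β₂ h₁ h₂, fun T f y β₁ β₂ h₁ h₂ => ?_⟩
    exact ((hC T (y ≫ jC)).1 ⟨y, rfl⟩ T (𝟙 T) f β₂ β₁ (by rwa [Category.id_comp, Category.assoc]) h₁).symm

end Groth.Agent.ThetaOrth
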