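/-
A nontrivial finite K(L) has a nontrivial self-orthogonal family: a rational point or a tangent vector.
-/
import Groth.Agent.L26.KL.RankScheme
import Groth.Agent.L26.Theta.Rep
import Groth.Agent.L26.Theta.AbVar
import Groth.Agent.S19948
import Mathlib.Algebra.DualNumber
import Mathlib.RingTheory.Jacobson.Ideal
import Mathlib.LinearAlgebra.Dual.Lemmas
import Mathlib.FieldTheory.IsAlgClosed.Basic

open CategoryTheory CategoryTheory.Limits AlgebraicGeometry TopologicalSpace Opposite
open MonoidalCategory CartesianMonoidalCategory MonObj GrpObj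
open Groth.Agent.ThetaPts Groth.Agent.ThetaPairing
open Groth.Agent.ThetaRep (rb rb_spec rb_eq rb_mul rb_scal rb_comp isOverPt_rb)
open Groth.Agent.ThetaSplit (pl al pl_pl pl_al pl_id IsBas exists_isBas)

universe u

noncomputable section

namespace Groth.Agent.ThetaTangent

set_option backward.isDefEq.respectTransparency false
set_option linter.style.haveILetI false

variable {k : Type u} [Field k]

/-- The dual numbers over the field, as a scheme. -/
abbrev eps : Over (Spec (CommRingCat.of k)) :=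
  Over.mk (Spec.map (CommRingCat.ofHom (algebraMap k (DualNumber k))))

instance : Module.Finite k (DualNumber k) :=
  Module.Finite.equiv (LinearEquiv.refl k (k × k) : (k × k) ≃ₗ[k] DualNumber k)

instance : IsFinite (eps (k := k)).hom :=
  (IsFinite.SpecMap_iff _).2 (RingHom.finite_algebraMap.2 inferInstance)

/-- The functions on the dual numbers. -/
def fn : DualNumber k →+* Γ((eps (k := k)).left, ⊤) := (Scheme.ΓSpecIso (CommRingCat.of (DualNumber k))).inv.hom

theorem fn_bijective : Function.Bijective (fn (k := k)) := ConcreteCategory.bijective_of_isIso _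

theorem fn_algebraMap (t : k) : fn (algebraMap k (DualNumber k) t) = al (eps (k := k)) t :=
  congr($(Scheme.ΓSpecIso_inv_naturality (CommRingCat.ofHom (algebraMap k (DualNumber k)))).hom t)

theorem exists_fn (r : Γ((eps (k := k)).left, ⊤)) :
    ∃ a b : k, r = al eps a + al eps b * fn DualNumber.eps := by
  obtain ⟨z, rfl⟩ := fn_bijective.2 r
  refine ⟨z.fst, z.snd, ?_⟩
  rw [← fn_algebraMap, ← fn_algebraMap, ← map_mul, ← map_add]
  congr 1
  ext <;> simp [TrivSqZeroExt.algebraMap_eq_inl]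

theorem fn_eq_iff {a b a' b' : k} (h : al eps a + al eps b * fn DualNumber.eps =
    al eps a' + al eps b' * fn (k := k) DualNumber.eps) : b = b' := by
  rw [← fn_algebraMap, ← fn_algebraMap, ← fn_algebraMap, ← fn_algebraMap, ← map_mul, ← map_add, ← map_mul,
    ← map_add] at h
  simpa [TrivSqZeroExt.algebraMap_eq_inl] using congrArg TrivSqZeroExt.snd (fn_bijective.1 h)

theorem isReduced_unit : _root_.IsReduced Γ((𝟙_ (Over (Spec (CommRingCat.of k)))).left, ⊤) :=
  isReduced_of_injective (Scheme.ΓSpecIso (CommRingCat.of k)).commRingCatIsoToRingEquiv.toRingHom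
    (Scheme.ΓSpecIso (CommRingCat.of k)).commRingCatIsoToRingEquiv.injective

/-- The functions on the square of the dual numbers. -/
theorem exists_fn₂ (z : Γ((eps (k := k) ⊗ eps).left, ⊤)) :
    ∃ a b c d : k, z = al (eps ⊗ eps) a + al (eps ⊗ eps) b * pl (fst eps eps) (fn DualNumber.eps) +
      al (eps ⊗ eps) c * pl (snd eps eps) (fn DualNumber.eps) +
      al (eps ⊗ eps) d * (pl (fst eps eps) (fn DualNumber.eps) * pl (snd eps eps) (fn DualNumber.eps)) := by
  haveI : IsAffine (eps (k := k)).left := inferInstanceAs (IsAffine (Spec (CommRingCat.of (DualNumber k))))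
  obtain ⟨m, e, he, -⟩ := exists_isBas (eps (k := k))
  obtain ⟨q, rfl⟩ := (he eps inferInstance).2 z
  choose p p' hp using fun j => exists_fn (e j)
  choose r r' hr using fun j => exists_fn (q j)
  refine ⟨∑ j, p j * r j, ∑ j, p' j * r j, ∑ j, p j * r' j, ∑ j, p' j * r' j, ?_⟩
  simp only [map_sum, map_mul, Finset.sum_mul, ← Finset.sum_add_distrib]
  refine Finset.sum_congr rfl fun j _ => ?_
  rw [hp j, hr j]
  simp only [map_add, map_mul, pl_al]
  ring

theorem subsingleton_eps₂ : Subsingleton ((eps (k := k)) ⊗ eps).left := by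
  haveI : IsAffine (eps (k := k)).left := inferInstanceAs (IsAffine (Spec (CommRingCat.of (DualNumber k))))
  haveI : IsAffine ((eps (k := k)) ⊗ eps).left := inferInstanceAs (IsAffine (pullback (eps (k := k)).hom eps.hom))
  haveI : Subsingleton (PrimeSpectrum Γ(((eps (k := k)) ⊗ eps).left, ⊤)) := by
    refine ⟨fun P Q => PrimeSpectrum.ext ?_⟩
    have h0 : fn (k := k) DualNumber.eps * fn DualNumber.eps = 0 := by
      rw [← map_mul, DualNumber.eps_mul_eps, map_zero]
    have hn : ∀ (P : PrimeSpectrum Γ(((eps (k := k)) ⊗ eps).left, ⊤)) (g : eps ⊗ eps ⟶ eps),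
        pl g (fn DualNumber.eps) ∈ P.asIdeal := fun P g =>
      (P.2.mem_or_mem (show pl g (fn DualNumber.eps) * pl g (fn DualNumber.eps) ∈ P.asIdeal by
        rw [← map_mul, h0, map_zero]; exact P.asIdeal.zero_mem)).elim id id
    have key : ∀ (P Q : PrimeSpectrum Γ(((eps (k := k)) ⊗ eps).left, ⊤)), P.asIdeal ≤ Q.asIdeal := fun P Q z hz => by
      obtain ⟨a, b, c, d, rfl⟩ := exists_fn₂ z
      have hrest : ∀ R : PrimeSpectrum Γ(((eps (k := k)) ⊗ eps).left, ⊤),
          al (eps ⊗ eps) b * pl (fst eps eps) (fn DualNumber.eps) +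
            al (eps ⊗ eps) c * pl (snd eps eps) (fn DualNumber.eps) +
            al (eps ⊗ eps) d * (pl (fst eps eps) (fn DualNumber.eps) * pl (snd eps eps) (fn DualNumber.eps)) ∈
            R.asIdeal := fun R =>
        R.asIdeal.add_mem (R.asIdeal.add_mem (R.asIdeal.mul_mem_left _ (hn R _)) (R.asIdeal.mul_mem_left _ (hn R _)))
          (R.asIdeal.mul_mem_left _ (R.asIdeal.mul_mem_right _ (hn R _)))
      have ha : a = 0 := by
        by_contra ha
        refine P.2.ne_top (Ideal.eq_top_of_isUnit_mem _ ((Ideal.add_mem_iff_left _ (hrest P)).1 ?_)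
          ((isUnit_iff_ne_zero.2 ha).map (al (eps ⊗ eps))))
        simpa only [add_assoc] using hz
      rw [ha, map_zero, zero_add]
      exact hrest Q
    exact le_antisymm (key P Q) (key Q P)
  haveI : Subsingleton ↥(Spec Γ(((eps (k := k)) ⊗ eps).left, ⊤)) :=
    inferInstanceAs (Subsingleton (PrimeSpectrum Γ(((eps (k := k)) ⊗ eps).left, ⊤)))
  exact ((eps (k := k)) ⊗ eps).left.isoSpec.hom.homeomorph.toEquiv.subsingleton

variable {A : Over (Spec (CommRingCat.of k))} [GrpObj A] [IsCommMonObj A] [IsProper A.hom] [GeometricallyIntegral A.hom]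
  {L : A.left.Modules}

/-- A tangent vector commutes with itself. -/
theorem isIsotropic_tangent (hL : PicF.IsInvertible L) {K : Over (Spec (CommRingCat.of k))} {iK : K ⟶ A}
    (hK : ThetaGrp.IsKL A L iK) (τ : eps ⟶ K) (o : 𝟙_ _ ⟶ eps) (ho : o ≫ τ ≫ iK = 1) :
    ThetaGrp.IsIsotropic L (τ ≫ iK) := by
  have hπ := fun T => ThetaAV.bijective_snd (A := A) T
  haveI : IsClosedImmersion iK.left := hK.closed
  haveI : Mono iK := Over.mono_of_mono_left _
  obtain ⟨G, _, v, hG⟩ := ThetaRep.exists_isThetaGrpSch hπ hL iK fun T x => ThetaAV.locLift_iff L hL iK hK x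
  haveI := Groth.Agent.S19948.discreteTopology_of_isFinite (eps (k := k)).hom
  obtain ⟨β, hβ⟩ := Groth.Agent.S19948.exists_lift_of_KL hL hK (x := τ ≫ iK) ⟨τ, rfl⟩
  let β₁ : ThetaGrp.thetaPts A L (eps (k := k) ⊗ eps) := rb (fst _ _) β
  let β₂ : ThetaGrp.thetaPts A L (eps (k := k) ⊗ eps) := rb (snd _ _) β
  let s : (eps (k := k) ⊗ eps) ⟶ (eps (k := k) ⊗ eps) := lift (snd _ _) (fst _ _)
  let z₀ : eps ⟶ eps (k := k) := toUnit eps ≫ o
  let l : eps ⟶ (eps (k := k) ⊗ eps) := lift (𝟙 _) z₀
  let l' : eps ⟶ (eps (k := k) ⊗ eps) := lift z₀ (𝟙 _)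
  obtain ⟨g, hg, -⟩ := hG.univ (eps (k := k) ⊗ eps) (β₁ * β₂)
  have hz : ThetaGrp.IsOverPt (rb z₀ β) 1 := by
    have := isOverPt_rb z₀ hβ
    rwa [Category.assoc, ho, MonObj.comp_one] at this
  have hax : l ≫ g = l' ≫ g := by
    refine (hG.univ eps (rb l (β₁ * β₂))).unique (y₁ := l ≫ g) (y₂ := l' ≫ g) ?_ ?_
    · rw [← rb_eq hg, ← rb_comp hπ hL]
      exact rb_spec _ _
    · have e : rb l (β₁ * β₂) = rb l' (β₁ * β₂) := by
        simp only [β₁, β₂, rb_mul, ← rb_comp hπ hL, l, l', lift_fst, lift_snd, ThetaRep.rb_id hπ hL]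
        obtain ⟨c, hc⟩ := exists_scal_mul hπ hL hz isOverPt_one
        rw [hc, _root_.mul_one]
        exact (scal_comm _ _).symm
      rw [e, ← rb_eq hg, ← rb_comp hπ hL]
      exact rb_spec _ _
  -- the classifying point is symmetric
  haveI := subsingleton_eps₂ (k := k)
  haveI : IsAffine (eps (k := k)).left := inferInstanceAs (IsAffine (Spec (CommRingCat.of (DualNumber k))))
  haveI : IsAffine (eps (k := k) ⊗ eps).left := inferInstanceAs (IsAffine (pullback (eps (k := k)).hom eps.hom))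
  have hsg : s ≫ g = g := by
    refine Over.OverMorphism.ext ?_
    show s.left ≫ g.left = g.left
    by_cases hne : Nonempty (eps (k := k) ⊗ eps).left
    · obtain ⟨t⟩ := hne
      obtain ⟨U, hU, htU, -⟩ := exists_isAffineOpen_mem_and_subset (x := g.left t) (U := (⊤ : G.left.Opens)) trivial
      haveI : IsAffine U.toScheme := hU
      let g' := IsOpenImmersion.lift U.ι g.left (by
        rintro _ ⟨t', rfl⟩
        rw [Scheme.Opens.range_ι, Subsingleton.elim t' t]
        exact htU)
      have hg' : g' ≫ U.ι = g.left := IsOpenImmersion.lift_fac _ _ _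
      have hll : l.left ≫ g' = l'.left ≫ g' := by
        rw [← cancel_mono U.ι, Category.assoc, Category.assoc, hg', ← Over.comp_left, ← Over.comp_left, hax]
      rw [← hg', ← Category.assoc]
      refine congrArg (· ≫ U.ι) (ext_of_isAffine (CommRingCat.hom_ext (RingHom.ext fun r => ?_)))
      have h1 := congr($(congrArg Scheme.Hom.appTop hll).hom r)
      rw [Scheme.Hom.comp_appTop, Scheme.Hom.comp_appTop] at h1
      change pl l (g'.appTop r) = pl l' (g'.appTop r) at h1
      rw [Scheme.Hom.comp_appTop]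
      show pl s (g'.appTop r) = g'.appTop r
      obtain ⟨a, b, c, d, hr⟩ := exists_fn₂ (g'.appTop r)
      have h0 : pl z₀ (fn (k := k) DualNumber.eps) = 0 := by
        have hsq : pl o (fn (k := k) DualNumber.eps) = 0 := by
          haveI := isReduced_unit (k := k)
          refine eq_zero_of_pow_eq_zero (n := 2) ?_
          rw [pow_two, ← map_mul, ← map_mul, DualNumber.eps_mul_eps, map_zero, map_zero]
        rw [← pl_pl, hsq, map_zero]
      rw [hr] at h1 ⊢
      simp only [map_add, map_mul, pl_al, pl_pl, l, l', lift_fst, lift_snd, pl_id, h0, mul_zero, zero_mul,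
        add_zero] at h1
      have hbc : b = c := fn_eq_iff h1
      subst hbc
      simp only [map_add, map_mul, pl_al, pl_pl, s, lift_fst, lift_snd]
      ring
    · haveI := not_nonempty_iff.1 hne
      exact isInitialOfIsEmpty.hom_ext _ _
  have hcomm : β₁ * β₂ = β₂ * β₁ := by
    have h1 : rb s (β₁ * β₂) = β₁ * β₂ := by rw [← rb_eq hg, ← rb_comp hπ hL, hsg]
    simp only [β₁, β₂, rb_mul, ← rb_comp hπ hL, s, lift_fst, lift_snd] at h1 ⊢
    exact h1.symm
  intro T x y γ₁ γ₂ h₁ h₂
  have k₁ := isOverPt_rb (lift x y) (isOverPt_rb (fst eps eps) hβ)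
  have k₂ := isOverPt_rb (lift x y) (isOverPt_rb (snd eps eps) hβ)
  rw [← Category.assoc, lift_fst] at k₁
  rw [← Category.assoc, lift_snd] at k₂
  exact commute_congr hπ hL k₁ k₂ h₁ h₂ (by rw [← rb_mul, ← rb_mul]; exact congrArg _ hcomm)

/-- A nontrivial finite `K(L)` has a nontrivial self-orthogonal family. -/
theorem exists_self_orth [IsAlgClosed k] (hL : PicF.IsInvertible L) {K : Over (Spec (CommRingCat.of k))} {iK : K ⟶ A}
    (hK : ThetaGrp.IsKL A L iK) [IsFinite K.hom] (hne : iK ≠ 1) :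
    ∃ (E : Over (Spec (CommRingCat.of k))) (_ : IsFinite E.hom) (τ : E ⟶ K),
      ThetaGrp.IsIsotropic L (τ ≫ iK) ∧ τ ≫ iK ≠ 1 := by
  have hπ := fun T => ThetaAV.bijective_snd (A := A) T
  haveI : IsClosedImmersion iK.left := hK.closed
  haveI : Mono iK := Over.mono_of_mono_left _
  by_cases hpt : ∀ a : 𝟙_ _ ⟶ K, a ≫ iK = 1
  swap
  · push_neg at hpt
    obtain ⟨a, ha⟩ := hpt
    refine ⟨𝟙_ _, inferInstanceAs (IsFinite (𝟙 _)), a, fun T x y β₁ β₂ h₁ h₂ => ?_, ha⟩
    rw [toUnit_unique y x] at h₂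
    obtain ⟨c, rfl⟩ := exists_scal_mul hπ hL h₁ h₂
    rw [_root_.mul_assoc, ← _root_.mul_assoc β₂, ← scal_comm, _root_.mul_assoc]
  haveI : IsAffine K.left := KLRank.isAffine_of_finite K
  letI := KLRank.gamma K
  haveI : Module.Finite k Γ(K.left, ⊤) := KLRank.finite_al K
  haveI : IsArtinianRing Γ(K.left, ⊤) := IsArtinianRing.of_finite k _
  -- morphisms given by algebra homomorphisms
  have hKhom : K.left.isoSpec.hom ≫ Spec.map (CommRingCat.ofHom (algebraMap k Γ(K.left, ⊤))) = K.hom := by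
    show K.left.isoSpec.hom ≫ Spec.map ((Scheme.ΓSpecIso (CommRingCat.of k)).inv ≫ K.hom.appTop) = K.hom
    rw [Spec.map_comp, Scheme.isoSpec_hom_naturality_assoc]
    simp [Scheme.isoSpec_Spec_hom, ← Spec.map_comp]
  have hover : ∀ {S : Type u} [CommRing S] [Algebra k S] (φ : Γ(K.left, ⊤) →ₐ[k] S),
      (Spec.map (CommRingCat.ofHom φ.toRingHom) ≫ K.left.isoSpec.inv) ≫ K.hom =
        Spec.map (CommRingCat.ofHom (algebraMap k S)) := fun {S} _ _ φ => by
    rw [Category.assoc, ← hKhom, Iso.inv_hom_id_assoc, ← Spec.map_comp]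
    congr 1
    ext t
    exact φ.commutes t
  let pt : (Γ(K.left, ⊤) →ₐ[k] k) → (𝟙_ (Over (Spec (CommRingCat.of k))) ⟶ K) := fun φ =>
    Over.homMk (Spec.map (CommRingCat.ofHom φ.toRingHom) ≫ K.left.isoSpec.inv) ((hover φ).trans (Spec.map_id _))
  have hptinj : Function.Injective pt := fun φ φ' h => by
    have h' := (cancel_mono K.left.isoSpec.inv).1 (congrArg CommaMorphism.left h)
    exact AlgHom.coe_ringHom_injective (congrArg CommRingCat.Hom.hom (Spec.map_injective h'))
  obtain ⟨y₁, hy₁⟩ := (ThetaAV.locLift_iff L hL iK hK (1 : 𝟙_ _ ⟶ A)).2 LocLift.one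
  -- the augmentation
  let εr : Γ(K.left, ⊤) →+* k :=
    (Scheme.ΓSpecIso (CommRingCat.of k)).hom.hom.comp y₁.left.appTop.hom
  have hεc : ∀ t : k, εr (algebraMap k Γ(K.left, ⊤) t) = t := fun t => by
    show (Scheme.ΓSpecIso (CommRingCat.of k)).hom (pl y₁ (al K t)) = t
    rw [pl_al]
    show ((Scheme.ΓSpecIso (CommRingCat.of k)).inv ≫ Scheme.Hom.appTop (𝟙 _) ≫
      (Scheme.ΓSpecIso (CommRingCat.of k)).hom) t = t
    simp
  let ε : Γ(K.left, ⊤) →ₐ[k] k := { εr with commutes' := hεc }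
  have huniq : ∀ φ : Γ(K.left, ⊤) →ₐ[k] k, φ = ε := fun φ =>
    hptinj ((cancel_mono iK).1 ((hpt _).trans (hpt _).symm))
  let m : Ideal Γ(K.left, ⊤) := RingHom.ker ε.toRingHom
  haveI hmmax : m.IsMaximal := RingHom.ker_isMaximal_of_surjective _ fun t => ⟨_, hεc t⟩
  have hmonly : ∀ P : Ideal Γ(K.left, ⊤), P.IsMaximal → P = m := fun P hP => by
    haveI := hP
    letI := Ideal.Quotient.field P
    have hbij : Function.Bijective (algebraMap k (Γ(K.left, ⊤) ⧸ P)) :=
      IsAlgClosed.algebraMap_bijective_of_isIntegral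
    let φ : Γ(K.left, ⊤) →ₐ[k] k :=
      ((AlgEquiv.ofBijective (Algebra.ofId k (Γ(K.left, ⊤) ⧸ P)) hbij).symm : _ →ₐ[k] k).comp (Ideal.Quotient.mkₐ k P)
    refine hP.eq_of_le hmmax.ne_top fun r hr => ?_
    show ε r = 0
    rw [← huniq φ]
    show (AlgEquiv.ofBijective (Algebra.ofId k (Γ(K.left, ⊤) ⧸ P)) hbij).symm (Ideal.Quotient.mk P r) = 0
    rw [Ideal.Quotient.eq_zero_iff_mem.2 hr, map_zero]
  have hjac : m ≤ Ideal.jacobson ⊥ := le_sInf fun P hP => (hmonly P hP.2).ge
  have hpt_ε : ∀ r, r - algebraMap k _ (ε r) ∈ m := fun r => by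
    show ε (r - algebraMap k _ (ε r)) = 0
    rw [map_sub, ε.commutes]; exact sub_self _
  have hyε : pt ε = y₁ := (cancel_mono iK).1 ((hpt _).trans hy₁.symm)
  obtain ⟨a, ham, ha⟩ : ∃ a ∈ m, a ∉ m * m := by
    by_contra hcon
    push_neg at hcon
    have hbot : m = ⊥ := Submodule.eq_bot_of_le_smul_of_le_jacobson_bot m m (IsNoetherian.noetherian m) hcon hjac
    have hid : toUnit K ≫ y₁ = 𝟙 K := by
      refine Over.OverMorphism.ext (ext_of_isAffine (CommRingCat.hom_ext (RingHom.ext fun r => ?_)))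
      show pl (toUnit K ≫ y₁) r = r
      have hr : r = al K (ε r) := sub_eq_zero.1 (by have := hpt_ε r; rwa [hbot, Ideal.mem_bot] at this)
      rw [hr, pl_al]
    exact hne (by rw [← Category.id_comp iK, ← hid, Category.assoc, hy₁, MonObj.comp_one])
  let W : Submodule k Γ(K.left, ⊤) := (m * m).restrictScalars k ⊔ Submodule.span k {1}
  have haW : a ∉ W := fun h => by
    obtain ⟨w, hw, t, ht, rfl⟩ := Submodule.mem_sup.1 h
    obtain ⟨c, rfl⟩ := Submodule.mem_span_singleton.1 ht
    have hc : c = 0 := by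
      have h1 : ε (w + c • 1) = 0 := ham
      rwa [map_add, show ε w = 0 from (Ideal.mul_le_left : m * m ≤ m) hw, zero_add, map_smul, map_one, smul_eq_mul,
        _root_.mul_one] at h1
    rw [hc, zero_smul, add_zero] at ha
    exact ha hw
  obtain ⟨δ₀, hδa, hδW⟩ := Submodule.exists_dual_map_eq_bot_of_notMem haW inferInstance
  have hδ0 : ∀ r ∈ W, δ₀ r = 0 := fun r hr => by
    have := Submodule.mem_map_of_mem (f := δ₀) hr
    rwa [hδW, Submodule.mem_bot] at this
  have hleib : ∀ r s, δ₀ (r * s) = ε r * δ₀ s + ε s * δ₀ r := fun r s => by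
    have h := hδ0 _ (Submodule.mem_sup_left (Ideal.mul_mem_mul (hpt_ε r) (hpt_ε s)))
    rw [sub_mul, mul_sub, mul_sub, ← map_mul, mul_comm r (algebraMap k _ (ε s)), ← Algebra.smul_def,
      ← Algebra.smul_def, map_sub, map_sub, map_sub, map_smul, map_smul, smul_eq_mul, smul_eq_mul] at h
    have h1 : δ₀ (algebraMap k Γ(K.left, ⊤) (ε r * ε s)) = 0 := by
      rw [Algebra.algebraMap_eq_smul_one, map_smul, hδ0 1 (Submodule.mem_sup_right (Submodule.subset_span rfl)),
        smul_zero]
    rw [h1] at h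
    linear_combination h
  have hδ1 : δ₀ 1 = 0 := hδ0 1 (Submodule.mem_sup_right (Submodule.subset_span rfl))
  let φ : Γ(K.left, ⊤) →ₐ[k] DualNumber k :=
    { toFun := fun r => TrivSqZeroExt.inl (ε r) + TrivSqZeroExt.inr (δ₀ r)
      map_one' := by
        rw [map_one, hδ1, TrivSqZeroExt.inr_zero, add_zero]
        rfl
      map_mul' := fun r s => by
        refine TrivSqZeroExt.ext ?_ ?_
        · simp only [TrivSqZeroExt.fst_mul, TrivSqZeroExt.fst_add, TrivSqZeroExt.fst_inl, TrivSqZeroExt.fst_inr,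
            add_zero, map_mul]
        · simp only [TrivSqZeroExt.snd_mul, TrivSqZeroExt.fst_add, TrivSqZeroExt.snd_add, TrivSqZeroExt.fst_inl,
            TrivSqZeroExt.fst_inr, TrivSqZeroExt.snd_inl, TrivSqZeroExt.snd_inr, add_zero, zero_add,
            MulOpposite.smul_eq_mul_unop, MulOpposite.unop_op, smul_eq_mul]
          rw [hleib, mul_comm (ε s) (δ₀ r)]
      map_zero' := by rw [map_zero, map_zero, TrivSqZeroExt.inl_zero, TrivSqZeroExt.inr_zero, add_zero]
      map_add' := fun r s => by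
        rw [map_add, map_add, TrivSqZeroExt.inl_add, TrivSqZeroExt.inr_add]
        abel
      commutes' := fun t => by
        rw [ε.commutes, Algebra.algebraMap_eq_smul_one (A := Γ(K.left, ⊤)) t, map_smul, hδ1, smul_zero,
          TrivSqZeroExt.inr_zero, add_zero, TrivSqZeroExt.algebraMap_eq_inl]
        rfl }
  let τ : eps (k := k) ⟶ K := Over.homMk (Spec.map (CommRingCat.ofHom φ.toRingHom) ≫ K.left.isoSpec.inv) (hover φ)
  let o : 𝟙_ (Over (Spec (CommRingCat.of k))) ⟶ eps (k := k) :=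
    Over.homMk (Spec.map (CommRingCat.ofHom (TrivSqZeroExt.fstHom k k k).toRingHom)) (by
      show Spec.map _ ≫ Spec.map _ = 𝟙 _
      rw [← Spec.map_comp, ← Spec.map_id]
      congr 1)
  refine ⟨eps, inferInstance, τ, isIsotropic_tangent hL hK τ o (by rw [← Category.assoc]; exact hpt _), fun h => ?_⟩
  have h' : τ = toUnit eps ≫ y₁ := (cancel_mono iK).1 (by rw [h, Category.assoc, hy₁, MonObj.comp_one])
  rw [← hyε] at h'
  have h'' : Spec.map (CommRingCat.ofHom φ.toRingHom) =
      Spec.map (CommRingCat.ofHom ((algebraMap k (DualNumber k)).comp ε.toRingHom)) := by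
    rw [← cancel_mono K.left.isoSpec.inv, show CommRingCat.ofHom ((algebraMap k (DualNumber k)).comp ε.toRingHom) =
      CommRingCat.ofHom ε.toRingHom ≫ CommRingCat.ofHom (algebraMap k (DualNumber k)) from rfl, Spec.map_comp,
      Category.assoc]
    exact congrArg CommaMorphism.left h'
  have hA' := congrArg (fun f : Γ(K.left, ⊤) ⟶ CommRingCat.of (DualNumber k) => TrivSqZeroExt.snd (f a))
    (Spec.map_injective h'')
  simp [φ, TrivSqZeroExt.algebraMap_eq_inl, show ε a = 0 from ham] at hA'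
  exact hδa hA'

end Groth.Agent.ThetaTangent
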