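/-
Maximal totally isotropic subgroups of K(L).
-/
import Groth.Agent.L26.Theta.Orth
import Groth.Agent.L26.Theta.Tangent
import Groth.Agent.L26.Theta.QuotAV
import Groth.Agent.L26.KL.RankAlg
import Groth.Agent.L26.KL.Bound
import Groth.Agent.L26.KL.Exists
import Groth.Agent.L15.KerFlat.Basic
import Groth.Agent.S19773
import Groth.Agent.S3030
import Groth.Agent.S1843

open CategoryTheory CategoryTheory.Limits AlgebraicGeometry TopologicalSpace Opposite
open MonoidalCategory CartesianMonoidalCategory MonObj GrpObj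
open Groth.Agent.ThetaPts Groth.Agent.ThetaPairing Groth.Agent.ThetaPull
open Groth.Agent.ThetaSplit (pl al pl_pl pl_al pl_id IsBas exists_isBas)
open scoped TensorProduct

universe u

noncomputable section

namespace Groth.Agent.ThetaMax

set_option backward.isDefEq.respectTransparency false
set_option linter.style.haveILetI false

variable {k : Type u} [Field k]

/-- A finite scheme whose pairing with another has the given kernel has rank at most the rank of the kernel times the
number of independent coefficients. -/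
theorem finrank_le_span {A : Over (Spec (CommRingCat.of k))} [GrpObj A] [IsCommMonObj A] {L : A.left.Modules}
    (hπ : ∀ T : Over (Spec (CommRingCat.of k)), Function.Bijective (snd A T).left.appTop) (hL : PicF.IsInvertible L)
    {K : Over (Spec (CommRingCat.of k))} {iK : K ⟶ A} [Mono iK] [IsFinite K.hom]
    (hfac : ∀ {T : Over (Spec (CommRingCat.of k))} {z : T ⟶ A}, (∃ y : T ⟶ K, y ≫ iK = z) ↔ LocLift L z)
    {N : Over (Spec (CommRingCat.of k))} {i : N ⟶ A} [IsFinite N.hom] (hN : LocLift L i)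
    {d : ℕ} {b : Fin d → Γ(N.left, ⊤)} (hb : IsBas N b) (e : KLCoeff.Pairing L i iK)
    {P : Over (Spec (CommRingCat.of k))} (iP : P ⟶ A) [Mono iP] [IsFinite P.hom]
    (hP : ∀ (T : Over (Spec (CommRingCat.of k))) (z : T ⟶ A),
      (∃ p : T ⟶ P, p ≫ iP = z) ↔ LocLift L z ∧ ThetaGrp.IsPerpPt L i z)
    (c : Fin d → Γ(K.left, ⊤)) (V : letI := KLRank.gamma K; Subalgebra k Γ(K.left, ⊤))
    (hc : ∀ (T' : Over (Spec (CommRingCat.of k))) (g : T' ⟶ K) (n : T' ⟶ N),
      ((e.ev (g ≫ 𝟙 K) n : Γ(T'.left, ⊤)ˣ) : Γ(T'.left, ⊤)) = ∑ j, pl n (b j) * pl g (c j))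
    (hV : letI := KLRank.gamma K; V.toSubmodule = Submodule.span k (Set.range c)) :
    letI := KLRank.gamma K
    letI := KLRank.gamma P
    Module.finrank k Γ(K.left, ⊤) ≤ Module.finrank k Γ(P.left, ⊤) * Module.finrank k V := by
  letI := KLRank.gamma K
  letI := KLRank.gamma P
  haveI : Module.Finite k Γ(K.left, ⊤) := KLRank.finite_al K
  haveI : Module.Finite k Γ(P.left, ⊤) := KLRank.finite_al P
  haveI : IsAffine K.left := KLRank.isAffine_of_finite K
  haveI : IsAffine P.left := KLRank.isAffine_of_finite P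
  have hKloc : LocLift L iK := hfac.1 ⟨𝟙 K, Category.id_comp _⟩
  have hself := fun {T : Over (Spec (CommRingCat.of k))} (p : T ⟶ P) => (hP T (p ≫ iP)).1 ⟨p, rfl⟩
  have hfwd : ∀ {T : Over (Spec (CommRingCat.of k))} (x x' : T ⟶ K),
      (∀ (T' : Over (Spec (CommRingCat.of k))) (h : T' ⟶ T) (n : T' ⟶ N), e.ev (h ≫ x) n = e.ev (h ≫ x') n) →
        ∃ p : T ⟶ P, (x ≫ iK) * (p ≫ iP) = x' ≫ iK := fun {T} x x' hxx => by
    let z := (x ≫ iK)⁻¹ * (x' ≫ iK)
    have hz : LocLift L z := ((hKloc.comp x).inv).mul (hKloc.comp x')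
    have hperp : ThetaGrp.IsPerpPt L i z := fun T' h n β₁ β₂ h₁ h₂ => by
      obtain ⟨a, ha⟩ := exists_isPair hπ hL (hz.comp h) (hN.comp n)
      have hmul := (e.isPair (h ≫ x) n).mul_left hπ hL (hKloc.comp _) (hz.comp h) (hN.comp n) ha
      have heq : ((h ≫ x) ≫ iK) * (h ≫ z) = (h ≫ x') ≫ iK := by
        rw [Category.assoc, ← MonObj.comp_mul, show (x ≫ iK) * z = x' ≫ iK from mul_inv_cancel_left _ _,
          Category.assoc]
      rw [heq] at hmul
      have h' := hmul.unique hπ hL (hKloc.comp _) (hN.comp n) (e.isPair (h ≫ x') n)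
      rw [hxx T' h n] at h'
      rw [mul_eq_left.1 h'] at ha
      exact ha.commute h₁ h₂
    obtain ⟨p, hp⟩ := (hP T z).2 ⟨hz, hperp⟩
    exact ⟨p, by rw [hp]; exact mul_inv_cancel_left _ _⟩
  have hbwd : ∀ {T : Over (Spec (CommRingCat.of k))} (x x' : T ⟶ K) (p : T ⟶ P) (n : T ⟶ N),
      (x ≫ iK) * (p ≫ iP) = x' ≫ iK → e.ev x n = e.ev x' n := fun {T} x x' p n h => by
    obtain ⟨hz, hperp⟩ := hself p
    obtain ⟨a, ha⟩ := exists_isPair hπ hL hz (hN.comp n)
    have ha1 : a = 1 := ha.eq_one hπ hL hz (hN.comp n) fun T' g β₁ β₂ h₁ h₂ =>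
      hperp T' g (g ≫ n) β₁ β₂ h₁ (by rwa [Category.assoc])
    subst ha1
    have hmul := (e.isPair x n).mul_left hπ hL (hKloc.comp _) hz (hN.comp n) ha
    rw [h, _root_.mul_one] at hmul
    exact hmul.unique hπ hL (hKloc.comp _) (hN.comp n) (e.isPair x' n)
  obtain ⟨g', hg'⟩ : ∃ g' : K ⊗ P ⟶ K, g' ≫ iK = (fst K P ≫ iK) * (snd K P ≫ iP) :=
    hfac.2 ((hKloc.comp (fst K P)).mul (hself (snd K P)).1)
  haveI : IsAffine (K ⊗ P).left := inferInstanceAs (IsAffine (pullback K.hom P.hom))
  have hfst : (fst K P).left ≫ KLBound.toSub V = g'.left ≫ KLBound.toSub V := by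
    refine (KLBound.comp_toSub_eq_iff V _ _).2 fun r hr => KLBound.eqOn_span V hV (fst K P) g' (fun j => ?_) r hr
    let T' := K ⊗ P
    haveI : IsAffine N.left := KLRank.isAffine_of_finite N
    haveI : IsAffine (N ⊗ T').left := inferInstanceAs (IsAffine (pullback N.hom T'.hom))
    have h1 := hbwd (snd N T' ≫ fst K P) (snd N T' ≫ g') (snd N T' ≫ snd K P) (fst N T') (by
      rw [Category.assoc, Category.assoc, ← MonObj.comp_mul, ← hg', Category.assoc])
    have h2 := congrArg Units.val h1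
    rw [← Category.comp_id (snd N T' ≫ fst K P), ← Category.comp_id (snd N T' ≫ g'), hc, hc] at h2
    simp only [← pl_pl] at h2
    exact congrFun ((hb T' inferInstance).1 h2) j
  let Q := pullback (KLBound.toSub V) (KLBound.toSub V)
  haveI : IsAffine Q := inferInstanceAs (IsAffine (pullback _ _))
  let Qo : Over (Spec (CommRingCat.of k)) := Over.mk (pullback.fst (KLBound.toSub V) (KLBound.toSub V) ≫ K.hom)
  let q : Qo ⟶ K := Over.homMk (pullback.fst _ _) rfl
  let q' : Qo ⟶ K := Over.homMk (pullback.snd _ _) (by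
    show pullback.snd (KLBound.toSub V) (KLBound.toSub V) ≫ K.hom =
      pullback.fst (KLBound.toSub V) (KLBound.toSub V) ≫ K.hom
    rw [← KLBound.toSub_comp V, pullback.condition_assoc])
  have hqr := (KLBound.comp_toSub_eq_iff V q.left q'.left).1 pullback.condition
  have hcV : ∀ j, c j ∈ V := fun j => by
    rw [← Subalgebra.mem_toSubmodule, hV]; exact Submodule.subset_span ⟨j, rfl⟩
  obtain ⟨p, hp⟩ := hfwd q q' fun T' h n => Units.ext (by
    rw [← Category.comp_id (h ≫ q), ← Category.comp_id (h ≫ q'), hc, hc]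
    refine Finset.sum_congr rfl fun j _ => ?_
    rw [← pl_pl, ← pl_pl, show pl q (c j) = pl q' (c j) from hqr _ (hcV j)])
  let ψ : (K ⊗ P).left ⟶ Q := pullback.lift (fst K P).left g'.left hfst
  let ψ' : K ⊗ P ⟶ Qo := Over.homMk ψ (by
    show ψ ≫ pullback.fst (KLBound.toSub V) (KLBound.toSub V) ≫ K.hom = (K ⊗ P).hom
    rw [pullback.lift_fst_assoc, Over.w])
  have hψq : ψ' ≫ q = fst K P := Over.OverMorphism.ext (pullback.lift_fst _ _ _)
  have hψq' : ψ' ≫ q' = g' := Over.OverMorphism.ext (pullback.lift_snd _ _ _)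
  have h12 : ψ' ≫ lift q p = 𝟙 _ := by
    refine CartesianMonoidalCategory.hom_ext _ _ ?_ ?_
    · rw [Category.assoc, lift_fst, hψq, Category.id_comp]
    · rw [Category.assoc, lift_snd, Category.id_comp, ← cancel_mono iP]
      have := congrArg (ψ' ≫ ·) hp
      simp only [MonObj.comp_mul, ← Category.assoc, hψq, hψq', hg'] at this
      exact mul_left_cancel this
  have h21 : lift q p ≫ ψ' = 𝟙 _ := by
    refine Over.OverMorphism.ext (pullback.hom_ext ?_ ?_)
    · show (lift q p).left ≫ ψ ≫ pullback.fst _ _ = 𝟙 _ ≫ q.left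
      rw [pullback.lift_fst, ← Over.comp_left, lift_fst, Category.id_comp]
    · show (lift q p).left ≫ ψ ≫ pullback.snd _ _ = 𝟙 _ ≫ q'.left
      rw [pullback.lift_snd, ← Over.comp_left, Category.id_comp]
      refine congrArg CommaMorphism.left ((cancel_mono iK).1 ?_)
      rw [Category.assoc, hg', MonObj.comp_mul, lift_fst_assoc, lift_snd_assoc, hp]
  haveI : IsIso ψ := ((Over.forget _).mapIso (Iso.mk ψ' (lift q p) h12 h21)).isIso_hom
  have hQ : IsPushout (CommRingCat.ofHom (algebraMap V Γ(K.left, ⊤))) (CommRingCat.ofHom (algebraMap V Γ(K.left, ⊤)))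
      (pullback.fst (KLBound.toSub V) (KLBound.toSub V)).appTop
      (pullback.snd (KLBound.toSub V) (KLBound.toSub V)).appTop := by
    have h0 : IsPushout (KLBound.toSub V).appTop (KLBound.toSub V).appTop
        (pullback.fst (KLBound.toSub V) (KLBound.toSub V)).appTop
        (pullback.snd (KLBound.toSub V) (KLBound.toSub V)).appTop :=
      isPushout_appTop_of_isPullback (IsPullback.of_hasPullback (KLBound.toSub V) (KLBound.toSub V))
    refine h0.of_iso (Scheme.ΓSpecIso (CommRingCat.of V)) (Iso.refl _) (Iso.refl _) (Iso.refl _) ?_ ?_ (by simp) (by simp)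
    all_goals
      rw [Iso.refl_hom, Category.comp_id, show CommRingCat.ofHom (algebraMap V Γ(K.left, ⊤)) =
        (Scheme.ΓSpecIso (CommRingCat.of V)).inv ≫ (KLBound.toSub V).appTop from (KLBound.toSub_appTop V).symm]
      exact (Iso.hom_inv_id_assoc _ _).symm
  have hPP : IsPushout (CommRingCat.ofHom (algebraMap k Γ(K.left, ⊤))) (CommRingCat.ofHom (algebraMap k Γ(P.left, ⊤)))
      (fst K P).left.appTop (snd K P).left.appTop := by
    have h0 : IsPushout K.hom.appTop P.hom.appTop (fst K P).left.appTop (snd K P).left.appTop :=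
      isPushout_appTop_of_isPullback (IsPullback.of_hasPullback K.hom P.hom)
    exact h0.of_iso (Scheme.ΓSpecIso (CommRingCat.of k)) (Iso.refl _) (Iso.refl _) (Iso.refl _)
      (by rw [Iso.refl_hom, Category.comp_id]; exact (Iso.hom_inv_id_assoc _ _).symm)
      (by rw [Iso.refl_hom, Category.comp_id]; exact (Iso.hom_inv_id_assoc _ _).symm)
      (by simp) (by simp)
  let e₁ := (CommRingCat.isPushout_tensorProduct V Γ(K.left, ⊤) Γ(K.left, ⊤)).isoIsPushout _ _ hQ
  let e₂ := (CommRingCat.isPushout_tensorProduct k Γ(K.left, ⊤) Γ(P.left, ⊤)).isoIsPushout _ _ hPP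
  let eR := (e₁ ≪≫ asIso ψ.appTop ≪≫ e₂.symm).commRingCatIsoToRingEquiv
  have heR : ∀ x : Γ(K.left, ⊤), eR (x ⊗ₜ[V] 1) = x ⊗ₜ[k] 1 := fun x => by
    have h1 : e₁.hom (x ⊗ₜ[V] 1) = (pullback.fst (KLBound.toSub V) (KLBound.toSub V)).appTop x :=
      congr($((CommRingCat.isPushout_tensorProduct V Γ(K.left, ⊤) Γ(K.left, ⊤)).inl_isoIsPushout_hom _ _ hQ).hom x)
    have h2 : e₂.hom (x ⊗ₜ[k] 1) = (fst K P).left.appTop x :=
      congr($((CommRingCat.isPushout_tensorProduct k Γ(K.left, ⊤) Γ(P.left, ⊤)).inl_isoIsPushout_hom _ _ hPP).hom x)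
    show e₂.inv (ψ.appTop (e₁.hom (x ⊗ₜ[V] 1))) = _
    rw [h1, show ψ.appTop ((pullback.fst (KLBound.toSub V) (KLBound.toSub V)).appTop x) = (fst K P).left.appTop x from
      congr($((Scheme.Hom.comp_appTop ψ (pullback.fst (KLBound.toSub V) (KLBound.toSub V))).symm.trans
        (congrArg Scheme.Hom.appTop (pullback.lift_fst _ _ hfst))).hom x), ← h2]
    exact congr($(e₂.hom_inv_id).hom (x ⊗ₜ[k] 1))
  let eA : Γ(K.left, ⊤) ⊗[V] Γ(K.left, ⊤) ≃ₐ[Γ(K.left, ⊤)] Γ(K.left, ⊤) ⊗[k] Γ(P.left, ⊤) :=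
    AlgEquiv.ofRingEquiv (f := eR) fun x => heR x
  exact KLRank.finrank_le V eA.toLinearEquiv

/-- The triviality condition only depends on the class of the module. -/
theorem isKL_of_iso {A : Over (Spec (CommRingCat.of k))} [GrpObj A] {L L' : A.left.Modules} (hL : PicF.IsInvertible L)
    (hL' : PicF.IsInvertible L') (e : L ≅ L') {K : Over (Spec (CommRingCat.of k))} {iK : K ⟶ A}
    (hK : ThetaGrp.IsKL A L iK) : ThetaGrp.IsKL A L' iK := by
  refine ⟨hK.closed, fun T z => ?_⟩
  rw [← hK.univ T z, KLLib.isMumfordTriv_iff L hL (KLLib.pullCl_unit_eq_one ⟨L, rfl, hL⟩),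
    KLLib.isMumfordTriv_iff L' hL' (KLLib.pullCl_unit_eq_one ⟨L', rfl, hL'⟩), (PicGrp.cl_eq_cl_iff _ _).2 ⟨e⟩]

variable [IsAlgClosed k] {A : Over (Spec (CommRingCat.of k))} [GrpObj A] [IsCommMonObj A] [IsProper A.hom]
  [GeometricallyIntegral A.hom] {L : A.left.Modules}

/-- A maximal totally isotropic subgroup is its own orthogonal, of rank the square root of the rank of `K(L)`. -/
theorem perp_eq_self (hL : PicF.IsInvertible L) {K : Over (Spec (CommRingCat.of k))} {iK : K ⟶ A}
    (hK : ThetaGrp.IsKL A L iK) [IsFinite K.hom]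
    {H : Over (Spec (CommRingCat.of k))} [GrpObj H] {iH : H ⟶ A} [IsMonHom iH] [IsClosedImmersion iH.left]
    (hHK : ∃ y : H ⟶ K, y ≫ iK = iH) (hiso : ThetaGrp.IsIsotropic L iH)
    (hmax : ∀ (H' : Over (Spec (CommRingCat.of k))) [GrpObj H'] (iH' : H' ⟶ A) [IsMonHom iH']
      [IsClosedImmersion iH'.left], (∃ y' : H' ⟶ K, y' ≫ iK = iH') → ThetaGrp.IsIsotropic L iH' →
      (∃ z : H ⟶ H', z ≫ iH' = iH) → ∃ z' : H' ⟶ H, z' ≫ iH = iH') :
    (∀ (T : Over (Spec (CommRingCat.of k))) (x : T ⟶ A),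
        ((∃ y : T ⟶ K, y ≫ iK = x) ∧ ThetaGrp.IsPerpPt L iH x) ↔ ∃ z : T ⟶ H, z ≫ iH = x) ∧
      IsFinite H.hom ∧
      ∀ s : ↥(Spec (CommRingCat.of k)), Scheme.Hom.finrank H.hom s ^ 2 = Scheme.Hom.finrank K.hom s := by
  have hA := fun T => ThetaAV.bijective_snd (A := A) T
  haveI : IsClosedImmersion iK.left := hK.closed
  haveI : Mono iK := Over.mono_of_mono_left _
  haveI : Mono iH := Over.mono_of_mono_left _
  obtain ⟨yH, hyH⟩ := hHK
  haveI : IsClosedImmersion (yH.left ≫ iK.left) := by rw [← Over.comp_left, hyH]; infer_instance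
  haveI : IsClosedImmersion yH.left := IsClosedImmersion.of_comp yH.left iK.left
  haveI hHf : IsFinite H.hom := by rw [← Over.w yH]; infer_instance
  haveI : LocallyOfFiniteType H.hom := inferInstance
  haveI : QuasiCompact iH.left := inferInstance
  -- the quotient
  obtain ⟨B, _, f, hfM, hfF, hfS, hfP, hfK, hBs, -, hBsm⟩ := Groth.Agent.S3030.result k H A iH (fun T g n =>
    ⟨n, by rw [mul_comm g, _root_.mul_assoc, mul_inv_cancel, _root_.mul_one]⟩)
  haveI := hfM
  haveI := hfS
  haveI := hfF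
  haveI := hBsm (Groth.Agent.S1843.smooth_hom A)
  haveI : LocallyOfFiniteType B.hom := inferInstance
  haveI : IsProper B.hom := ThetaQuot.isProper_of_surjective A.hom B.hom f.left (Over.w f)
  haveI : GeometricallyIntegral B.hom :=
    ThetaQuot.geometricallyIntegral_of_flat_surjective A.hom B.hom f.left (Over.w f)
  haveI : IsCommMonObj B := isCommMonObj_of_isProper_of_geometricallyIntegral B
  haveI : IsProper (f.left ≫ B.hom) := by rw [Over.w]; infer_instance
  haveI : IsProper f.left := IsProper.of_comp f.left B.hom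
  haveI : IsFinite (fst A H).left := inferInstanceAs (IsFinite (pullback.fst A.hom H.hom))
  haveI : LocallyQuasiFinite f.left := by
    refine LocallyQuasiFinite.of_finite_preimage_singleton f.left fun y => ?_
    by_cases hy : ∃ z, f.left z = y
    · obtain ⟨z, rfl⟩ := hy
      have hp := (Groth.L15.KerFlat.isPullback_kernelPair hfK).map (Over.forget _)
      refine (((fst A H).left.finite_preimage_singleton z).image (fst A H * (snd A H ≫ iH)).left).subset fun z' hz' => ?_
      obtain ⟨w, hw, hw'⟩ := Scheme.Pullback.exists_preimage_pullback (f := f.left) (g := f.left) z z'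
        (show f.left z = f.left z' from hz'.symm)
      refine ⟨hp.isoPullback.inv w, ?_, ?_⟩
      · show (hp.isoPullback.inv ≫ (fst A H).left) w = z
        exact (congrArg (fun φ => φ w) hp.isoPullback_inv_fst).trans hw
      · show (hp.isoPullback.inv ≫ (fst A H * (snd A H ≫ iH)).left) w = z'
        exact (congrArg (fun φ => φ w) hp.isoPullback_inv_snd).trans hw'
    · exact Set.finite_empty.subset fun z hz => (hy ⟨z, hz⟩).elim
  haveI : IsFinite f.left := IsFinite.of_isProper_of_locallyQuasiFinite _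
  -- descent
  obtain ⟨M, hM, ⟨e⟩⟩ := (Groth.Agent.S19948.result k A B f hfS H iH hfK L hL K iK hK).2 ⟨⟨yH, hyH⟩, hiso⟩
  have hB := fun T => ThetaAV.bijective_snd (A := B) T
  obtain ⟨KM, iM, hKM⟩ := KLLib.exists_isKL k B M hM
  haveI : IsClosedImmersion iM.left := hKM.closed
  haveI : Mono iM := Over.mono_of_mono_left _
  have hlocM : ∀ {T : Over (Spec (CommRingCat.of k))} {z : T ⟶ B}, (∃ y : T ⟶ KM, y ≫ iM = z) ↔ LocLift M z :=
    fun {T z} => ThetaAV.locLift_iff M hM iM hKM z
  have hlocL : ∀ {T : Over (Spec (CommRingCat.of k))} {z : T ⟶ A}, (∃ y : T ⟶ K, y ≫ iK = z) ↔ LocLift L z :=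
    fun {T z} => ThetaAV.locLift_iff L hL iK hK z
  have hker : ∀ (T : Over (Spec (CommRingCat.of k))) (y : T ⟶ H), (y ≫ iH) ≫ f = 1 :=
    fun T y => ThetaAV.comp_kernel_eq_one hfK y
  have hfac : ∀ (T : Over (Spec (CommRingCat.of k))) (x : T ⟶ A),
      (∃ y : T ⟶ KM, y ≫ iM = x ≫ f) ↔ LocLift L x ∧ ThetaGrp.IsPerpPt L iH x := by
    intro T x
    rw [hlocM]
    refine ⟨fun h => ⟨locLift_of_comp f e h, isPerpPt_of_locLift f e hA hB hL hM hker h⟩, ?_⟩
    rintro ⟨h, hperp⟩ t
    obtain ⟨U, htU, α, hα⟩ := h t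
    obtain ⟨β, hβ⟩ := exists_descend f hfS hM e hfK hα fun T' g y β₁ β₂ h₁ h₂ =>
      hperp T' (g ≫ opnι T U) y β₁ β₂ (by rw [Category.assoc]; exact h₁) h₂
    exact ⟨U, htU, β, by rw [← Category.assoc]; exact hβ⟩
  -- `K(M)` is finite
  haveI hKMf : IsFinite KM.hom := by
    let P := pullback f iM
    have hsq := (IsPullback.of_hasPullback f iM).map (Over.forget _)
    haveI : IsClosedImmersion (pullback.fst f iM).left :=
      MorphismProperty.of_isPullback (P := @IsClosedImmersion) hsq.flip hKM.closed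
    obtain ⟨yP, hyP⟩ := hlocL.2 ((hfac P (pullback.fst f iM)).1 ⟨pullback.snd f iM, pullback.condition.symm⟩).1
    haveI : IsClosedImmersion (yP.left ≫ iK.left) := by rw [← Over.comp_left, hyP]; infer_instance
    haveI : IsClosedImmersion yP.left := IsClosedImmersion.of_comp yP.left iK.left
    haveI : IsFinite P.hom := by rw [← Over.w yP]; infer_instance
    haveI : DiscreteTopology P.left := Groth.Agent.S19948.discreteTopology_of_isFinite P.hom
    haveI : CompactSpace P.left := QuasiCompact.compactSpace_of_compactSpace P.hom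
    haveI : Finite P.left := finite_of_compact_of_discrete
    haveI : Surjective (pullback.snd f iM).left := MorphismProperty.of_isPullback hsq hfS
    haveI : Finite KM.left := Finite.of_surjective _ (pullback.snd f iM).left.surjective
    haveI : IsProper KM.hom := by rw [← Over.w iM]; infer_instance
    haveI : LocallyQuasiFinite KM.hom := LocallyQuasiFinite.of_finite_preimage_singleton KM.hom fun _ => Set.toFinite _
    exact IsFinite.of_isProper_of_locallyQuasiFinite KM.hom
  -- `K(M)` is trivial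
  have hiM : iM = 1 := by
    by_contra hne
    obtain ⟨E, hE, τ, hτ, hτ1⟩ := ThetaTangent.exists_self_orth hM hKM hne
    obtain ⟨H₀, _, i₀, hi₀M, hi₀c, ⟨y₀, hy₀⟩, hi₀iso, ⟨t, ht⟩⟩ :=
      ThetaOrth.exists_isotropic hB hM (hlocM.1 ⟨𝟙 KM, Category.id_comp _⟩) (fun z hz => hlocM.2 hz) τ hτ
    haveI := hi₀M
    haveI := hi₀c
    let H' := pullback f i₀
    let i' : H' ⟶ A := pullback.fst f i₀
    have hsq := (IsPullback.of_hasPullback f i₀).map (Over.forget _)
    haveI : IsClosedImmersion i'.left := MorphismProperty.of_isPullback (P := @IsClosedImmersion) hsq.flip hi₀c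
    haveI : Mono i' := Over.mono_of_mono_left _
    have hmem : ∀ {T : Over (Spec (CommRingCat.of k))} (z : T ⟶ A) (w : T ⟶ H₀), w ≫ i₀ = z ≫ f →
        ∃ y : T ⟶ H', y ≫ i' = z := fun z w h => ⟨pullback.lift z w h.symm, pullback.lift_fst _ _ _⟩
    obtain ⟨inst, hmon⟩ : ∃ _ : GrpObj H', IsMonHom i' := by
      refine Groth.L08.exists_grpObj_of_mono i' ?_ ?_ ?_
      · refine (hmem (1 : 𝟙_ _ ⟶ A) 1 (by rw [MonObj.one_comp, MonObj.one_comp])).imp fun y hy => hy.trans ?_
        rw [Hom.one_def, toUnit_unique (toUnit (𝟙_ (Over (Spec (CommRingCat.of k))))) (𝟙 _), Category.id_comp]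
      · exact hmem _ ((fst H' H' ≫ pullback.snd f i₀) * (snd H' H' ≫ pullback.snd f i₀)) (by
          simp only [MonObj.mul_comp, Category.assoc, i', pullback.condition])
      · exact hmem _ (pullback.snd f i₀)⁻¹ (by simp only [GrpObj.inv_comp, i', pullback.condition])
    have hH'loc : LocLift L i' := by
      refine ((hfac H' i').1 ⟨pullback.snd f i₀ ≫ y₀, ?_⟩).1
      rw [Category.assoc, hy₀]; exact pullback.condition.symm
    have hH'iso : ThetaGrp.IsIsotropic L i' := fun T x y α₁ α₂ h₁ h₂ => by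
      have hloc : ∀ z : T ⟶ H', LocLift M ((z ≫ i') ≫ f) := fun z =>
        hlocM.1 ⟨(z ≫ pullback.snd f i₀) ≫ y₀, by
          simp only [Category.assoc, hy₀, i', pullback.condition]⟩
      obtain ⟨a, hMp, hLp⟩ := exists_isPair_pull f e hA hB hL hM (hloc x) (hloc y)
      have ha : a = 1 := hMp.eq_one hB hM (hloc x) (hloc y) fun T' g β₁ β₂ o₁ o₂ =>
        hi₀iso T' (g ≫ x ≫ pullback.snd f i₀) (g ≫ y ≫ pullback.snd f i₀) β₁ β₂
          (by simpa only [Category.assoc, i', pullback.condition] using o₁)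
          (by simpa only [Category.assoc, i', pullback.condition] using o₂)
      subst ha
      exact hLp.commute h₁ h₂
    obtain ⟨z', hz'⟩ := hmax H' i' (hlocL.2 hH'loc) hH'iso
      ((hmem iH 1 (by rw [MonObj.one_comp]; exact (show iH ≫ f = 1 by simpa using hker H (𝟙 H)).symm)).imp fun y hy => hy)
    -- `τ` is trivial after pulling back along `f`
    let E' := pullback f (τ ≫ iM)
    have hsqE := (IsPullback.of_hasPullback f (τ ≫ iM)).map (Over.forget _)
    haveI : Epi (pullback.snd f (τ ≫ iM)).left := by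
      haveI : Surjective (pullback.snd f (τ ≫ iM)).left := MorphismProperty.of_isPullback hsqE hfS
      haveI : Flat (pullback.snd f (τ ≫ iM)).left := MorphismProperty.of_isPullback hsqE hfF
      haveI : LocallyOfFinitePresentation (pullback.snd f (τ ≫ iM)).left := MorphismProperty.of_isPullback hsqE hfP
      infer_instance
    haveI : Epi (pullback.snd f (τ ≫ iM)) := Over.epi_of_epi_left _
    refine hτ1 ((cancel_epi (pullback.snd f (τ ≫ iM))).1 ?_)
    obtain ⟨y, hy⟩ := hmem (pullback.fst f (τ ≫ iM)) (pullback.snd f (τ ≫ iM) ≫ t)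
      (by rw [Category.assoc, ht]; exact pullback.condition.symm)
    rw [← pullback.condition, ← hy, ← hz', MonObj.comp_one]
    simpa only [Category.assoc] using hker E' (y ≫ z')
  have hKM1 : ∀ s, Scheme.Hom.finrank KM.hom s = 1 := fun s => by
    obtain ⟨o, ho⟩ := hlocM.2 (LocLift.one (L := M) (T := 𝟙_ _))
    have h1 : toUnit KM ≫ o = 𝟙 KM := (cancel_mono iM).1 (by rw [Category.assoc, ho, MonObj.comp_one, Category.id_comp, hiM])
    haveI : IsIso KM.hom := ⟨o.left, by
      have := congrArg CommaMorphism.left h1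
      exact this, Over.w o⟩
    exact congrFun (Scheme.Hom.finrank_eq_one_of_isIso _) s
  -- conclusions
  refine ⟨fun T x => ?_, hHf, fun s => ?_⟩
  · rw [hlocL, ← hfac T x]
    constructor
    · rintro ⟨y, hy⟩
      have h1 : x ≫ f = 1 := by rw [← hy, hiM, MonObj.comp_one]
      exact ⟨hfK.lift x (toUnit T) (h1.trans Hom.one_def), hfK.lift_fst _ _ _⟩
    · rintro ⟨z, rfl⟩
      rw [hker T z]
      exact hlocM.2 LocLift.one
  · haveI : IsIntegral B.left :=
      haveI : Subsingleton ↥(Spec (CommRingCat.of k)) := inferInstanceAs (Subsingleton (PrimeSpectrum k))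
      GeometricallyIntegral.isIntegral_of_subsingleton B.hom
    haveI : IsLocallyNoetherian B.left := LocallyOfFiniteType.isLocallyNoetherian B.hom
    haveI := hfP
    let d := f.left.finrank (genericPoint B.left)
    have hd : ∀ y, f.left.finrank y = d := fun y =>
      (Scheme.Hom.isLocallyConstant_finrank f.left).apply_eq_of_preconnectedSpace _ _
    have hsqH := hfK.map (Over.forget _)
    haveI : IsIso (𝟙_ (Over (Spec (CommRingCat.of k)))).hom := inferInstanceAs (IsIso (𝟙 _))
    haveI : IsFinite (toUnit H).left := MorphismProperty.of_isPullback hsqH ‹IsFinite f.left›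
    haveI : Flat (toUnit H).left := MorphismProperty.of_isPullback hsqH hfF
    haveI : IsFinite (𝟙_ (Over (Spec (CommRingCat.of k)))).hom := inferInstanceAs (IsFinite (𝟙 _))
    obtain ⟨-, hH⟩ := KLRank.finrank_comp (toUnit H) (d := d) (fun y =>
      (Scheme.Hom.finrank_of_isPullback iH.left (toUnit H).left f.left η[B].left hsqH y).trans (hd _)) s
    rw [show Scheme.Hom.finrank (𝟙_ (Over (Spec (CommRingCat.of k)))).hom s = 1 from
      congrFun (Scheme.Hom.finrank_eq_one_of_isIso _) s, _root_.mul_one] at hH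
    obtain ⟨-, hK2⟩ := Groth.Agent.S19773.result k A B f hfS d hd M hM KM iM hKM 1 hKM1 K iK
      (isKL_of_iso hL (Groth.L18.Ample.isInvertible_pullback f.left hM) e.symm hK)
    rw [hK2 s, hH, _root_.mul_one]

/-- The points of `K(L)` orthogonal to all of `K(L)` are trivial. -/
theorem comp_eq_one_of_perp (hL : PicF.IsInvertible L) {K : Over (Spec (CommRingCat.of k))} {iK : K ⟶ A}
    (hK : ThetaGrp.IsKL A L iK) [IsFinite K.hom]
    {H : Over (Spec (CommRingCat.of k))} [GrpObj H] {iH : H ⟶ A} [IsMonHom iH] [IsClosedImmersion iH.left]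
    (hHK : ∃ y : H ⟶ K, y ≫ iK = iH)
    (hperp : ∀ (T : Over (Spec (CommRingCat.of k))) (x : T ⟶ A),
        ((∃ y : T ⟶ K, y ≫ iK = x) ∧ ThetaGrp.IsPerpPt L iH x) ↔ ∃ z : T ⟶ H, z ≫ iH = x)
    [IsFinite H.hom]
    (hrk : ∀ s : ↥(Spec (CommRingCat.of k)), Scheme.Hom.finrank H.hom s ^ 2 = Scheme.Hom.finrank K.hom s)
    {T : Over (Spec (CommRingCat.of k))} (y : T ⟶ K) (hy : ThetaGrp.IsPerpPt L iK (y ≫ iK)) : y ≫ iK = 1 := by
  have hπ := fun T => ThetaAV.bijective_snd (A := A) T
  haveI : IsClosedImmersion iK.left := hK.closed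
  haveI : Mono iK := Over.mono_of_mono_left _
  haveI : Mono iH := Over.mono_of_mono_left _
  obtain ⟨yH, hyH⟩ := hHK
  have hlocL : ∀ {T : Over (Spec (CommRingCat.of k))} {z : T ⟶ A}, (∃ y : T ⟶ K, y ≫ iK = z) ↔ LocLift L z :=
    fun {T z} => ThetaAV.locLift_iff L hL iK hK z
  have hKloc : LocLift L iK := hlocL.1 ⟨𝟙 K, Category.id_comp _⟩
  have hHloc : LocLift L iH := hyH ▸ hKloc.comp yH
  -- orthogonal to `H`, so in `H`
  obtain ⟨z, hz⟩ := (hperp T (y ≫ iK)).1 ⟨⟨y, rfl⟩, fun T' g w β₁ β₂ h₁ h₂ =>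
    hy T' g (w ≫ yH) β₁ β₂ h₁ (by rwa [Category.assoc, hyH])⟩
  obtain ⟨o, ho⟩ : ∃ o : 𝟙_ _ ⟶ H, o ≫ iH = 1 := ⟨1, MonObj.one_comp _⟩
  obtain ⟨mH, hmH⟩ : ∃ m : H ⊗ H ⟶ H, m ≫ iH = (fst H H ≫ iH) * (snd H H ≫ iH) :=
    ⟨fst H H * snd H H, MonObj.mul_comp _ _ _⟩
  obtain ⟨e⟩ := KLCoeff.nonempty_pairing hπ hL hHloc hKloc
  obtain ⟨d, b, hb, hspan⟩ := exists_isBas H
  haveI : IsAffine K.left := KLRank.isAffine_of_finite K
  haveI : IsAffine H.left := KLRank.isAffine_of_finite H
  letI := KLRank.gamma K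
  letI := KLRank.gamma H
  haveI : Module.Finite k Γ(H.left, ⊤) := KLRank.finite_al H
  haveI : Module.Finite k Γ(K.left, ⊤) := KLRank.finite_al K
  obtain ⟨c, V, hc, hV⟩ := KLCoeff.exists_subalgebra hπ hL hHloc hKloc hb hspan e ⟨o, ho⟩ ⟨mH, hmH⟩ (𝟙 K)
  have hle := finrank_le_span hπ hL hlocL hHloc hb e iH (fun T x => by
    rw [← hperp T x, hlocL]) c V hc hV
  -- the number of coefficients
  have hdH : d ≤ Module.finrank k Γ(H.left, ⊤) := by
    refine (Fintype.card_fin d).symm.trans_le (LinearIndependent.fintype_card_le_finrank (b := b) ?_)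
    refine Fintype.linearIndependent_iff.2 fun a ha j => ?_
    have h0 : (fun j => al (𝟙_ (Over (Spec (CommRingCat.of k)))) (a j)) = fun _ => 0 := by
      refine (hb (𝟙_ _) (inferInstanceAs (IsAffine (Spec (CommRingCat.of k))))).1 ?_
      have h := congrArg (pl (fst H (𝟙_ (Over (Spec (CommRingCat.of k)))))) ha
      rw [map_zero, map_sum] at h
      simp only [map_zero, mul_zero, Finset.sum_const_zero]
      refine Eq.trans (Finset.sum_congr rfl fun j _ => ?_) h
      rw [show a j • b j = al H (a j) * b j from rfl, map_mul, pl_al, pl_al, mul_comm]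
    haveI : Nontrivial Γ((𝟙_ (Over (Spec (CommRingCat.of k)))).left, ⊤) :=
      (Scheme.ΓSpecIso (CommRingCat.of k)).commRingCatIsoToRingEquiv.symm.injective.nontrivial
    exact (RingHom.injective (al (𝟙_ (Over (Spec (CommRingCat.of k)))))) ((congrFun h0 j).trans (map_zero _).symm)
  have hK2 := hrk (IsLocalRing.closedPoint k)
  rw [KLRank.finrank_hom_eq H, KLRank.finrank_hom_eq K] at hK2
  have hHpos : 0 < Module.finrank k Γ(H.left, ⊤) := by
    haveI : Nontrivial Γ(H.left, ⊤) := by
      haveI : Nontrivial Γ((𝟙_ (Over (Spec (CommRingCat.of k)))).left, ⊤) :=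
        (Scheme.ΓSpecIso (CommRingCat.of k)).commRingCatIsoToRingEquiv.symm.injective.nontrivial
      exact RingHom.domain_nontrivial (pl o)
    exact Module.finrank_pos
  have hVd : Module.finrank k V = Module.finrank k (Submodule.span k (Set.range c)) := by
    show Module.finrank k V.toSubmodule = _
    rw [hV]
  have hindep : LinearIndependent k c := by
    rw [linearIndependent_iff_card_eq_finrank_span, Fintype.card_fin]
    refine le_antisymm ?_ (finrank_range_le_card (R := k) c |>.trans_eq (Fintype.card_fin d))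
    rw [← hK2, pow_two, hVd] at hle
    exact hdH.trans (Nat.le_of_mul_le_mul_left hle hHpos)
  rw [← hz]
  -- check on an affine covering
  refine Over.OverMorphism.ext (T.left.affineCover.hom_ext _ _ fun j₀ => ?_)
  let T' : Over (Spec (CommRingCat.of k)) := Over.mk (T.left.affineCover.f j₀ ≫ T.hom)
  let ι' : T' ⟶ T := Over.homMk (T.left.affineCover.f j₀) rfl
  suffices h : (ι' ≫ z) ≫ iH = 1 by
    refine congrArg CommaMorphism.left (show ι' ≫ (z ≫ iH) = ι' ≫ 1 from ?_)
    rw [MonObj.comp_one, ← Category.assoc, h]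
  haveI : IsAffine T'.left := inferInstanceAs (IsAffine (T.left.affineCover.X j₀))
  haveI : IsAffine (K ⊗ T').left := inferInstanceAs (IsAffine (pullback K.hom T'.hom))
  have hev : ∀ n : T' ⟶ H, (∀ (W : Over (Spec (CommRingCat.of k))) (g : W ⟶ T'), ThetaGrp.IsPerpPt L iK (g ≫ n ≫ iH)) →
      (∑ j, pl (fst K T') (c j) * pl (snd K T') (pl n (b j)) = 1) := fun n hn => by
    have hp := e.isPair (fst K T') (snd K T' ≫ n)
    have h1 : e.ev (fst K T') (snd K T' ≫ n) = 1 := by
      have hs := hp.swap.eq_one hπ hL (hHloc.comp _) (hKloc.comp _) fun W g β₁ β₂ h₁ h₂ =>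
        hn W (g ≫ snd K T') W (𝟙 W) (g ≫ fst K T') β₁ β₂
          (by simpa only [Category.assoc, Category.id_comp] using h₁) (by simpa only [Category.assoc] using h₂)
      rwa [inv_eq_one] at hs
    have h2 := hc (K ⊗ T') (fst K T') (snd K T' ≫ n)
    rw [Category.comp_id, h1, Units.val_one] at h2
    rw [h2]
    exact Finset.sum_congr rfl fun j _ => by rw [pl_pl, mul_comm]
  have h1 := hev (ι' ≫ z) fun W g => by
    rw [Category.assoc, hz, ← Category.assoc]
    exact ThetaOrth.perp_comp hy _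
  have h2 := hev 1 fun W g => by
    rw [MonObj.one_comp, MonObj.comp_one]
    exact ThetaOrth.perp_one hπ hL W
  -- the coefficients are independent
  obtain ⟨m, f, hf, hfspan⟩ := exists_isBas K
  choose C hC using fun j => hfspan (c j)
  let Cl : (Fin d → k) →ₗ[k] (Fin m → k) := Fintype.linearCombination k C
  have hCinj : Function.Injective Cl := by
    rw [injective_iff_map_eq_zero]
    intro a ha
    refine funext (Fintype.linearIndependent_iff.1 hindep a ?_)
    calc ∑ j, a j • c j = ∑ j, ∑ l, al K (a j * C j l) * f l := Finset.sum_congr rfl fun j _ => by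
          rw [show a j • c j = al K (a j) * c j from rfl, hC j, Finset.mul_sum]
          exact Finset.sum_congr rfl fun l _ => by rw [map_mul, _root_.mul_assoc]
      _ = 0 := by
          rw [Finset.sum_comm]
          refine Finset.sum_eq_zero fun l _ => ?_
          rw [← Finset.sum_mul, ← map_sum]
          have := congrFun ha l
          simp [Cl, Fintype.linearCombination_apply, Finset.sum_apply] at this
          rw [this, map_zero, zero_mul]
  obtain ⟨D, hD⟩ := Cl.exists_leftInverse_of_injective (LinearMap.ker_eq_bot.2 hCinj)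
  let a : Fin d → Γ(T'.left, ⊤) := fun j => pl (ι' ≫ z) (b j) - pl (1 : T' ⟶ H) (b j)
  have hsum : (fun l => ∑ j, al T' (C j l) * a j) = fun _ => 0 := by
    refine (hf T' inferInstance).1 ?_
    simp only [map_zero, mul_zero, Finset.sum_const_zero, map_sum, map_mul, pl_al, Finset.mul_sum]
    rw [Finset.sum_comm]
    have h3 := h1.trans h2.symm
    rw [← sub_eq_zero, ← Finset.sum_sub_distrib] at h3
    refine Eq.trans (Finset.sum_congr rfl fun j _ => ?_) h3
    rw [← mul_sub, ← map_sub, hC j, map_sum, Finset.sum_mul]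
    refine Finset.sum_congr rfl fun l _ => ?_
    rw [map_mul, pl_al]
    ring
  have ha : ∀ j, a j = 0 := fun j => by
    have hid : ∀ i : Fin d, ∑ l, C i l * D (fun l' => if l = l' then 1 else 0) j = if i = j then 1 else 0 := fun i => by
      have h := congrArg (fun φ => φ (fun i' => if i = i' then (1 : k) else 0) j) hD
      simp only [LinearMap.comp_apply, LinearMap.id_apply] at h
      rw [show Cl (fun i' => if i = i' then (1 : k) else 0) = C i by
        ext l; simp [Cl, Fintype.linearCombination_apply, Finset.sum_apply, ite_apply]] at h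
      rw [← h]
      conv_rhs => rw [pi_eq_sum_univ (C i), map_sum]
      simp [Finset.sum_apply]
    have : ∑ l, al T' (D (fun l' => if l = l' then 1 else 0) j) * (∑ i, al T' (C i l) * a i) = a j := by
      simp only [Finset.mul_sum]
      rw [Finset.sum_comm, Finset.sum_eq_single j]
      · rw [Finset.sum_congr rfl fun l _ => show _ = al T' (C j l * D (fun l' => if l = l' then 1 else 0) j) * a j by
          rw [map_mul]; ring, ← Finset.sum_mul, ← map_sum, hid, if_pos rfl, map_one, _root_.one_mul]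
      · intro i _ hij
        rw [Finset.sum_congr rfl fun l _ => show _ = al T' (C i l * D (fun l' => if l = l' then 1 else 0) j) * a i by
          rw [map_mul]; ring, ← Finset.sum_mul, ← map_sum, hid, if_neg hij, map_zero, zero_mul]
      · exact fun h => absurd (Finset.mem_univ j) h
    rw [← this]
    exact Finset.sum_eq_zero fun l _ => by rw [congrFun hsum l, mul_zero]
  have hz1 : ι' ≫ z = (1 : T' ⟶ H) := by
    refine Over.OverMorphism.ext (ext_of_isAffine (CommRingCat.hom_ext (RingHom.ext fun r => ?_)))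
    obtain ⟨q, rfl⟩ := hspan r
    show pl (ι' ≫ z) _ = pl (1 : T' ⟶ H) _
    simp only [map_sum, map_mul, pl_al]
    exact Finset.sum_congr rfl fun j _ => by rw [sub_eq_zero.1 (ha j)]
  rw [hz1, MonObj.one_comp]

/-- Maximal totally isotropic subgroups exist. -/
theorem exists_maximal (hL : PicF.IsInvertible L) {K : Over (Spec (CommRingCat.of k))} {iK : K ⟶ A}
    (hK : ThetaGrp.IsKL A L iK) [IsFinite K.hom] :
    ∃ (H : Over (Spec (CommRingCat.of k))) (_ : GrpObj H) (iH : H ⟶ A), IsMonHom iH ∧ IsClosedImmersion iH.left ∧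
      (∃ y : H ⟶ K, y ≫ iK = iH) ∧ ThetaGrp.IsIsotropic L iH ∧
      ∀ (H' : Over (Spec (CommRingCat.of k))) [GrpObj H'] (iH' : H' ⟶ A) [IsMonHom iH']
        [IsClosedImmersion iH'.left], (∃ y' : H' ⟶ K, y' ≫ iK = iH') → ThetaGrp.IsIsotropic L iH' →
        (∃ z : H ⟶ H', z ≫ iH' = iH) → ∃ z' : H' ⟶ H, z' ≫ iH = iH' := by
  classical
  have hA := fun T => ThetaAV.bijective_snd (A := A) T
  haveI : IsClosedImmersion iK.left := hK.closed
  let s := IsLocalRing.closedPoint k
  have hbound : ∀ {X Y : Over (Spec (CommRingCat.of k))} (z : X ⟶ Y) [IsClosedImmersion z.left] [IsFinite Y.hom]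
      [IsFinite X.hom], Scheme.Hom.finrank X.hom s ≤ Scheme.Hom.finrank Y.hom s ∧
        (Scheme.Hom.finrank X.hom s = Scheme.Hom.finrank Y.hom s → IsIso z) := by
    intro X Y z _ _ _
    haveI : IsAffine X.left := KLRank.isAffine_of_finite X
    haveI : IsAffine Y.left := KLRank.isAffine_of_finite Y
    rw [KLRank.finrank_hom_eq X, KLRank.finrank_hom_eq Y]
    letI := KLRank.gamma X
    letI := KLRank.gamma Y
    haveI : Module.Finite k Γ(X.left, ⊤) := KLRank.finite_al X
    haveI : Module.Finite k Γ(Y.left, ⊤) := KLRank.finite_al Y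
    let φ : Γ(Y.left, ⊤) →ₗ[k] Γ(X.left, ⊤) :=
      { toFun := pl z
        map_add' := map_add _
        map_smul' := fun t r => by
          show pl z (al Y t * r) = al X t * pl z r
          rw [map_mul, pl_al] }
    have hsurj : Function.Surjective φ := (IsClosedImmersion.isAffine_surjective_of_isAffine (f := z.left)).2
    refine ⟨LinearMap.finrank_le_finrank_of_surjective hsurj, fun h => ?_⟩
    have hinj : Function.Injective φ := (LinearMap.injective_iff_surjective_of_finrank_eq_finrank h.symm).2 hsurj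
    haveI : IsIso z.left.appTop := (ConcreteCategory.isIso_iff_bijective _).2 ⟨hinj, hsurj⟩
    haveI : IsIso z.left := by
      have hnat := Scheme.isoSpec_hom_naturality z.left
      rw [← Iso.comp_inv_eq, Category.assoc] at hnat
      rw [← hnat]
      infer_instance
    haveI : IsIso ((Over.forget _).map z) := inferInstanceAs (IsIso z.left)
    exact isIso_of_reflects_iso z (Over.forget _)
  let Q : ℕ → Prop := fun n => ∃ (H : Over (Spec (CommRingCat.of k))) (_ : GrpObj H) (iH : H ⟶ A),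
    IsMonHom iH ∧ IsClosedImmersion iH.left ∧ (∃ y : H ⟶ K, y ≫ iK = iH) ∧ ThetaGrp.IsIsotropic L iH ∧
      Scheme.Hom.finrank H.hom s = n
  have hfin : ∀ {H : Over (Spec (CommRingCat.of k))} (y : H ⟶ K) (iH : H ⟶ A), y ≫ iK = iH →
      IsClosedImmersion iH.left → IsClosedImmersion y.left ∧ IsFinite H.hom := fun {H} y iH hy hc => by
    haveI : IsClosedImmersion (y.left ≫ iK.left) := by rw [← Over.comp_left, hy]; exact hc
    haveI : IsClosedImmersion y.left := IsClosedImmersion.of_comp y.left iK.left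
    exact ⟨inferInstance, by rw [← Over.w y]; infer_instance⟩
  have hle : ∀ n, Q n → n ≤ Scheme.Hom.finrank K.hom s := by
    rintro n ⟨H, _, iH, -, hc, ⟨y, hy⟩, -, rfl⟩
    obtain ⟨_, _⟩ := hfin y iH hy hc
    exact (hbound y).1
  have hQ : ∃ n, Q n := by
    haveI : IsClosedImmersion η[A].left := by
      haveI : IsClosedImmersion (η[A].left ≫ A.hom) := by
        rw [Over.w]; exact inferInstanceAs (IsClosedImmersion (𝟙 _))
      exact IsClosedImmersion.of_comp η[A].left A.hom
    refine ⟨_, 𝟙_ _, inferInstance, η[A], inferInstance, inferInstance, ?_, fun T x y β₁ β₂ h₁ h₂ => ?_, rfl⟩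
    · exact ((ThetaAV.locLift_iff L hL iK hK (1 : 𝟙_ _ ⟶ A)).2 LocLift.one).imp fun y hy => hy.trans (by
        rw [Hom.one_def, toUnit_unique (toUnit (𝟙_ (Over (Spec (CommRingCat.of k))))) (𝟙 _), Category.id_comp])
    · rw [toUnit_unique y x] at h₂
      obtain ⟨c, rfl⟩ := exists_scal_mul hA hL h₁ h₂
      rw [_root_.mul_assoc, ← _root_.mul_assoc β₂, ← scal_comm, _root_.mul_assoc]
  obtain ⟨n₀, hn₀⟩ := hQ
  let N := Nat.findGreatest Q (Scheme.Hom.finrank K.hom s)
  obtain ⟨H, instH, iH, hM, hc, ⟨y, hy⟩, hiso, hN⟩ : Q N := Nat.findGreatest_spec (hle n₀ hn₀) hn₀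
  refine ⟨H, instH, iH, hM, hc, ⟨y, hy⟩, hiso, fun H' _ iH' _ hc' ⟨y', hy'⟩ hiso' ⟨z, hz⟩ => ?_⟩
  obtain ⟨_, _⟩ := hfin y iH hy hc
  obtain ⟨_, _⟩ := hfin y' iH' hy' hc'
  haveI : IsClosedImmersion (z.left ≫ iH'.left) := by rw [← Over.comp_left, hz]; exact hc
  haveI : IsClosedImmersion z.left := IsClosedImmersion.of_comp z.left iH'.left
  have hQ' : Q (Scheme.Hom.finrank H'.hom s) :=
    ⟨H', inferInstance, iH', inferInstance, hc', ⟨y', hy'⟩, hiso', rfl⟩
  have := Nat.le_findGreatest (hle _ hQ') hQ'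
  haveI : IsIso z := (hbound z).2 (le_antisymm (hbound z).1 (hN ▸ this))
  exact ⟨inv z, by rw [IsIso.inv_comp_eq, hz]⟩

end Groth.Agent.ThetaMax
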