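import Groth.Agent.L26.Theta.DivCls
import Groth.Agent.L26.JacRat.GoodPts
import Groth.Agent.L26.JacRat.DegD
import Groth.Agent.L26.JacRat.TorsCount
import Groth.Agent.L21.RR.BaseChange
import Groth.Agent.L21.SmoothCurveDim
import Mathlib.AlgebraicGeometry.AlgClosed.Basic

/-!
# Rational points of a Jacobian as classes on the curve
-/

set_option autoImplicit false
set_option linter.style.haveILetI false
set_option linter.unusedSectionVars false
set_option backward.isDefEq.respectTransparency false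
set_option backward.isDefEq.respectTransparency.types false

universe u

open CategoryTheory CategoryTheory.Limits AlgebraicGeometry MonoidalCategory CartesianMonoidalCategory MonObj GrpObj
open Groth.L25.HomScheme

noncomputable section

namespace Groth.Agent.L26.Theta

open Groth.Agent.L26.JacRat Groth.Agent.L26.PicRep Groth.Agent.L26.PicSm Groth.Agent.Elliptic
attribute [local instance] Groth.L08.Cube.clMonoid Groth.Agent.L26.PicSm.curveOver

variable {k : Type u} [Field k] [IsAlgClosed k] {X : Scheme.{u}} [X.Over (Spec (CommRingCat.of k))]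
  [IsProper (X ↘ Spec (CommRingCat.of k))] [Smooth (X ↘ Spec (CommRingCat.of k))] [IsIntegral X]

variable (k) in
/-- The rational point at a closed point. -/
def secPt (P : Pt X) : Spec (CommRingCat.of k) ⟶ X := pointOfClosedPoint (X ↘ Spec (CommRingCat.of k)) P.1 P.2

theorem secPt_comp (P : Pt X) : secPt k P ≫ (X ↘ Spec (CommRingCat.of k)) = 𝟙 _ := pointOfClosedPoint_comp _ _ _

variable (k) in
/-- The point of the curve over the base at a closed point. -/
def ptOf (P : Pt X) : onePt k ⟶ Over.mk (X ↘ Spec (CommRingCat.of k)) := Over.homMk (secPt (X := X) k P) (secPt_comp (X := X) P)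

/-- The closed point of a rational point. -/
def ofSec (s : Spec (CommRingCat.of k) ⟶ X) (hs : s ≫ (X ↘ Spec (CommRingCat.of k)) = 𝟙 _) : Pt X :=
  ⟨s (IsLocalRing.closedPoint k), isClosed_point (k := k) s hs⟩

theorem secPt_ofSec (s : Spec (CommRingCat.of k) ⟶ X) (hs : s ≫ (X ↘ Spec (CommRingCat.of k)) = 𝟙 _) : secPt k (ofSec s hs) = s :=
  ext_of_apply_closedPoint_eq (X ↘ Spec (CommRingCat.of k)) (secPt_comp _) hs (pointOfClosedPoint_apply (X ↘ Spec (CommRingCat.of k)) _ _ _)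

theorem ofSec_secPt (P : Pt X) : ofSec (secPt k P) (secPt_comp P) = P :=
  Subtype.ext (pointOfClosedPoint_apply (X ↘ Spec (CommRingCat.of k)) _ _ _)

theorem ptOf_ofSec (a : onePt k ⟶ Over.mk (X ↘ Spec (CommRingCat.of k))) : ptOf k (ofSec (X := X) a.left (Over.w a)) = a :=
  Over.OverMorphism.ext (show secPt k (ofSec (X := X) a.left (Over.w a)) = a.left from
    secPt_ofSec (X := X) a.left (Over.w a))

variable (hd : topologicalKrullDim X = 1)

theorem val_idealMod (s : Spec (CommRingCat.of k) ⟶ X) (hs : s ≫ (X ↘ Spec (CommRingCat.of k)) = 𝟙 _) :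
    (uP (k := k) hd (ofSec s hs) : PicF.Cl X) = PicF.cl (ClSub.idealMod s.ker) := by
  rw [uP_val, ker_point (k := k) s hs]
  rfl

/-- Rational points of a group scheme receiving the curve, as classes on the curve. -/
structure Model {J : Over (Spec (CommRingCat.of k))} [GrpObj J] [IsCommMonObj J]
    (O : Pt X) (j : Over.mk (X ↘ Spec (CommRingCat.of k)) ⟶ J) where
  /-- The class of a point. -/
  cls : (onePt k ⟶ J) →* (PicF.Cl X)ˣ
  inj : Function.Injective cls
  mem : ∀ a, cls a ∈ invU X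
  deg0 : ∀ a, degc k (cls a : PicF.Cl X) = 0
  cls_pt : ∀ P, cls (ptOf k P ≫ j) = uP (k := k) hd O * (uP (k := k) hd P)⁻¹

namespace Model

variable {hd} {J : Over (Spec (CommRingCat.of k))} [GrpObj J] [IsCommMonObj J] {O : Pt X}
  {j : Over.mk (X ↘ Spec (CommRingCat.of k)) ⟶ J} (M : Model hd O j)

theorem cls_prod {n : ℕ} (s : Fin n → Pt X) :
    M.cls (∏ i, ptOf k (s i) ≫ j) = uP (k := k) hd O ^ n * (∏ i, uP (k := k) hd (s i))⁻¹ := by
  rw [map_prod]
  simp only [M.cls_pt, Finset.prod_mul_distrib, Finset.prod_const, Finset.card_univ, Fintype.card_fin,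
    Finset.prod_inv_distrib]

/-- The class whose sections detect sums of `r` points. -/
def sh (r : ℕ) (a : onePt k ⟶ J) : (PicF.Cl X)ˣ := M.cls a * ((uP (k := k) hd O)⁻¹) ^ r

theorem sh_mem (r : ℕ) (a : onePt k ⟶ J) : M.sh r a ∈ invU X :=
  (invU X).mul_mem (M.mem a) ((invU X).pow_mem ((invU X).inv_mem (uP_mem hd O)) r)

theorem degc_sh (r : ℕ) (a : onePt k ⟶ J) : degc k (M.sh r a : PicF.Cl X) = r := by
  induction r with
  | zero => rw [sh, pow_zero, _root_.mul_one, M.deg0]; rfl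
  | succ r ih =>
    rw [sh, pow_succ, ← _root_.mul_assoc, ← sh, degc_mul hd (M.sh_mem r a) ((invU X).inv_mem (uP_mem hd O)), ih,
      degc_inv hd (uP_mem hd O), degc_uP]
    push_cast
    ring

/-- Sums of `r` points are the classes with sections after shifting. -/
theorem exists_sum_iff (r : ℕ) (a : onePt k ⟶ J) :
    (∃ s : Fin r → Pt X, ∏ i, ptOf k (s i) ≫ j = a) ↔ 1 ≤ h0c k (M.sh r a : PicF.Cl X) := by
  constructor
  · rintro ⟨s, rfl⟩
    rw [sh, M.cls_prod, _root_.mul_comm, ← _root_.mul_assoc, ← mul_pow, inv_mul_cancel, one_pow, _root_.one_mul]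
    exact one_le_h0c_eff hd s
  · intro h
    obtain ⟨s, hs⟩ := exists_eff hd (M.sh_mem r a) (M.degc_sh r a) h
    refine ⟨s, M.inj ?_⟩
    rw [M.cls_prod, ← hs, sh, _root_.mul_left_comm, ← mul_pow, mul_inv_cancel, one_pow, _root_.mul_one]

end Model

/-- Classes on the trivial base change back on the curve. -/
def fromOne : (PicF.Cl (PicF.XT (X ↘ Spec (CommRingCat.of k)) (onePt k)))ˣ →* (PicF.Cl X)ˣ :=
  haveI : IsIso (pullback.fst (X ↘ Spec (CommRingCat.of k)) (𝟙 (Spec (CommRingCat.of k)))) := inferInstance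
  Units.map (Groth.L08.Cube.pullClHom (inv (pullback.fst (X ↘ Spec (CommRingCat.of k)) (𝟙 (Spec (CommRingCat.of k))))))

theorem fromOne_mem {x : (PicF.Cl (PicF.XT (X ↘ Spec (CommRingCat.of k)) (onePt k)))ˣ} (hx : x ∈ invU _) : fromOne x ∈ invU X :=
  map_mem_invU _ hx

theorem val_fromOne {x : (PicF.Cl (PicF.XT (X ↘ Spec (CommRingCat.of k)) (onePt k)))ˣ} {c : PicF.Cl X}
    (h : (x : PicF.Cl (PicF.XT (X ↘ Spec (CommRingCat.of k)) (onePt k))) = toOne k c) : (fromOne x : PicF.Cl X) = c := by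
  show PicF.pullCl (inv (pullback.fst (X ↘ Spec (CommRingCat.of k)) (𝟙 (Spec (CommRingCat.of k))))) (x : PicF.Cl (PicF.XT (X ↘ Spec (CommRingCat.of k)) (onePt k))) = c
  rw [h]
  show PicF.pullCl _ (PicF.pullCl _ c) = c
  rw [← PicLoc.pullCl_comp, IsIso.inv_hom_id, PicLoc.pullCl_id]

theorem fromOne_injective : Function.Injective (fromOne (k := k) (X := X)) := fun x y h => Units.ext (by
  have h2 := congrArg (PicF.pullCl (pullback.fst (X ↘ Spec (CommRingCat.of k)) (𝟙 (Spec (CommRingCat.of k))))) (congrArg Units.val h)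
  simp only [fromOne, Units.coe_map] at h2
  change PicF.pullCl _ (PicF.pullCl _ (x : PicF.Cl (PicF.XT (X ↘ Spec (CommRingCat.of k)) (onePt k)))) =
    PicF.pullCl _ (PicF.pullCl _ (y : PicF.Cl (PicF.XT (X ↘ Spec (CommRingCat.of k)) (onePt k)))) at h2
  rw [← PicLoc.pullCl_comp, ← PicLoc.pullCl_comp, IsIso.hom_inv_id] at h2
  exact (PicLoc.pullCl_id _).symm.trans (h2.trans (PicLoc.pullCl_id _)))

variable [SmoothOfRelativeDimension 1 (X ↘ Spec (CommRingCat.of k))]
  [GeometricallyConnected (X ↘ Spec (CommRingCat.of k))]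
  {σ : Spec (CommRingCat.of k) ⟶ X} {hσ : σ ≫ (X ↘ Spec (CommRingCat.of k)) = 𝟙 _}

theorem degc_fromOne {x : (PicF.Cl (PicF.XT (X ↘ Spec (CommRingCat.of k)) (onePt k)))ˣ} (hx : x ∈ invU _) :
    degc k (fromOne x : PicF.Cl X) = degU (X ↘ Spec (CommRingCat.of k)) (onePt k) x (IsLocalRing.closedPoint k) := by
  obtain ⟨N, hN, hNi⟩ := exists_mod (fromOne_mem hx)
  let e := pullback.fst (X ↘ Spec (CommRingCat.of k)) (𝟙 (Spec (CommRingCat.of k)))
  have hx' : PicF.cl ((Scheme.Modules.pullback e).obj N) = (x : PicF.Cl (PicF.XT (X ↘ Spec (CommRingCat.of k)) (onePt k))) := by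
    show PicF.pullCl e (PicF.cl N) = _
    rw [hN]
    show PicF.pullCl e (PicF.pullCl (inv e) _) = _
    rw [← PicLoc.pullCl_comp, IsIso.hom_inv_id, PicLoc.pullCl_id]
  rw [← hN, degc_cl, ← deg_eq_degU (f := (X ↘ Spec (CommRingCat.of k))) (𝟙 _) (Groth.L18.Ample.isInvertible_pullback e hNi) hx']
  haveI := curve_proper (f := (X ↘ Spec (CommRingCat.of k))) (𝟙 (Spec (CommRingCat.of k)))
  exact (Groth.L21.RR.deg_pullback (k := k) (K := k) e (by
    rw [Algebra.algebraMap_self, CommRingCat.ofHom_id, Spec.map_id]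
    exact IsPullback.of_hasPullback _ _) hNi).symm

variable {J₀ : Over (Spec (CommRingCat.of k))} {ξ : (deg0Fam (X ↘ Spec (CommRingCat.of k)) σ hσ).obj J₀}
  (hJ₀ : (deg0Fam (X ↘ Spec (CommRingCat.of k)) σ hσ).IsRep J₀ ξ)

theorem nrm_one {x : (PicF.Cl (PicF.XT (X ↘ Spec (CommRingCat.of k)) (onePt k)))ˣ} (hx : x ∈ invU _) :
    nrm σ hσ (onePt k) x = x := by
  have e : sT σ hσ (onePt k) x = 1 := invU_field_eq_one (map_mem_invU _ hx)
  rw [nrm_def, e, map_one, inv_one, _root_.mul_one]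

/-- The class of a value of the classifying morphism. -/
theorem fromOne_valAt_cls {L : (PicF.XT (X ↘ Spec (CommRingCat.of k)) (onePt k)).Modules} (h : (ModFun.PicDeg (X ↘ Spec (CommRingCat.of k)) 0).ok (onePt k) L)
    {c : PicF.Cl X} (hc : PicF.cl L = toOne k c) :
    (fromOne (valAt ξ (cls hJ₀ L h)) : PicF.Cl X) = c := by
  obtain ⟨x, hx, hxL, -⟩ := exists_unit_of_ok h
  rw [valAt_cls hJ₀ h hx hxL, nrm_one hx]
  exact val_fromOne (hxL.trans hc)

/-- A Jacobian with an Abel map has a model, with the canonical point identified. -/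
theorem exists_model {J : Over (Spec (CommRingCat.of k))} [GrpObj J] [IsCommMonObj J]
    {ψ : (ModFun.PicDeg (X ↘ Spec (CommRingCat.of k)) 0).Hom ⊤ J} (hJ : Jac.IsJacobian (X ↘ Spec (CommRingCat.of k)) ⊤ J ψ)
    {j : Over.mk (X ↘ Spec (CommRingCat.of k)) ⟶ J} (hj : Jac.IsAbelJacobiAt (X ↘ Spec (CommRingCat.of k)) σ ψ j) :
    IsProper J.hom ∧ ∃ M : Model hd (ofSec σ hσ) j,
      ∀ (L : (PicF.XT (X ↘ Spec (CommRingCat.of k)) (onePt k)).Modules) (hT) (h : (ModFun.PicDeg (X ↘ Spec (CommRingCat.of k)) 0).ok (onePt k) L) (c : PicF.Cl X),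
        PicF.cl L = toOne k c → (M.cls (ψ.app (onePt k) L hT h) : PicF.Cl X) = c := by
  obtain ⟨J₁, ξ₁, hJ₁, hp, -, hi⟩ := exists_jacobian k σ hσ
  letI := grpObjRep hJ₁
  haveI := isCommMonObj_of_isProper_of_geometricallyIntegral J₁
  obtain ⟨m, n, hmn, hnm, hm, hn, hψ, hjm⟩ := exists_iso_coarse hJ₁ hJ
  haveI : IsProper J.hom := by
    haveI : IsIso n.left := ⟨m.left, by rw [← Over.comp_left, hnm]; rfl, by rw [← Over.comp_left, hmn]; rfl⟩
    rw [← Over.w n]; infer_instance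
  have hjn : j = jmap σ hσ hJ₁ ≫ m := hjm j hj
  have hclsmem : ∀ a : onePt k ⟶ J₁, valAt ξ₁ a ∈ invU _ := fun a => (valAt_mem a).1.1
  let F : (onePt k ⟶ J) →* (PicF.Cl X)ˣ := MonoidHom.mk' (fun a => fromOne (valAt ξ₁ (a ≫ n))) fun a b => by
    haveI := hn
    rw [show (a * b) ≫ n = (a ≫ n) * (b ≫ n) from MonObj.mul_comp a b n, valAt_mul hJ₁, map_mul]
  refine ⟨inferInstance, ⟨F, fun a b h => ?_, fun a => fromOne_mem (hclsmem _), fun a => ?_, fun P => ?_⟩, ?_⟩
  · have h1 := valAt_inj hJ₁ (fromOne_injective h)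
    rw [← Category.comp_id a, ← hnm, reassoc_of% h1, hnm, Category.comp_id]
  · exact (degc_fromOne (hclsmem _)).trans ((valAt_mem (a ≫ n)).2 _)
  · show fromOne (valAt ξ₁ ((ptOf k P ≫ j) ≫ n)) = _
    rw [hjn, Category.assoc, Category.assoc, hmn, Category.comp_id, valAt_comp_jmap, diffCl,
      nrm_one ((invU _).mul_mem (uI_mem _) ((invU _).inv_mem (uI_mem _))), map_mul, map_inv]
    have hv : ∀ (s : Spec (CommRingCat.of k) ⟶ X) (hs : s ≫ (X ↘ Spec (CommRingCat.of k)) = 𝟙 _),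
        fromOne (uI (ptX k s hs)) = uP (k := k) hd (ofSec s hs) := fun s hs => Units.ext
      ((val_fromOne (val_uI_ptX s hs)).trans (val_idealMod hd s hs).symm)
    have hpt : ptOf k P = ptX k (secPt k P) (secPt_comp P) :=
      Over.OverMorphism.ext (show secPt k P = 𝟙 _ ≫ secPt k P from (Category.id_comp _).symm)
    rw [hpt, hv, hv, ofSec_secPt]
  · intro L hT h c hc
    show (fromOne (valAt ξ₁ (ψ.app (onePt k) L hT h ≫ n)) : PicF.Cl X) = c
    rw [hψ (onePt k) L hT h, Category.assoc, hmn, Category.comp_id]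
    exact fromOne_valAt_cls hJ₁ h hc

end Groth.Agent.L26.Theta
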