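import Groth.Agent.L26.Theta.Sets

/-!
# Relations between the images of the powers of a curve in its Jacobian
-/

set_option autoImplicit false
set_option linter.style.haveILetI false
set_option linter.unusedSectionVars false
set_option backward.isDefEq.respectTransparency false
set_option backward.isDefEq.respectTransparency.types false

universe u

open CategoryTheory CategoryTheory.Limits AlgebraicGeometry MonoidalCategory CartesianMonoidalCategory MonObj GrpObj

noncomputable section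

namespace Groth.Agent.L26.Theta

open Groth.Agent.L26.JacRat Groth.Agent.L26.PicRep
attribute [local instance] Groth.L08.Cube.clMonoid

variable {k : Type u} [Field k] [IsAlgClosed k] {X : Scheme.{u}} [X.Over (Spec (CommRingCat.of k))]
  [IsProper (X ↘ Spec (CommRingCat.of k))] [Smooth (X ↘ Spec (CommRingCat.of k))] [IsIntegral X]
  {J : Over (Spec (CommRingCat.of k))} [GrpObj J] [IsCommMonObj J] {hd : topologicalKrullDim X = 1} {O : Pt X}
  {j : Over.mk (X ↘ Spec (CommRingCat.of k)) ⟶ J} (M : Model hd O j)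

theorem Model.sh_mul_sum (n r : ℕ) (c : onePt k ⟶ J) (s : Fin r → Pt X) :
    M.sh (n + r) (c * ∏ i, ptOf k (s i) ≫ j) = M.sh n c * (∏ i, uP (k := k) hd (s i))⁻¹ := by
  simp only [Model.sh, map_mul, M.cls_prod, pow_add, inv_pow]
  generalize M.cls c = A
  generalize uP (k := k) hd O ^ r = B
  generalize (uP (k := k) hd O ^ n)⁻¹ = D
  generalize (∏ i, uP (k := k) hd (s i))⁻¹ = E
  calc A * (B * E) * (D * B⁻¹) = A * D * E * (B * B⁻¹) := by ac_rfl
    _ = A * D * E := by rw [mul_inv_cancel, _root_.mul_one]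

theorem Model.forall_sum_iff {n r : ℕ} (hn : n + r + 1 = Curv2.genus k X) (c : onePt k ⟶ J) :
    (∀ s : Fin r → Pt X, 1 ≤ h0c k (M.sh (n + r) (c * ∏ i, ptOf k (s i) ≫ j) : PicF.Cl X)) ↔
      1 ≤ h0c k (M.sh n c : PicF.Cl X) := by
  constructor
  · intro h
    by_contra hne
    obtain ⟨s, hs⟩ := exists_extend (k := k) hd r (M.sh_mem n c) (by omega) (by rw [M.degc_sh]; omega)
    have := h s
    rw [M.sh_mul_sum] at this
    omega
  · intro h s
    rw [M.sh_mul_sum]
    exact h.trans (h0c_le_add_eff (k := k) hd (M.sh_mem n c) s)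

/-- Reflection in the canonical point preserves the classes of degree one less than the genus. -/
theorem Model.reflect {g : ℕ} (hg : Curv2.genus k X = g + 1) (κ z : onePt k ⟶ J)
    (hκ : M.cls κ = uK (k := k) hd * uP (k := k) hd O ^ (g + g)) :
    1 ≤ h0c k (M.sh g (κ * z⁻¹) : PicF.Cl X) ↔ 1 ≤ h0c k (M.sh g z : PicF.Cl X) := by
  have e : M.sh g (κ * z⁻¹) = uK (k := k) hd * (M.sh g z)⁻¹ := by
    simp only [Model.sh, map_mul, map_inv, hκ, pow_add, inv_pow, _root_.mul_inv, _root_.inv_inv]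
    generalize M.cls z = A
    generalize uP (k := k) hd O ^ g = B
    calc uK (k := k) hd * (B * B) * A⁻¹ * B⁻¹ = uK (k := k) hd * (A⁻¹ * B) * (B * B⁻¹) := by ac_rfl
      _ = uK (k := k) hd * (A⁻¹ * B) := by rw [mul_inv_cancel, _root_.mul_one]
  have h := rr (k := k) hd (M.sh_mem g z)
  rw [← e, M.degc_sh, hg] at h
  push_cast at h
  omega

variable (hd) in
theorem h0c_eff_uP_of_mem {n : ℕ} (s : Fin (n + 1) → Pt X) (i : Fin (n + 1)) :
    (∏ l, uP (k := k) hd (s l))⁻¹ * uP (k := k) hd (s i) = (∏ l, uP (k := k) hd (s (i.succAbove l)))⁻¹ := by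
  rw [Fin.prod_univ_succAbove _ i, _root_.mul_inv, _root_.mul_comm, ← _root_.mul_assoc, mul_inv_cancel, _root_.one_mul]

variable (hd) in
/-- The cases of an effective class minus a point having sections. -/
theorem eff_eff_uP {r m : ℕ} (hm : r + m + 2 = Curv2.genus k X) (s : Fin (r + 1) → Pt X) (E : Fin (m + 1) → Pt X)
    (Q : Pt X) (hQ : ∀ i, E i ≠ Q) :
    1 ≤ h0c k (((∏ l, uP (k := k) hd (s l))⁻¹ * (∏ l, uP (k := k) hd (E l))⁻¹ * uP (k := k) hd Q :
        (PicF.Cl X)ˣ) : PicF.Cl X) ↔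
      1 ≤ h0c k (((∏ l, uP (k := k) hd (s l))⁻¹ * uP (k := k) hd Q : (PicF.Cl X)ˣ) : PicF.Cl X) ∨
      1 ≤ h0c k ((uK (k := k) hd * ((∏ l, uP (k := k) hd (s l))⁻¹ * (∏ l, uP (k := k) hd (E l))⁻¹)⁻¹ :
        (PicF.Cl X)ˣ) : PicF.Cl X) := by
  have hSE : (∏ l, uP (k := k) hd (s l))⁻¹ * (∏ l, uP (k := k) hd (E l))⁻¹ ∈ invU X :=
    (invU X).mul_mem (effU_mem hd s) (effU_mem hd E)
  have happ : (∏ l, uP (k := k) hd (s l))⁻¹ * (∏ l, uP (k := k) hd (E l))⁻¹ =
      (∏ l, uP (k := k) hd (Fin.append s E l))⁻¹ := by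
    rw [Fin.prod_univ_add (fun l => uP (k := k) hd (Fin.append s E l)), _root_.mul_inv]
    simp only [Fin.append_left, Fin.append_right]
  have hdeg := degc_eff (k := k) hd (Fin.append s E)
  rw [← happ] at hdeg
  have hrr := rr (k := k) hd hSE
  rw [hdeg] at hrr
  push_cast at hrr
  constructor
  · intro h
    by_cases hin : ∃ i, s i = Q
    · obtain ⟨i, rfl⟩ := hin
      left
      rw [h0c_eff_uP_of_mem hd s i]
      exact one_le_h0c_eff (k := k) hd _
    · refine Or.inr ?_
      push Not at hin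
      have hlt := h0c_lt_of_notMem (k := k) hd (Fin.append s E) Q fun i => by
        induction i using Fin.addCases with
        | left l => rw [Fin.append_left]; exact hin l
        | right l => rw [Fin.append_right]; exact hQ l
      rw [← happ] at hlt
      simp only [Units.val_mul] at h hlt hrr ⊢
      omega
  · rintro (h | h)
    · rw [mul_right_comm]
      exact h.trans (h0c_le_add_eff (k := k) hd ((invU X).mul_mem (effU_mem hd s) (uP_mem hd Q)) E)
    · have h3 := (twist_uP (k := k) hd hSE Q).2.2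
      simp only [Units.val_mul] at h h3 hrr ⊢
      omega

variable (hd) in
/-- The twisted canonical family. -/
theorem cl_canonical (σ : Spec (CommRingCat.of k) ⟶ X) (hσ : σ ≫ (X ↘ Spec (CommRingCat.of k)) = 𝟙 _) (n : ℕ)
    (Kf : (PicF.XT (X ↘ Spec (CommRingCat.of k)) (onePt k)).Modules)
    (hKf : Nonempty (Kf ≅ (Scheme.Modules.pullback (pullback.fst (X ↘ Spec (CommRingCat.of k)) (onePt k).hom)).obj
      (CohB1.tensorMod (Omega.sheaf (X ↘ Spec (CommRingCat.of k))) (CohB1.tensorPow (ClSub.idealMod σ.ker) n)))) :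
    PicF.cl Kf = toOne k ((uK (k := k) hd * uP (k := k) hd (ofSec σ hσ) ^ n : (PicF.Cl X)ˣ) : PicF.Cl X) := by
  obtain ⟨e⟩ := hKf
  rw [AbDualLib.cl_congr e, Units.val_mul, Units.val_pow_eq_pow_val, uK_val, val_idealMod,
    ← Groth.L08.Cube.cl_tensorPow]
  rfl

end Groth.Agent.L26.Theta
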