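import Groth.Agent.L26.Theta.Model
import Groth.Prelude.Def_SymProd
import Groth.Prelude.Def_Jac

/-!
# Closed subsets of a Jacobian through their rational points
-/

set_option autoImplicit false
set_option linter.style.haveILetI false
set_option linter.unusedSectionVars false
set_option backward.isDefEq.respectTransparency false
set_option backward.isDefEq.respectTransparency.types false

universe u

open CategoryTheory CategoryTheory.Limits AlgebraicGeometry MonoidalCategory CartesianMonoidalCategory MonObj GrpObj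

noncomputable section

namespace Groth.Agent.L26.Theta

open Groth.Agent.L26.JacRat

variable {k : Type u} [Field k]

/-- The closed point under a rational point. -/
def pt {T : Over (Spec (CommRingCat.of k))} (a : onePt k ⟶ T) : T.left := a.left (IsLocalRing.closedPoint k)

theorem forall_mem_iff {T : Over (Spec (CommRingCat.of k))} (a : onePt k ⟶ T) (S : Set T.left) :
    (∀ p, a.left.base p ∈ S) ↔ pt a ∈ S :=
  ⟨fun h => h _, fun h p => by rwa [Subsingleton.elim (α := PrimeSpectrum k) p (IsLocalRing.closedPoint k)]⟩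

theorem pt_comp {T T' : Over (Spec (CommRingCat.of k))} (a : onePt k ⟶ T) (h : T ⟶ T') :
    pt (a ≫ h) = h.left (pt a) := Scheme.Hom.comp_apply _ _ _

variable [IsAlgClosed k] {T J : Over (Spec (CommRingCat.of k))}

theorem isClosed_pt [LocallyOfFiniteType J.hom] (a : onePt k ⟶ J) :
    IsClosed ({pt a} : Set J.left) :=
  (pointEquivClosedPoint J.hom ⟨a.left, Over.w a⟩).2

theorem exists_pt [LocallyOfFiniteType J.hom] {z : J.left} (hz : IsClosed ({z} : Set J.left)) :
    ∃ a : onePt k ⟶ J, pt a = z :=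
  ⟨Over.homMk (pointOfClosedPoint J.hom z hz) (pointOfClosedPoint_comp _ _ _), pointOfClosedPoint_apply _ _ _ _⟩

theorem pt_injective [LocallyOfFiniteType J.hom] {a b : onePt k ⟶ J} (h : pt a = pt b) : a = b :=
  Over.OverMorphism.ext (ext_of_apply_closedPoint_eq J.hom (Over.w a) (Over.w b) h)

theorem subset_of_pts [LocallyOfFiniteType J.hom] {A B : Set J.left} (hA : IsClosed A) (hB : IsClosed B)
    (h : ∀ a : onePt k ⟶ J, pt a ∈ A → pt a ∈ B) : A ⊆ B := by
  haveI : JacobsonSpace ↥J.left := LocallyOfFiniteType.jacobsonSpace J.hom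
  rw [← closure_inter_closedPoints hA]
  refine hB.closure_subset_iff.2 fun z hz => ?_
  obtain ⟨a, rfl⟩ := exists_pt (J := J) hz.2
  exact h a hz.1

theorem eq_of_pts [LocallyOfFiniteType J.hom] {A B : Set J.left} (hA : IsClosed A) (hB : IsClosed B)
    (h : ∀ a : onePt k ⟶ J, pt a ∈ A ↔ pt a ∈ B) : A = B :=
  (subset_of_pts hA hB fun a => (h a).1).antisymm (subset_of_pts hB hA fun a => (h a).2)

theorem isClosed_range_of_proper [IsProper T.hom] [IsSeparated J.hom] (h : T ⟶ J) :
    IsClosed (Set.range h.left) := by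
  haveI : IsProper (h.left ≫ J.hom) := by rw [Over.w h]; infer_instance
  haveI : IsProper h.left := IsProper.of_comp h.left J.hom
  exact h.left.isClosedMap.isClosed_range

theorem pt_mem_range_iff [IsProper T.hom] [IsProper J.hom] (h : T ⟶ J) (a : onePt k ⟶ J) :
    pt a ∈ Set.range h.left ↔ ∃ q : onePt k ⟶ T, q ≫ h = a := by
  refine ⟨fun ha => ?_, fun ⟨q, hq⟩ => ⟨pt q, by rw [← hq, pt_comp]⟩⟩
  haveI : JacobsonSpace ↥T.left := LocallyOfFiniteType.jacobsonSpace T.hom
  have hcl : IsClosed (h.left ⁻¹' {pt a}) := (isClosed_pt a).preimage h.left.continuous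
  obtain ⟨w, hw⟩ := ha
  obtain ⟨z, hz, hzc⟩ := nonempty_inter_closedPoints ⟨w, hw⟩ hcl.isLocallyClosed
  obtain ⟨q, hq⟩ := exists_pt (J := T) hzc
  exact ⟨q, pt_injective (by rw [pt_comp, hq]; exact hz)⟩

section Transl

variable [GrpObj J]

theorem comp_transl {W : Over (Spec (CommRingCat.of k))} (a : W ⟶ J)
    (b : 𝟙_ (Over (Spec (CommRingCat.of k))) ⟶ J) :
    a ≫ Jac.transl J b = a * (toUnit W ≫ b) := by
  rw [Jac.transl, MonObj.comp_mul, Category.comp_id, ← Category.assoc, comp_toUnit]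

theorem transl_comp_transl (b c : 𝟙_ (Over (Spec (CommRingCat.of k))) ⟶ J) :
    Jac.transl J b ≫ Jac.transl J c = Jac.transl J (b * c) := by
  rw [comp_transl, Jac.transl, Jac.transl, MonObj.comp_mul, _root_.mul_assoc]

theorem transl_one : Jac.transl J (1 : 𝟙_ (Over (Spec (CommRingCat.of k))) ⟶ J) = 𝟙 J := by
  rw [Jac.transl, MonObj.comp_one, _root_.mul_one]

/-- Translations are the preimages of the opposite translation. -/
theorem image_transl (b : 𝟙_ (Over (Spec (CommRingCat.of k))) ⟶ J) (S : Set J.left) :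
    (Jac.transl J b).left.base '' S = (Jac.transl J b⁻¹).left ⁻¹' S := by
  have key : ∀ c d : 𝟙_ (Over (Spec (CommRingCat.of k))) ⟶ J, c * d = 1 → ∀ z,
      (Jac.transl J d).left ((Jac.transl J c).left z) = z := fun c d h z => by
    rw [← Scheme.Hom.comp_apply, ← Over.comp_left, transl_comp_transl, h, transl_one]
    rfl
  ext z
  constructor
  · rintro ⟨w, hw, rfl⟩
    show (Jac.transl J b⁻¹).left _ ∈ S
    rwa [key b b⁻¹ (mul_inv_cancel b)]
  · intro hz
    exact ⟨_, hz, key b⁻¹ b (inv_mul_cancel b) z⟩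

theorem isClosed_image_transl (b : 𝟙_ (Over (Spec (CommRingCat.of k))) ⟶ J) {S : Set J.left} (hS : IsClosed S) :
    IsClosed ((Jac.transl J b).left.base '' S) := by
  rw [image_transl]
  exact hS.preimage (Jac.transl J b⁻¹).left.continuous

theorem pt_mem_image_transl (b : onePt k ⟶ J) (S : Set J.left) (a : onePt k ⟶ J) :
    pt a ∈ (Jac.transl J b).left.base '' S ↔ pt (a * b⁻¹) ∈ S := by
  rw [image_transl, Set.mem_preimage, ← pt_comp, comp_transl,
    toUnit_unique (toUnit (onePt k)) (𝟙 (onePt k)), Category.id_comp]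

theorem image_inv (S : Set J.left) :
    ((𝟙 J)⁻¹).left.base '' S = ((𝟙 J)⁻¹).left ⁻¹' S := by
  have key : ∀ z, ((𝟙 J)⁻¹ : J ⟶ J).left (((𝟙 J)⁻¹ : J ⟶ J).left z) = z := fun z => by
    rw [← Scheme.Hom.comp_apply, ← Over.comp_left, GrpObj.comp_inv, Category.comp_id, _root_.inv_inv]
    rfl
  ext z
  constructor
  · rintro ⟨w, hw, rfl⟩
    show ((𝟙 J)⁻¹ : J ⟶ J).left _ ∈ S
    rwa [key]
  · exact fun hz => ⟨_, hz, key z⟩

theorem isClosed_image_inv {S : Set J.left} (hS : IsClosed S) :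
    IsClosed (((𝟙 J)⁻¹).left.base '' S) := by
  rw [image_inv]
  exact hS.preimage ((𝟙 J)⁻¹ : J ⟶ J).left.continuous

theorem pt_mem_image_inv (S : Set J.left) (a : onePt k ⟶ J) :
    pt a ∈ ((𝟙 J)⁻¹).left.base '' S ↔ pt a⁻¹ ∈ S := by
  rw [image_inv, Set.mem_preimage, ← pt_comp, GrpObj.comp_inv, Category.comp_id]

end Transl

section Pow

variable {X : Scheme.{u}} [X.Over (Spec (CommRingCat.of k))] [IsProper (X ↘ Spec (CommRingCat.of k))]
  [Smooth (X ↘ Spec (CommRingCat.of k))] [IsIntegral X] [SmoothOfRelativeDimension 1 (X ↘ Spec (CommRingCat.of k))]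
  [GeometricallyConnected (X ↘ Spec (CommRingCat.of k))]

variable (k X) in
/-- The fibre power over the base. -/
abbrev fib (r : ℕ) : Over (Spec (CommRingCat.of k)) :=
  Over.mk (WidePullback.base fun (_ : Fin r) => (X ↘ Spec (CommRingCat.of k)))

variable (k X) in
/-- A projection of the fibre power. -/
abbrev fibPr {r : ℕ} (i : Fin r) : fib k X r ⟶ Over.mk (X ↘ Spec (CommRingCat.of k)) :=
  Over.homMk (WidePullback.π (fun (_ : Fin r) => (X ↘ Spec (CommRingCat.of k))) i)
    (WidePullback.π_arrow (fun (_ : Fin r) => (X ↘ Spec (CommRingCat.of k))) i)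

theorem exists_fib_point {r : ℕ} {W : Over (Spec (CommRingCat.of k))}
    (a : Fin r → (W ⟶ Over.mk (X ↘ Spec (CommRingCat.of k)))) :
    ∃ q : W ⟶ fib k X r, ∀ i, q ≫ fibPr k X i = a i :=
  ⟨Over.homMk (WidePullback.lift W.hom (fun i => (a i).left) fun i => Over.w (a i)) (WidePullback.lift_base _ _ _ _),
    fun i => Over.OverMorphism.ext (WidePullback.lift_π _ _ _ _ _)⟩

instance isProper_fib (r : ℕ) : IsProper (fib k X r).hom := by
  haveI := isProper_cp (f := X ↘ Spec (CommRingCat.of k)) r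
  obtain ⟨v, hv⟩ := exists_fib_point (k := k) (X := X) (proj (X ↘ Spec (CommRingCat.of k)) r)
  let w : fib k X r ⟶ cp (X ↘ Spec (CommRingCat.of k)) r := tup (fibPr k X)
  have hwv : w ≫ v = 𝟙 _ := Over.OverMorphism.ext (WidePullback.hom_ext _ _ _ (fun i => by
    have h := congrArg CommaMorphism.left (show (w ≫ v) ≫ fibPr k X i = 𝟙 _ ≫ fibPr k X i by
      rw [Category.assoc, hv, tup_proj, Category.id_comp])
    exact h) (Over.w (w ≫ v) |>.trans (Category.id_comp _).symm))
  have hvw : v ≫ w = 𝟙 _ := cp_hom_ext fun i => by rw [Category.assoc, tup_proj, hv, Category.id_comp]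
  haveI : IsIso w.left := ⟨v.left, by rw [← Over.comp_left, hwv]; rfl, by rw [← Over.comp_left, hvw]; rfl⟩
  rw [← Over.w w]
  infer_instance

variable [GrpObj J] [IsCommMonObj J]

/-- The sum map on the fibre power. -/
abbrev sumW (j : Over.mk (X ↘ Spec (CommRingCat.of k)) ⟶ J) (r : ℕ) : fib k X r ⟶ J :=
  (List.ofFn fun i : Fin r => fibPr k X i ≫ j).prod

theorem isClosed_range_sumW [IsSeparated J.hom] (j : Over.mk (X ↘ Spec (CommRingCat.of k)) ⟶ J) (r : ℕ) :
    IsClosed (Set.range (sumW j r).left.base) :=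
  isClosed_range_of_proper _

theorem pt_mem_range_sumW [IsProper J.hom] (j : Over.mk (X ↘ Spec (CommRingCat.of k)) ⟶ J) (r : ℕ)
    (a : onePt k ⟶ J) :
    pt a ∈ Set.range (sumW j r).left.base ↔ ∃ s : Fin r → Pt X, ∏ i, ptOf k (s i) ≫ j = a := by
  refine (pt_mem_range_iff _ a).trans ⟨fun ⟨q, hq⟩ => ⟨fun i => ofSec (X := X) (q ≫ fibPr k X i).left (Over.w _), ?_⟩,
    fun ⟨s, hs⟩ => ?_⟩
  · rw [← hq, sumW, List.prod_ofFn, comp_prod]
    exact Finset.prod_congr rfl fun i _ => by rw [ptOf_ofSec, Category.assoc]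
  · obtain ⟨q, hq⟩ := exists_fib_point (k := k) (X := X) fun i => ptOf k (s i)
    refine ⟨q, ?_⟩
    rw [← hs, sumW, List.prod_ofFn, comp_prod]
    exact Finset.prod_congr rfl fun i _ => by rw [← Category.assoc, hq]

/-- The rational points of a translate of an image of a power. -/
theorem Model.pt_mem_transl_range [IsProper J.hom] {hd : topologicalKrullDim X = 1} {O : Pt X}
    {j : Over.mk (X ↘ Spec (CommRingCat.of k)) ⟶ J} (M : Model hd O j) (r : ℕ)
    (b : onePt k ⟶ J) (a : onePt k ⟶ J) :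
    pt a ∈ (Jac.transl J b).left.base '' Set.range (sumW j r).left.base ↔
      1 ≤ h0c k (M.sh r (a * b⁻¹) : PicF.Cl X) := by
  rw [pt_mem_image_transl, pt_mem_range_sumW, M.exists_sum_iff]

theorem Model.pt_mem_range [IsProper J.hom] {hd : topologicalKrullDim X = 1} {O : Pt X}
    {j : Over.mk (X ↘ Spec (CommRingCat.of k)) ⟶ J} (M : Model hd O j) (r : ℕ) (a : onePt k ⟶ J) :
    pt a ∈ Set.range (sumW j r).left.base ↔ 1 ≤ h0c k (M.sh r a : PicF.Cl X) := by
  rw [pt_mem_range_sumW, M.exists_sum_iff]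

end Pow

end Groth.Agent.L26.Theta
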